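import Cfsg.Agent.H54.GRDBruhat
import Cfsg.Agent.H67.StValue

/-! General root group data which generate the ambient group: (B,N)-pair, Steinberg character,
number of unipotent elements (copied from the `H67` development). -/

set_option autoImplicit false
set_option linter.unusedSectionVars false

namespace H54

open Cfsg H64 H28
open H67 hiding bnTop bnTop_B bnTop_N sEq sEq_val wEq wEq_mk wEq_sim inCell_iff_cell cell_wOf wEq_wOf
  len_wEq wEq_mem_WJ cellSubgroup_bnTop isLongest_wOf exists_longest_n0 index_B_modEq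
  not_dvd_index_U pow_factorization_eq_card_U mem_PJ_iff_UJ_LJ stRel_of_mem_U exists_conj_mem_U
  sum_stRel_unipotent card_unipotent

section Top

variable {Φ ι : Type*} {R : WData Φ ι} {G : Type*} [Group G]

/-- restriction of a root group datum to the group it generates -/
def grdRes (T : GRD R G) (K : Subgroup G) (hK : K = T.Gp) : GRD R K where
  X r := (T.X r).subgroupOf K
  H := T.H.subgroupOf K
  n i := ⟨T.n i, hK ▸ T.n_mem_Gp i⟩
  h_conj h hh r x hx := T.h_conj h hh r x hx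
  n_conj i r x hx := T.n_conj i r x hx
  n_H i h hh := T.n_H i h hh
  n_sq i := T.n_sq i
  rank_one i y hy h1 := by
    obtain ⟨a, ha, b, hb, h, hh, e⟩ := T.rank_one i y hy fun h => h1 (Subtype.ext h)
    exact ⟨⟨a, hK ▸ T.X_le_Gp _ ha⟩, ha, ⟨b, hK ▸ T.X_le_Gp _ hb⟩, hb, ⟨h, hK ▸ T.H_le_Gp hh⟩, hh,
      Subtype.ext e⟩
  nontriv i := by
    obtain ⟨x, hx, h1⟩ := T.nontriv i
    exact ⟨⟨x, hK ▸ T.X_le_Gp _ hx⟩, hx, fun h => h1 (congrArg Subtype.val h)⟩
  norm i x hx c hc hne y hy := by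
    rw [gen_subgroupOf fun r => hK ▸ T.X_le_Gp r]
    exact T.norm i x hx c hc hne y hy
  borel_neg u hu h hh hv := by
    rw [gen_subgroupOf fun r => hK ▸ T.X_le_Gp r] at hu hv
    exact Subtype.ext (T.borel_neg u hu h hh hv)

section res
variable (T : GRD R G) (K : Subgroup G) (hK : K = T.Gp)

theorem grdRes_X (r : Φ) : (grdRes T K hK).X r = (T.X r).subgroupOf K := rfl
theorem grdRes_H : (grdRes T K hK).H = T.H.subgroupOf K := rfl
theorem grdRes_n (i : ι) : ((grdRes T K hK).n i : G) = T.n i := rfl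

theorem grdRes_gen (S : Set Φ) : gen (grdRes T K hK).X S = (gen T.X S).subgroupOf K :=
  gen_subgroupOf (fun r => hK ▸ T.X_le_Gp r) S

theorem grdRes_U : (grdRes T K hK).U = T.U.subgroupOf K := grdRes_gen T K hK _
theorem grdRes_V : (grdRes T K hK).V = T.V.subgroupOf K := grdRes_gen T K hK _

theorem grdRes_B : (grdRes T K hK).B = T.B.subgroupOf K := by
  rw [GRD.B, GRD.B, grdRes_U, grdRes_H,
    Subgroup.subgroupOf_sup (hK ▸ T.U_le_Gp) (hK ▸ T.H_le_Gp)]

theorem grdRes_Gp : (grdRes T K hK).Gp = ⊤ := by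
  rw [GRD.Gp, grdRes_gen, grdRes_H,
    ← Subgroup.subgroupOf_sup (hK ▸ T.gen_le_Gp _) (hK ▸ T.H_le_Gp)]
  subst hK
  exact Subgroup.subgroupOf_self _

theorem grdRes_closure (J : Set ι) : Subgroup.closure ((grdRes T K hK).n '' J) =
    (Subgroup.closure (T.n '' J)).subgroupOf K := by
  apply Subgroup.map_injective K.subtype_injective
  rw [MonoidHom.map_closure, Subgroup.map_subgroupOf_eq_of_le, Set.image_image]
  · rfl
  · rw [Subgroup.closure_le]
    rintro _ ⟨j, -, rfl⟩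
    exact hK ▸ T.n_mem_Gp j

theorem grdRes_N : (grdRes T K hK).N = T.N.subgroupOf K := by
  rw [GRD.N, GRD.N, ← Set.image_univ, ← Set.image_univ, grdRes_closure, grdRes_H,
    Subgroup.subgroupOf_sup (hK ▸ T.H_le_Gp)]
  rw [Subgroup.closure_le]
  rintro _ ⟨j, -, rfl⟩
  exact hK ▸ T.n_mem_Gp j

theorem grdRes_PJ (J : Set ι) : (grdRes T K hK).PJ J = (T.PJ J).subgroupOf K := by
  rw [GRD.PJ, GRD.PJ, grdRes_closure, grdRes_B, Subgroup.subgroupOf_sup (hK ▸ T.B_le_Gp)]
  rw [Subgroup.closure_le]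
  rintro _ ⟨j, -, rfl⟩
  exact hK ▸ T.n_mem_Gp j

theorem grdRes_UJ (J : Set ι) : (grdRes T K hK).UJ J = (T.UJ J).subgroupOf K :=
  grdRes_gen T K hK _

theorem grdRes_LJ (J : Set ι) : (grdRes T K hK).LJ J = (T.LJ J).subgroupOf K := by
  rw [GRD.LJ, GRD.LJ, grdRes_gen, grdRes_H,
    Subgroup.subgroupOf_sup (hK ▸ T.H_le_Gp) (hK ▸ T.gen_le_Gp _)]

theorem card_grdRes_X (r : Φ) : Nat.card ((grdRes T K hK).X r) = Nat.card (T.X r) :=
  Nat.card_congr (Subgroup.subgroupOfEquivOfLe (hK ▸ T.X_le_Gp r)).toEquiv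

theorem card_grdRes_H : Nat.card (grdRes T K hK).H = Nat.card T.H :=
  Nat.card_congr (Subgroup.subgroupOfEquivOfLe (hK ▸ T.H_le_Gp)).toEquiv

end res

variable [Finite Φ] (T : GRD R G) (hT : T.Gp = ⊤)

/-- the (B,N)-pair of a root group datum generating the ambient group -/
def bnTop : BNPair G where
  B := T.B
  N := T.N
  S := Set.range T.n
  sup_eq_top := T.B_sup_N.trans hT
  conj_mem n hn t ht := T.H_le_B (T.conj_H hn (T.mem_H_of_mem_B_N ht.1 ht.2))
  subset := by
    rintro _ ⟨i, rfl⟩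
    exact T.n_mem_N i
  sq_mem := by
    rintro _ ⟨i, rfl⟩
    exact T.H_le_B (T.n_sq i)
  inj := by
    rintro _ ⟨i, rfl⟩ _ ⟨j, rfl⟩ h
    have := T.eq_one_of_act_of_mem_B h ((T.act_n i).inv.mul (T.act_n j))
    rw [inv_mul_eq_one] at this
    rw [R.sW_injective this]
  closure_sup := by rw [T.B_inf_N, sup_comm, GRD.N]
  mul_mem_union := by
    rintro _ ⟨i, rfl⟩ n hn b hb
    obtain ⟨w, hw⟩ := T.exists_act hn
    have h1 := ((hw.cell hn).mul_left hb).n_mul i
    rw [← mul_assoc] at h1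
    rcases h1 with h1 | h1
    · exact Or.inl ((T.cell_iff_doubleCoset (T.N.mul_mem (T.n_mem_N i) hn)
        ((T.act_n i).mul hw)).1 h1)
    · exact Or.inr ((T.cell_iff_doubleCoset hn hw).1 h1)
  conj_ne := by
    rintro _ ⟨i, rfl⟩ h
    have : T.X ((R.sW i).1 (R.p i)) ≤ T.B := by
      rw [← (T.act_n i).map_X]
      rintro _ ⟨x, hx, rfl⟩
      have h1 : T.n i * x * T.n i ∈ (T.B : Set G) := by
        rw [← h]
        exact ⟨x, T.U_le_B (T.X_le_U (R.pos_p i) hx), rfl⟩
      have := T.B.mul_mem h1 (T.H_le_B (inv_mem (T.n_sq i)))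
      convert this using 1
      simp only [MulEquiv.toMonoidHom_eq_coe, MonoidHom.coe_coe, MulAut.conj_apply]
      group
    have := T.pos_of_X_le_B this
    rw [R.sW_val, R.s_p] at this
    exact R.not_pos_neg_p i this

theorem bnTop_B : (bnTop T hT).B = T.B := rfl
theorem bnTop_N : (bnTop T hT).N = T.N := rfl

/-- the simple generators of `bnTop` -/
noncomputable def sEq : ι ≃ (bnTop T hT).S := Equiv.ofInjective T.n T.n_injective

theorem sEq_val (i : ι) : (sEq T hT i : G) = T.n i := rfl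

/-- the Weyl group of `bnTop` -/
noncomputable def wEq : Weyl (bnTop T hT) ≃* R.W :=
  let π : (bnTop T hT).N →* R.W := T.piN
  (QuotientGroup.quotientMulEquivOfEq (N := π.ker) (by
    refine Eq.trans ?_ T.piN_ker.symm
    exact congrArg (fun K : Subgroup G => K.subgroupOf T.N) T.B_inf_N)).trans
    (QuotientGroup.quotientKerEquivOfSurjective π T.piN_surjective)

theorem wEq_mk (n : (bnTop T hT).N) : wEq T hT (QuotientGroup.mk n) = T.piN n := rfl

theorem wEq_sim (i : ι) : wEq T hT (sim (bnTop T hT) (sEq T hT i)) = R.sW i := T.piN_n i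

theorem inCell_iff_cell {w : Weyl (bnTop T hT)} {g : G} :
    InCell (bnTop T hT) w g ↔ T.Cell (wEq T hT w) g := by
  constructor
  · rintro ⟨n, rfl, b, hb, b', hb', e⟩
    exact ⟨b, hb, n, n.2, b', hb', T.act_piN n, e⟩
  · rintro ⟨b, hb, m, hm, b', hb', hw, e⟩
    refine ⟨⟨m, hm⟩, (wEq T hT).injective ?_, b, hb, b', hb', e⟩
    exact (wEq_mk T hT ⟨m, hm⟩).trans (T.piN_eq_iff.2 hw)

theorem cell_wOf (g : G) : T.Cell (wEq T hT (wOf (bnTop T hT) g)) g :=
  (inCell_iff_cell T hT).1 (inCell_wOf _ g)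

theorem wEq_wOf {g : G} {w : R.W} (h : T.Cell w g) : wEq T hT (wOf (bnTop T hT) g) = w :=
  (cell_wOf T hT g).unique h

theorem len_wEq (w : Weyl (bnTop T hT)) : R.len (wEq T hT w) = len (sim (bnTop T hT)) w :=
  len_equiv (wEq T hT) (sEq T hT).symm (fun i => by
    obtain ⟨j, rfl⟩ := (sEq T hT).surjective i
    rw [wEq_sim, Equiv.symm_apply_apply]) w

theorem wEq_mem_WJ {J : Set ι} {w : Weyl (bnTop T hT)} :
    wEq T hT w ∈ R.WJ J ↔ w ∈ WJ (sim (bnTop T hT)) (sEq T hT '' J) := by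
  have : R.WJ J = (WJ (sim (bnTop T hT)) (sEq T hT '' J)).map (wEq T hT).toMonoidHom := by
    rw [MonoidHom.map_closure, Set.image_image, Set.image_image, WData.WJ]
    congr 2
    funext i
    exact (wEq_sim T hT i).symm
  rw [this]
  exact Subgroup.mem_map_iff_mem (f := (wEq T hT).toMonoidHom) (wEq T hT).injective

theorem cellSubgroup_bnTop (J : Set ι) :
    cellSubgroup (bnTop T hT) (sEq T hT '' J) = T.PJ J := by
  ext g
  rw [mem_cellSubgroup_iff_wOf, T.mem_PJ_iff, ← wEq_mem_WJ]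
  exact ⟨fun h => ⟨_, h, cell_wOf T hT g⟩, fun ⟨w, hw, h⟩ => wEq_wOf T hT h ▸ hw⟩

/-- an element of `N` sending the simple roots in `J` to negative roots represents the longest
element -/
theorem isLongest_wOf {J : Set ι} {m : G} (hm : m ∈ T.N) {w : R.W} (hw : T.Act m w)
    (hJ : w ∈ R.WJ J) (hneg : ∀ j ∈ J, ¬ R.pos (w.1 (R.p j))) :
    IsLongest (sim (bnTop T hT)) (sEq T hT '' J) (wOf (bnTop T hT) m) := by
  have e := wEq_wOf T hT (hw.cell hm)
  refine (bn_exch _).isLongest_of_right ((wEq_mem_WJ T hT).1 (e ▸ hJ)) ?_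
  rintro _ ⟨j, hj, rfl⟩
  rw [← len_wEq, ← len_wEq, map_mul, wEq_sim, e]
  have := R.len_mul_s_of_neg (hneg j hj)
  omega

end Top

section St

variable {Φ ι : Type*} {R : WData Φ ι} {G : Type*} [Group G] [Finite Φ] [Fintype ι]

/-- The Steinberg character of a group with a root group datum. -/
noncomputable def stGRD (T : GRD R G) : G → ℂ := fun g =>
  ∑ J : Finset ι, (-1 : ℂ) ^ J.card * fixedPointCharacter (T.PJ (J : Set ι)) g

variable (T : GRD R G) (hT : T.Gp = ⊤)

noncomputable instance instFintypeBnTopSGRD : Fintype (bnTop T hT).S := Fintype.ofEquiv ι (sEq T hT)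

theorem stGRD_eq_stBN : stGRD T = stBN (bnTop T hT) := by
  funext g
  refine Fintype.sum_equiv (sEq T hT).finsetCongr _ _ fun J => ?_
  rw [Equiv.finsetCongr_apply, Finset.card_map, Finset.coe_map, Equiv.coe_toEmbedding,
    cellSubgroup_bnTop]

include hT

theorem isIrrCharacter_stGRD [Finite G] : IsIrrCharacter G (stGRD T) := by
  rw [stGRD_eq_stBN T hT]
  exact isIrrCharacter_stBN _

theorem exists_longest_n0 : ∃ m ∈ T.N, IsLongest (sim (bnTop T hT))
    ((Finset.univ : Finset (bnTop T hT).S) : Set _) (wOf (bnTop T hT) m) ∧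
      ∀ b ∈ T.B, m⁻¹ * b * m ∈ T.B ↔ b ∈ T.H := by
  obtain ⟨m, hm, w, hw, hpos⟩ := T.exists_n0
  refine ⟨m, hm, ?_, fun b hb => ⟨fun h => ?_, fun h => ?_⟩⟩
  · have := isLongest_wOf T hT (J := Set.univ) hm hw (by rw [R.WJ_univ]; trivial)
      fun j _ => by rw [hpos, not_not]; exact R.pos_p j
    rwa [Set.image_univ_of_surjective (sEq T hT).surjective, ← Finset.coe_univ] at this
  · rw [← T.B_inf_V_sup_H]
    refine ⟨hb, ?_⟩
    obtain ⟨u, hu, h, hh, e⟩ := T.mem_B.1 h
    have e' : b = (m * u * m⁻¹) * (m * h * m⁻¹) := by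
      rw [show m * u * m⁻¹ * (m * h * m⁻¹) = m * (u * h) * m⁻¹ by group, ← e]; group
    rw [e']
    exact Subgroup.mul_mem_sup (hw.conj_gen (fun r hr => by
      rw [Set.mem_ofPred_eq, hpos, not_not]; exact hr) hu) (T.conj_H hm hh)
  · have := T.conj_H (inv_mem hm) h
    rw [inv_inv] at this
    exact T.H_le_B this

/-- the restriction of the Steinberg character to `B` is induced from the principal character
of `H` -/
theorem stGRD_of_mem_B [Finite G] (b : T.B) :
    stGRD T b = fixedPointCharacter (T.H.subgroupOf T.B) b := by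
  obtain ⟨m, -, hm, h⟩ := exists_longest_n0 T hT
  rw [stGRD_eq_stBN T hT, stBN_eq, stRel_of_mem_B (P := bnTop T hT) _ b.2 hm, fixedPointCharacter,
    Int.cast_natCast]
  congr 1
  refine ofix_eq_of_stabilizer (Q := T.B) _ (fun q => ?_) b
  rw [Subgroup.mem_subgroupOf]
  exact (h q q.2).symm.trans (smul_mk_eq_iff (K := T.B)).symm

theorem stGRD_one [Finite G] : stGRD T 1 = Nat.card T.U := by
  have h := stGRD_of_mem_B T hT 1
  rw [Subgroup.coe_one] at h
  rw [h, fixedPointCharacter, MulAction.fixedBy_one_eq_univ, Nat.card_univ,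
    ← Subgroup.index_eq_card]
  congr 1
  have h1 := relIndex_mul_card_of_le T.H_le_B
  rw [T.card_B] at h1
  exact Nat.eq_of_mul_eq_mul_right Nat.card_pos h1

/-- the index of `B` is congruent to one -/
theorem index_B_modEq {p : ℕ} [Fact p.Prime] [Finite G] (hU : IsPGroup p T.U) :
    T.B.index ≡ 1 [MOD p] := by
  have h := hU.card_modEq_card_fixedPoints (G ⧸ T.B)
  rw [← Subgroup.index_eq_card] at h
  convert h
  symm
  rw [Nat.card_eq_one_iff_exists]
  refine ⟨⟨QuotientGroup.mk 1, fun u => ?_⟩, ?_⟩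
  · exact (smul_mk_eq_iff (K := T.B)).2 (by simpa using T.U_le_B u.2)
  · rintro ⟨x, hx⟩
    obtain ⟨g, rfl⟩ := QuotientGroup.mk_surjective x
    refine Subtype.ext (QuotientGroup.eq.2 ?_)
    rw [mul_one]
    refine T.mem_B_of_conj_U (hT ▸ Subgroup.mem_top _) fun u hu => ?_
    rw [inv_inv]
    exact (smul_mk_eq_iff (K := T.B)).1 (hx ⟨u, hu⟩)

theorem not_dvd_index_U {p : ℕ} [Fact p.Prime] [Finite G] (hU : IsPGroup p T.U)
    (hH : ¬ p ∣ Nat.card T.H) : ¬ p ∣ T.U.index := by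
  have hp : p.Prime := Fact.out
  have h1 := relIndex_mul_card_of_le T.U_le_B
  rw [T.card_B, mul_comm (Nat.card T.U)] at h1
  rw [← Subgroup.relIndex_mul_index T.U_le_B, Nat.eq_of_mul_eq_mul_right Nat.card_pos h1,
    hp.dvd_mul]
  rintro (h | h)
  · exact hH h
  · exact hp.one_lt.ne' (Nat.dvd_one.1 (((index_B_modEq T hT hU).dvd_iff (dvd_refl p)).1 h))

theorem pow_factorization_eq_card_U {p : ℕ} [Fact p.Prime] [Finite G] (hU : IsPGroup p T.U)
    (hH : ¬ p ∣ Nat.card T.H) : p ^ (Nat.card G).factorization p = Nat.card T.U :=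
  (Sylow.card_eq_multiplicity (hU.toSylow (not_dvd_index_U T hT hU hH))).symm

theorem charDegree_stGRD [Finite G] : charDegree (stGRD T) = Nat.card T.U :=
  charDegree_eq (stGRD_one T hT)

/-- the Steinberg character vanishes on `p`-singular elements -/
theorem stGRD_eq_zero {p : ℕ} [Fact p.Prime] [Finite G] (hU : IsPGroup p T.U)
    (hH : ¬ p ∣ Nat.card T.H) {g : G} (hg : p ∣ orderOf g) : stGRD T g = 0 :=
  H29.eq_zero_of_pow_factorization_dvd Fact.out (isIrrCharacter_stGRD T hT)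
    (by rw [pow_factorization_eq_card_U T hT hU hH, charDegree_stGRD T hT]) hg

end St

section Val

variable {Φ ι : Type*} {R : WData Φ ι}

variable {G : Type*} [Group G] [Finite Φ] [Fintype ι] (T : GRD R G) (hT : T.Gp = ⊤)

omit [Fintype ι] in
theorem mem_PJ_iff_UJ_LJ {J : Set ι} {g : G} (hg : g ∈ T.PJ J) :
    ∃ u ∈ T.UJ J, ∃ l ∈ T.LJ J, g = u * l := by
  rw [← T.UJ_sup_LJ, ← SetLike.mem_coe,
    Subgroup.coe_mul_of_right_le_normalizer_left _ _ (T.LJ_le_normalizer_UJ J)] at hg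
  obtain ⟨u, hu, l, hl, rfl⟩ := hg
  exact ⟨u, hu, l, hl, rfl⟩

include hT

/-- The Steinberg character at an element of `L_J` with no conjugate in a smaller parabolic
subgroup. -/
theorem exists_stGRD_eq_card_centralizer [Finite G] {p : ℕ} [Fact p.Prime]
    (hU : IsPGroup p T.U) {x : G} (hx : ¬ p ∣ orderOf x) :
    ∃ (J : Set ι) (g : G), g⁻¹ * x * g ∈ T.LJ J ∧ ∃ e : ℕ, stGRD T x = (-1) ^ e *
      Nat.card (T.UJ J ⊓ Subgroup.centralizer {g⁻¹ * x * g} : Subgroup G) := by
  classical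
  obtain ⟨J', g, hg, hmin⟩ := exists_min_parabolic (bnTop T hT) x
  obtain ⟨J, rfl⟩ := (sEq T hT).finsetCongr.surjective J'
  have hcoe : ∀ J : Finset ι, (((sEq T hT).finsetCongr J : Finset _) : Set _) = sEq T hT '' J :=
    fun J => by rw [Equiv.finsetCongr_apply, Finset.coe_map, Equiv.coe_toEmbedding]
  obtain ⟨m, hm, w, hw, hpos⟩ := T.exists_n0
  have hlong := isLongest_of_swap hpos
  have hm' : IsLongest (sim (bnTop T hT)) ((Finset.univ : Finset (bnTop T hT).S) : Set _)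
      (wOf (bnTop T hT) m) := by
    have := isLongest_wOf T hT (J := Set.univ) hm hw (by rw [R.WJ_univ]; trivial)
      fun j _ => by rw [hpos, not_not]; exact R.pos_p j
    rwa [Set.image_univ_of_surjective (sEq T hT).surjective, ← Finset.coe_univ] at this
  let K : Finset ι := Finset.univ.filter fun k => ∃ j ∈ J, R.sW j * w = w * R.sW k
  have hK1 : ∀ k ∈ (K : Set ι), ∃ j ∈ (J : Set ι), R.sW j * w = w * R.sW k :=
    fun k hk => (Finset.mem_filter.1 hk).2
  have hK2 : ∀ j ∈ (J : Set ι), ∃ k ∈ (K : Set ι), R.sW k * w⁻¹ = w⁻¹ * R.sW j := by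
    intro j hj
    obtain ⟨k, -, e⟩ := R.exch.isLongest_conj hlong (Set.mem_univ j)
    exact ⟨k, Finset.mem_filter.2 ⟨Finset.mem_univ _, j, hj, e⟩,
      by rw [mul_inv_eq_iff_eq_mul, mul_assoc, e, inv_mul_cancel_left]⟩
  have hval := stRel_eq (P := bnTop T hT) (A := Finset.univ) (K₀ := (sEq T hT).finsetCongr K)
    (Finset.subset_univ _) hg (fun I hI q _ h => hmin I hI (g * q) (by
      rwa [mul_inv_rev, show q⁻¹ * g⁻¹ * x * (g * q) = q⁻¹ * (g⁻¹ * x * g) * q by group])) hm' (by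
      intro k
      obtain ⟨k, rfl⟩ := (sEq T hT).surjective k
      rw [Equiv.finsetCongr_apply, Finset.mem_map_equiv, Equiv.symm_apply_apply, Finset.mem_filter,
        Equiv.finsetCongr_apply]
      have key : ∀ j, sim (bnTop T hT) (sEq T hT j) * wOf (bnTop T hT) m =
          wOf (bnTop T hT) m * sim (bnTop T hT) (sEq T hT k) ↔ R.sW j * w = w * R.sW k := by
        intro j
        rw [← (wEq T hT).injective.eq_iff, map_mul, map_mul, wEq_sim, wEq_sim,
          wEq_wOf T hT (hw.cell hm)]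
      constructor
      · rintro ⟨-, j, hj, e⟩
        exact ⟨sEq T hT j, Finset.mem_map_of_mem _ hj, (key j).2 e⟩
      · rintro ⟨j, hj, e⟩
        obtain ⟨i, hi, rfl⟩ := Finset.mem_map.1 hj
        exact ⟨Finset.mem_univ _, i, hi, (key i).1 e⟩)
  rw [hcoe, hcoe, cellSubgroup_bnTop, cellSubgroup_bnTop] at hval
  rw [hcoe, cellSubgroup_bnTop] at hg
  set a : G ⧸ T.PJ (K : Set ι) := QuotientGroup.mk m with ha
  have hL : ∀ l ∈ T.LJ J, l • a = a := by
    intro l hl
    rw [smul_mk_eq_iff]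
    have : T.LJ J ≤ (T.PJ K).comap (MulAut.conj m⁻¹).toMonoidHom := by
      refine sup_le (fun h hh => ?_) (gen_le fun r hr y hy => ?_)
      · exact T.B_le_PJ _ (T.H_le_B (T.conj_H (inv_mem hm) hh))
      · exact T.X_le_PJ (apply_mem_PhiJ_of_swap (swap_inv hpos) hK2 hr) (hw.inv.conj_mem hy)
    simpa using this hl
  have hfree : ∀ u ∈ T.UJ J, u • a = a → u = 1 := by
    intro u hu h
    rw [smul_mk_eq_iff] at h
    have h1 := hw.inv.conj_gen (S' := {r | ¬ R.pos r ∧ r ∉ R.PhiJ K}) (fun r hr => ⟨by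
      rw [swap_inv hpos, not_not]; exact hr.1, fun h => hr.2 (by
        have := apply_mem_PhiJ_of_swap hpos hK1 h
        rwa [R.apply_inv_apply] at this)⟩) hu
    rw [inv_inv] at h1
    have h2 := T.eq_one_of_mem_PJ_VJ h h1
    rwa [mul_assoc, inv_mul_eq_one, eq_comm, mul_eq_right] at h2
  have htr : ∀ q ∈ T.PJ J, ∃ u ∈ T.UJ J, u • a = q • a := by
    intro q hq
    obtain ⟨u, hu, l, hl, rfl⟩ := mem_PJ_iff_UJ_LJ T hq
    exact ⟨u, hu, by rw [mul_smul, hL l hl]⟩
  have hUP : T.UJ J ≤ T.PJ J := (T.UJ_le_U _).trans (T.U_le_B.trans (T.B_le_PJ _))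
  have hUJ : IsPGroup p (T.UJ J) := hU.to_le (T.UJ_le_U _)
  set y := g⁻¹ * x * g with hy
  have hoy : orderOf y = orderOf x := by
    rw [hy]
    exact (SemiconjBy.orderOf_eq g (by simp [SemiconjBy, mul_assoc]))
  obtain ⟨u, hu, hfix⟩ := H1.glauberman_subgroup (Subgroup.zpowers y) (T.UJ J)
    ((Subgroup.zpowers_le.2 hg).trans (T.PJ_le_normalizer_UJ _)) (by
      obtain ⟨k, hk⟩ := hUJ.exists_card_eq
      rw [hk, Nat.card_zpowers, hoy]
      exact Nat.Coprime.pow_right _ ((Nat.Prime.coprime_iff_not_dvd Fact.out).2 hx).symm)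
    (Or.inl inferInstance) a fun z hz =>
      (htr z (Subgroup.zpowers_le.2 hg hz)).imp fun u hu => ⟨hu.1, hu.2.symm⟩
  have hz : u⁻¹ * y * u ∈ T.PJ J := mul_mem (mul_mem (inv_mem (hUP hu)) hg) (hUP hu)
  have hza : (u⁻¹ * y * u) • a = a := by
    rw [mul_smul, mul_smul, hfix y (Subgroup.mem_zpowers y), inv_smul_smul]
  have e : (g * u)⁻¹ * x * (g * u) = u⁻¹ * y * u := by rw [hy]; group
  refine ⟨J, g * u, ?_, ((sEq T hT).finsetCongr K).card, ?_⟩
  · rw [e]
    obtain ⟨v, hv, l, hl, e'⟩ := mem_PJ_iff_UJ_LJ T hz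
    rw [e', mul_smul, hL l hl] at hza
    rwa [e', hfree v hv hza, one_mul]
  · have h1 := stRel_conj (P := bnTop T hT) Finset.univ (q := g⁻¹)
      (by rw [Finset.coe_univ, cellSubgroup_univ]; trivial) x
    rw [inv_inv] at h1
    have h2 := ofix_conj a (inv_mem (hUP hu)) y
    rw [inv_inv] at h2
    rw [stGRD_eq_stBN T hT, stBN_eq, ← h1, hval, ← h2, e, ofix_eq_card_centralizer hUP
      (fun q hq u hu => (Subgroup.mem_normalizer_iff.1 (T.PJ_le_normalizer_UJ _ hq) u).1 hu)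
      htr hfree hz hza]
    push_cast
    rfl

/-- The Steinberg character at a semisimple element. -/
theorem stGRD_eq_pow_factorization [Finite G] {p : ℕ} [Fact p.Prime]
    (hU : IsPGroup p T.U) (hH : ¬ p ∣ Nat.card T.H) {x : G} (hx : ¬ p ∣ orderOf x) :
    ∃ e : ℕ, stGRD T x = (-1) ^ e *
      ((p ^ (Nat.card (Subgroup.centralizer ({x} : Set G))).factorization p : ℕ) : ℂ) := by
  have hp : p.Prime := Fact.out
  obtain ⟨J, g, -, e, he⟩ := exists_stGRD_eq_card_centralizer T hT hU hx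
  refine ⟨e, ?_⟩
  obtain ⟨k, hk⟩ := (hU.to_le ((inf_le_left (b := Subgroup.centralizer {g⁻¹ * x * g})).trans
    (T.UJ_le_U J))).exists_card_eq
  have hc : Nat.card (Subgroup.centralizer ({g⁻¹ * x * g} : Set G)) =
      Nat.card (Subgroup.centralizer ({x} : Set G)) :=
    card_centralizer_eq_of_isConj (isConj_iff.2 ⟨g, by group⟩)
  have h1 : p ^ k ∣ Nat.card (Subgroup.centralizer ({x} : Set G)) := by
    rw [← hc, ← hk]
    exact Subgroup.card_dvd_of_le inf_le_right
  rw [he, hk]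
  congr 3
  have h2 := H37.centralChar_isIntegral (isIrrCharacter_stGRD T hT) x
  rw [centralChar, he, hk, stGRD_one T hT, ← pow_factorization_eq_card_U T hT hU hH] at h2
  have h3 : IsIntegral ℤ ((((Subgroup.centralizer ({x} : Set G)).index * p ^ k : ℕ) : ℂ) /
      ((p ^ (Nat.card G).factorization p : ℕ) : ℂ)) := by
    have := ((isIntegral_one (R := ℤ) (B := ℂ)).neg.pow e).mul h2
    rwa [← mul_div_assoc, mul_left_comm, ← mul_assoc ((-1 : ℂ) ^ e), ← mul_pow, neg_mul_neg,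
      one_mul, one_pow, one_mul, ← Nat.cast_mul] at this
  have h4 := H29.dvd_of_isIntegral_div (pow_ne_zero _ hp.ne_zero) h3
  have hi : (Subgroup.centralizer ({x} : Set G)).index ≠ 0 := Subgroup.index_ne_zero_of_finite
  have hcp : Nat.card (Subgroup.centralizer ({x} : Set G)) ≠ 0 := Nat.card_pos.ne'
  rw [hp.pow_dvd_iff_le_factorization (mul_ne_zero hi (pow_ne_zero _ hp.ne_zero)),
    ← (Subgroup.centralizer ({x} : Set G)).index_mul_card, Nat.factorization_mul hi hcp,
    Nat.factorization_mul hi (pow_ne_zero _ hp.ne_zero), hp.factorization_pow] at h4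
  rw [hp.pow_dvd_iff_le_factorization hcp] at h1
  simp only [Finsupp.coe_add, Pi.add_apply, Finsupp.single_eq_same] at h4
  omega

/-- The relative Steinberg function on the Sylow subgroup `U`. -/
theorem stRel_of_mem_U [Finite G] (A : Finset ι) {x : G} (hx : x ∈ T.U) [Decidable (x ∈ T.UJ A)] :
    stRel (bnTop T hT) ((sEq T hT).finsetCongr A) x =
      if x ∈ T.UJ A then ((T.UJ A).relIndex T.U : ℤ) else 0 := by
  obtain ⟨w, hwA, hinv⟩ := R.exists_wJ_Inv (A : Set ι)
  obtain ⟨m, -, hm, hw⟩ := T.exists_act_of_mem_WJ hwA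
  have hl := isLongest_wOf T hT hm hw hwA fun j hj =>
    (show R.p j ∈ R.Inv w from hinv ▸ ⟨R.pos_p j, R.p_mem_PhiJ hj⟩).2
  have hl' : IsLongest (sim (bnTop T hT)) (((sEq T hT).finsetCongr A : Finset _) : Set _)
      (wOf (bnTop T hT) m⁻¹) := by
    rwa [wOf_inv, (bn_exch _).isLongest_inv hl, Equiv.finsetCongr_apply, Finset.coe_map,
      Equiv.coe_toEmbedding]
  rw [stRel_of_mem_B (P := bnTop T hT) _ (T.U_le_B hx) hl']
  change (ofix T.B (QuotientGroup.mk m⁻¹ : G ⧸ T.B) x : ℤ) = _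
  set a : G ⧸ T.B := QuotientGroup.mk m⁻¹ with ha
  have hstab : ∀ u ∈ T.U, u ∈ T.UJ A ↔ u • a = a := by
    intro u hu
    rw [smul_mk_eq_iff, inv_inv]
    refine ⟨fun h => T.U_le_B (T.UJ_le_U _ (hw.conj_UJ hwA h)), fun h => ?_⟩
    obtain ⟨b, hb, c, hc, rfl⟩ := T.split_UJ A hu
    have hb' : b ∈ T.UJ A := hb
    have h1 : m * c * m⁻¹ ∈ T.V := hw.conj_gen (fun r hr =>
      (show r ∈ R.Inv w from hinv ▸ hr).2) hc
    have h2 : m * c * m⁻¹ ∈ T.B := by
      have := mul_mem (inv_mem (T.U_le_B (T.UJ_le_U _ (hw.conj_UJ hwA hb')))) h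
      rwa [show (m * b * m⁻¹)⁻¹ * (m * (b * c) * m⁻¹) = m * c * m⁻¹ by group] at this
    have h3 := T.eq_one_of_mem_B_V h2 h1
    rw [mul_inv_eq_one, mul_eq_left] at h3
    rwa [h3, mul_one]
  have hn : ∀ q ∈ T.U, ∀ u, u ∈ T.UJ A ↔ q * u * q⁻¹ ∈ T.UJ A := fun q hq =>
    Subgroup.mem_normalizer_iff.1 (T.PJ_le_normalizer_UJ _ (T.B_le_PJ _ (T.U_le_B hq)))
  rw [ofix_eq_of_transitive T.U_le_B fun q hq => ?_]
  · split_ifs with h
    · rw [ofix_of_forall fun q hq => ?_, orbLen_eq_relIndex _ hstab]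
      refine (hstab _ (mul_mem (mul_mem (inv_mem hq) hx) hq)).1 ?_
      simpa using (hn q⁻¹ (inv_mem hq) x).1 h
    · by_contra hne
      obtain ⟨q, hq, e⟩ := exists_of_ofix_ne_zero (Int.natCast_ne_zero.1 hne)
      refine h ((hn q⁻¹ (inv_mem hq) x).2 ?_)
      simpa using (hstab _ (mul_mem (mul_mem (inv_mem hq) hx) hq)).2 e
  · obtain ⟨u, hu, h, hh, rfl⟩ := T.mem_B.1 hq
    refine ⟨u, hu, ?_⟩
    rw [mul_smul, (smul_mk_eq_iff (t := m⁻¹) (q := h)).2]
    rw [inv_inv]
    exact T.H_le_B (T.conj_H hm hh)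

/-- every `p`-element of a parabolic subgroup is conjugate in it to an element of `U` -/
theorem exists_conj_mem_U [Finite G] {p : ℕ} [Fact p.Prime] (hU : IsPGroup p T.U)
    (hH : ¬ p ∣ Nat.card T.H) {Q : Subgroup G} (hQ : T.U ≤ Q) {x : G} (hx : x ∈ Q) {k : ℕ}
    (hk : orderOf x = p ^ k) : ∃ q ∈ Q, q * x * q⁻¹ ∈ T.U := by
  have h1 : IsPGroup p (T.U.subgroupOf Q) := hU.comap_of_injective _ Q.subtype_injective
  have h2 : ¬ p ∣ (T.U.subgroupOf Q).index := fun h =>
    not_dvd_index_U T hT hU hH (h.trans (Subgroup.relIndex_dvd_index_of_le hQ))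
  have h3 : IsPGroup p (Subgroup.zpowers (⟨x, hx⟩ : Q)) :=
    IsPGroup.of_card (by rw [Nat.card_zpowers, Subgroup.orderOf_mk, hk])
  obtain ⟨S, hS⟩ := h3.exists_le_sylow
  obtain ⟨q, hq⟩ := MulAction.exists_smul_eq Q S (h1.toSylow h2)
  refine ⟨q, q.2, ?_⟩
  have h4 : q * ⟨x, hx⟩ * q⁻¹ ∈ ((q • S : Sylow p Q) : Subgroup Q) := by
    rw [Sylow.coe_subgroup_smul]
    exact Subgroup.smul_mem_pointwise_smul _ (MulAut.conj q) _ (hS (Subgroup.mem_zpowers _))
  rw [hq] at h4
  exact h4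

open Classical in
theorem sum_stRel_unipotent [Fintype G] {p : ℕ} [Fact p.Prime] (hU : IsPGroup p T.U)
    (hH : ¬ p ∣ Nat.card T.H) (A : Finset ι) :
    ∑ x with x ∈ T.PJ A, (stRel (bnTop T hT) ((sEq T hT).finsetCongr A) x : ℚ) *
      (if ∃ k, orderOf x = p ^ k then 1 else 0) = Nat.card T.U := by
  have hUP : T.U ≤ T.PJ A := T.U_le_B.trans (T.B_le_PJ _)
  have hcell : cellSubgroup (bnTop T hT) (((sEq T hT).finsetCongr A : Finset _) : Set _) =
      T.PJ A := by
    rw [Equiv.finsetCongr_apply, Finset.coe_map, Equiv.coe_toEmbedding, cellSubgroup_bnTop]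
  calc _ = ∑ x with x ∈ T.PJ A, if x ∈ T.UJ A then ((T.UJ A).relIndex T.U : ℚ) else 0 := by
        refine Finset.sum_congr rfl fun x hx => ?_
        rw [Finset.mem_filter] at hx
        by_cases h : ∃ k, orderOf x = p ^ k
        · obtain ⟨k, hk⟩ := id h
          obtain ⟨q, hq, hqx⟩ := exists_conj_mem_U T hT hU hH hUP hx.2 hk
          rw [if_pos h, mul_one, ← stRel_conj _ (hcell ▸ hq), stRel_of_mem_U T hT A hqx,
            Subgroup.mem_normalizer_iff.1 (T.PJ_le_normalizer_UJ _ hq) x]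
          split_ifs <;> simp
        · rw [if_neg h, mul_zero, if_neg]
          intro hx'
          obtain ⟨k, hk⟩ := IsPGroup.iff_orderOf.1 hU ⟨x, T.UJ_le_U _ hx'⟩
          exact h ⟨k, by rwa [Subgroup.orderOf_mk] at hk⟩
    _ = _ := by
        rw [← Finset.sum_filter, Finset.filter_filter, Finset.sum_const, nsmul_eq_mul,
          ← relIndex_mul_card_of_le (T.UJ_le_U A), Nat.cast_mul, mul_comm]
        congr 2
        rw [Nat.card_eq_fintype_card, Fintype.card_subtype]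
        congr 1
        ext x
        simp only [Finset.mem_filter, Finset.mem_univ, true_and]
        exact ⟨fun h => h.2, fun h => ⟨hUP (T.UJ_le_U _ h), h⟩⟩

/-- Steinberg's count of the unipotent elements. -/
theorem card_unipotent [Finite G] {p : ℕ} [Fact p.Prime] (hU : IsPGroup p T.U)
    (hH : ¬ p ∣ Nat.card T.H) :
    Nat.card {g : G // ∃ k, orderOf g = p ^ k} = Nat.card T.U ^ 2 := by
  classical
  have := Fintype.ofFinite G
  let P := bnTop T hT
  let f : G → ℚ := fun x => if ∃ k, orderOf x = p ^ k then 1 else 0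
  let c : Finset P.S → ℚ := fun K => Nat.card (cellSubgroup P (K : Set P.S))
  have hc : ∀ K, c K ≠ 0 := fun K => Nat.cast_ne_zero.2 Nat.card_pos.ne'
  let a : Finset P.S → ℚ := fun K => (∑ x with x ∈ cellSubgroup P (K : Set P.S), f x) / c K
  have key : ∀ A : Finset P.S, ∑ K ∈ A.powerset, (-1) ^ K.card * a K = Nat.card T.U / c A := by
    intro A
    have h1 := sum_stRel_mul (P := P) A f fun q _ x _ => by
      have : orderOf (q * x * q⁻¹) = orderOf x :=
        (SemiconjBy.orderOf_eq q (by simp [SemiconjBy])).symm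
      simp only [f, this]
    obtain ⟨A', rfl⟩ := (sEq T hT).finsetCongr.surjective A
    have h2 := sum_stRel_unipotent T hT hU hH A'
    rw [← cellSubgroup_bnTop T hT, ← Equiv.coe_toEmbedding, ← Finset.coe_map,
      ← Equiv.finsetCongr_apply] at h2
    rw [eq_div_iff (hc _), ← h2, Finset.sum_mul]
    refine Eq.trans ?_ h1.symm
    refine Finset.sum_congr rfl fun K hK => ?_
    have h3 := relIndex_mul_card_of_le (cellSubgroup_mono (P := P)
      (Finset.coe_subset.2 (Finset.mem_powerset.1 hK)))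
    simp only [a, c]
    rw [← h3, Nat.cast_mul]
    have := hc K
    field_simp
  have h1 := alt_sum_involution a Finset.univ
  simp only [key] at h1
  have h2 : (stRel P Finset.univ 1 : ℚ) = Nat.card T.U := by
    have h := stGRD_one T hT
    rw [stGRD_eq_stBN T hT, stBN_eq] at h
    exact_mod_cast h
  have h3 : a Finset.univ * Nat.card G = Nat.card T.U * stRel P Finset.univ 1 := by
    rw [← h1, stRel, Int.cast_sum, Finset.sum_mul, Finset.mul_sum]
    refine Finset.sum_congr rfl fun K _ => ?_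
    rw [Finset.coe_univ, cellSubgroup_univ, ofix_top, MulAction.fixedBy_one_eq_univ, Nat.card_univ,
      ← Subgroup.index_eq_card, ← (cellSubgroup P (K : Set P.S)).index_mul_card]
    have := hc K
    simp only [c] at this ⊢
    push_cast
    field_simp
  simp only [a, c, f] at h3
  rw [Finset.coe_univ, cellSubgroup_univ, Subgroup.card_top,
    div_mul_cancel₀ _ (Nat.cast_ne_zero.2 Nat.card_pos.ne'), h2, ← sq, Finset.sum_boole,
    Finset.filter_filter] at h3
  rw [Nat.card_eq_fintype_card, Fintype.card_subtype]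
  simp only [Subgroup.mem_top, true_and] at h3
  exact_mod_cast h3

end Val

end H54
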