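import Cfsg.Agent.H14.FEKit
import Cfsg.Agent.H51.CmpTop

/-! Tower NF (S1308, non-full edges with cyclic `T` or elementary `R`): definitions and jobs. -/

set_option autoImplicit false
set_option linter.dupNamespace false

namespace H54.NF

open Cfsg Subgroup MulAction H14 H98 H1.Gold H31.S2 H14.GC H14.FE
open scoped commutatorElement

universe u

section Defs

variable {G : Type u} [Group G]

/-- A non-full edge. -/
structure NF (Q : Subgroup G) (g : G) (T : Subgroup G) : Prop where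
  out : g ∉ nor Q
  syl : IsSyl 2 T (cj g Q ⊓ nor Q)
  ne : T ≠ ⊥
  nf : ¬ IsSyl 2 T (cj g Q)

/-- A non-full edge with an invariant Sylow subgroup `R` of `Q`. -/
structure NR (Q T R : Subgroup G) : Prop where
  two : IsPGroup 2 T
  ne : T ≠ ⊥
  norQ : T ≤ nor Q
  sylR : IsSyl 2 R Q
  norR : T ≤ nor R
  dis : ∀ t ∈ T, t ∈ Q → t = 1
  fix : ∀ t ∈ T, t ≠ 1 → R ⊓ cen1 t ≤ cen T
  iso : Nonempty (↥(R ⊓ cen T) ≃* T)
  lt : ¬ R ≤ cen T

/-- `R` is dihedral (or a four-group) with cyclic subgroup generated by `ρ`. -/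
structure Dh (R : Subgroup G) (ρ : G) : Prop where
  mem : ρ ∈ R
  ne : ρ ≠ 1
  idx : (zpowers ρ).relIndex R = 2
  inv : ∀ x ∈ R, x ∉ zpowers ρ → x * x = 1

end Defs

def JobNR : Prop := AllG.{u} fun _ _ Q => IsTightlyEmbedded Q → ∀ g T, NF Q g T → ∃ R, NR Q T R

/-- An element of `R` outside `R0` that normalises `T R0` inverts `R0` and moves every element of `T`
by an element of `R0`, bijectively. -/
def JobX1 : Prop := AllG.{u} fun _ _ Q => ∀ T R, NR Q T R → ∀ y ∈ R, y ∉ cen T →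
  y ∈ nor (R ⊓ cen T) → (∀ t ∈ T, t⁻¹ * (y * t * y⁻¹) ∈ R ⊓ cen T) →
  (∀ r ∈ R ⊓ cen T, y * r * y⁻¹ = r⁻¹) ∧ y * y ∈ cen T ∧
    ∀ r ∈ R ⊓ cen T, ∃ t ∈ T, t⁻¹ * (y * t * y⁻¹) = r

def JobX2 : Prop := JobX1.{u} → AllG.{u} fun _ _ Q => ∀ T R, NR Q T R → ¬ El T →
  (R ⊓ cen T).relIndex R = 2 ∧ ∀ x ∈ R, x ∉ cen T → ∀ r ∈ R ⊓ cen T, x * r * x⁻¹ = r⁻¹

def JobC2 : Prop := AllG.{u} fun _ _ Q => ∀ T R, NR Q T R → Nat.card T = 2 → Four R → ∃ ρ, Dh R ρ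

def JobDS : Prop := AllG.{u} fun _ _ C => ∀ R ρ z, IsSyl 2 R C → Dh R ρ → z ∈ zpowers ρ → Inv z →
  C ≤ cen1 z → Group.IsSolvable C

def JobDI : Prop := AllG.{u} fun _ _ C => ∀ R ρ, IsSyl 2 R C → Dh R ρ →
  ∀ S : Sylow 2 C, ∃ n : ℕ, Nonempty (↥(S : Subgroup C) ≃* DihedralGroup n)

def JobRE : Prop := AllG.{u} fun _ _ Q => ∀ T R, NR Q T R → Four T → El T → El R →
  ∀ z ∈ R ⊓ cen T, z ≠ 1 → cen1 z ⊓ Q ⊓ nor R ≤ cen R

/-- The cyclic case. -/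
def N1 : Prop := AllG.{u} fun _ _ K => IsStandardSubgroup K → Four (cen K) → ∀ g T, NF (cen K) g T →
  IsCyclic T → H51.CT.Concl K

/-- The elementary case. -/
def RE : Prop := AllG.{u} fun _ _ K => IsStandardSubgroup K → ∀ g T, NF (cen K) g T → Four T → El T →
  (∀ R, IsSyl 2 R (cen K) → El R) → H51.CT.Concl K

end H54.NF
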