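/- The principal series of a doubly transitive group with a split rank one `BN`-pair;
groups of degree `p ^ r` with odd centralizers of `p`-elements. -/
import Cfsg.Agent.H82.Hub
import Cfsg.Agent.H99.BenderB
import Cfsg.Agent.H32.Clifford
import Cfsg.Agent.H28.Degree
import Cfsg.Agent.H69.RankOneK

set_option autoImplicit false

open Cfsg Subgroup H28 H33 MulAction
open scoped ComplexConjugate

namespace H54.PS

variable {G : Type*} [Group G]

/-- Mackey's irreducibility criterion -/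
theorem irr_ind [Fintype G] (H : Subgroup G) {θ : H → ℂ} (hθ : IsIrrCharacter H θ)
    (h : ∀ x ∉ H, ∑ g : G, extendByZero H θ g * conj (extendByZero H θ (x⁻¹ * g * x)) = 0) :
    IsIrrCharacter G (indFun H θ) := by
  classical
  have := Fintype.ofFinite H
  refine (hθ.isCharacter.indFun).irr_of_norm_one ?_
  have h1 : ∀ x : G, ∑ g : H, θ g * conj (extendByZero H θ (x⁻¹ * g * x)) =
      extendByZero H (fun _ => (Nat.card H : ℂ)) x := fun x => by
    by_cases hx : x ∈ H
    · simp only [ext0_conj_mem' H hθ.isClassFunction hx, ext0_coe, ext0_of_mem H _ hx]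
      rw [← card_mul_classInner, hθ.classInner_self, mul_one]
    · rw [ext0_of_not_mem H _ hx, ← h x hx,
        sum_ext0_mul H θ fun g => conj (extendByZero H θ (x⁻¹ * g * x))]
  rw [classInner_indFun_left H θ (indFun_isClassFunction H θ), classInner_def]
  simp only [indFun_apply, map_mul, map_inv₀, map_natCast, map_sum, Finset.mul_sum]
  rw [Finset.sum_comm]
  have h2 : ∀ x : G, ∑ g : H, (Nat.card H : ℂ)⁻¹ * (θ g * ((Nat.card H : ℂ)⁻¹ *
      conj (extendByZero H θ (x⁻¹ * g * x)))) = (Nat.card H : ℂ)⁻¹ * (Nat.card H : ℂ)⁻¹ *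
        extendByZero H (fun _ => (Nat.card H : ℂ)) x := fun x => by
    rw [← h1, Finset.mul_sum]
    exact Finset.sum_congr rfl fun g _ => by ring
  rw [Finset.sum_congr rfl fun x _ => h2 x, ← Finset.mul_sum, sum_ext0, Finset.sum_const,
    Finset.card_univ, ← Nat.card_eq_fintype_card, nsmul_eq_mul]
  have := card_ne_zero' H
  field_simp

theorem eq_one_of_isConj_inv [Finite G] (hG : Odd (Nat.card G)) {d : G} (h : IsConj d d⁻¹) :
    d = 1 := by
  obtain ⟨c, hc⟩ := isConj_iff.1 h
  have h1 : c ^ 2 ∈ centralizer ({d} : Set G) := mem_centralizer_singleton_iff.2 (by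
    rw [← mul_inv_eq_iff_eq_mul]
    calc c ^ 2 * d * (c ^ 2)⁻¹ = c * (c * d * c⁻¹) * c⁻¹ := by rw [pow_two]; group
      _ = (c * d * c⁻¹)⁻¹ := by rw [hc, ← hc]; nth_rewrite 1 [hc]; group
      _ = d := by rw [hc, inv_inv])
  have h2 := mem_centralizer_singleton_iff.1 (H98.mem_of_pow_mem_of_coprime h1
    (Nat.coprime_two_right.2 (hG.of_dvd_nat (orderOf_dvd_natCard c))))
  rw [h2, mul_inv_cancel_right] at hc
  have h3 : d ^ 2 ∈ (⊥ : Subgroup G) := by rw [mem_bot, pow_two]; nth_rewrite 1 [hc]; simp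
  exact H98.mem_of_pow_mem_of_coprime h3
    (Nat.coprime_two_right.2 (hG.of_dvd_nat (orderOf_dvd_natCard d)))

/-- a map that inverts an element of a group of odd order moves an irreducible character -/
theorem exists_moved [Finite G] (hG : Odd (Nat.card G)) (α : G → G) {d : G} (d1 : d ≠ 1)
    (h : α d = d⁻¹) : ∃ θ, IsIrrCharacter G θ ∧ (fun x => θ (α x)) ≠ θ := by
  by_contra hn
  push Not at hn
  exact d1 (eq_one_of_isConj_inv hG (isConj_iff_irr.2 fun χ => by
    rw [← h]; exact (congrFun (hn χ χ.2) d).symm))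

/-- the principal series -/
theorem exists_irr_dvd [Finite G] {Ω : Type*} [MulAction G Ω] {a : Ω} {t : G} {Q : Subgroup G}
    (hS : IsRankOneSetup G Ω a t Q) (h2 : H69.TwoRank G) :
    ∃ χ : IrrCharacter G, (stabilizer G a).index ∣ charDegree (χ : G → ℂ) := by
  classical
  have := Fintype.ofFinite G
  obtain ⟨x, y, x1, y1, xy, x2, y2, c⟩ := h2
  obtain ⟨b, hb⟩ := H69.RO.exists_fix hS x2
  obtain ⟨g, hg⟩ := H69.RO.exists_smul_eq hS b a
  have key : ∀ z : G, z • b = b → z ≠ 1 → z * z = 1 → g * z * g⁻¹ ∈ H69.roI G a :=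
    fun z h1 h2 h3 => H69.mem_roI.2 ⟨by rw [← hg, mul_smul, mul_smul, inv_smul_smul, h1],
      fun e => h2 (by simpa using e), by rw [conj_mul, h3]; simp⟩
  obtain ⟨k, hk, e⟩ := H69.RO.exists_K_conj hS (key x hb x1 x2)
    (key y (H69.RO.fix_of_comm hS x1 x2 hb c) y1 y2)
  have k1 : k ≠ 1 := fun e1 => xy (by simpa [e1] using e)
  set H := stabilizer G a with hH
  set D := H69.roD a t with hD
  have hDH : D ≤ H := inf_le_left
  let α : D →* D := ((MulAut.conj t).toMonoidHom.comp D.subtype).codRestrict D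
    fun d => H69.RO.conj_t_mem_D hS d.2
  have αs : Function.Surjective α := Finite.injective_iff_surjective.1 fun d d' e =>
    Subtype.ext ((MulAut.conj t).injective (congrArg Subtype.val e))
  obtain ⟨l, hl, hne⟩ := exists_moved (G := D) hS.odd_card α (d := ⟨k, hk.1⟩)
    (fun e => k1 (congrArg Subtype.val e)) (Subtype.ext hk.2)
  have hN : (Q.subgroupOf H).Normal := ⟨fun n hn g => hS.conj_mem g g.2 n hn⟩
  let f : D →* H ⧸ Q.subgroupOf H := (QuotientGroup.mk' _).comp (inclusion hDH)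
  have hf : Function.Bijective f := by
    refine ⟨(injective_iff_map_eq_one f).2 fun d hd => Subtype.ext ?_, fun z => ?_⟩
    · exact H69.RO.eq_one_of_mem_Q_of_fix_ta hS ((QuotientGroup.eq_one_iff (inclusion hDH d)).1 hd) d.2.2
    · obtain ⟨h, rfl⟩ := QuotientGroup.mk_surjective z
      obtain ⟨q, hq, d, d1, d2, e⟩ := H69.RO.exists_QD hS (h := h⁻¹) (inv_mem h.2)
      refine ⟨(⟨d, d1, d2⟩ : D)⁻¹, (QuotientGroup.eq.2 ?_).symm⟩
      change (h : G)⁻¹ * d⁻¹ ∈ Q
      rw [e, mul_inv_cancel_right]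
      exact hq
  let π : H →* D := (MulEquiv.ofBijective f hf).symm.toMonoidHom.comp (QuotientGroup.mk' _)
  have πd : ∀ d : D, π (inclusion hDH d) = d := fun d =>
    (MulEquiv.ofBijective f hf).symm_apply_apply d
  have hθ := hl.comp_surjective π fun d => ⟨_, πd d⟩
  refine ⟨⟨_, irr_ind H hθ fun z hz => ?_⟩, ?_⟩
  · obtain ⟨u, v, hu, hv, rfl⟩ := H69.RO.exists_canonical hS (g := z) hz
    have hc := hθ.isClassFunction
    have e1 : ∀ g : G, extendByZero H (fun x => l (π x)) ((u * t * v)⁻¹ * g * (u * t * v)) =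
        extendByZero H (fun x => l (π x)) (t * (u⁻¹ * g * u) * t⁻¹) := fun g => by
      rw [← ext0_conj_mem' H hc (hS.le hv) (t * (u⁻¹ * g * u) * t⁻¹), H69.RO.t_inv hS]
      congr 1
      nth_rewrite 3 [← H69.RO.t_inv hS]
      group
    have e2 : ∀ g : G, extendByZero H (fun x => l (π x)) g =
        extendByZero H (fun x => l (π x)) (u⁻¹ * g * u) := fun g =>
      (ext0_conj_mem' H hc hu g).symm
    rw [Finset.sum_congr rfl fun g _ => by rw [e1, e2 g]]
    have := Fintype.ofFinite D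
    rw [Fintype.sum_equiv (MulAut.conj u⁻¹).toEquiv _ (extendByZero D fun d => l d * conj (l (α d)))
      fun g => ?_, sum_ext0, ← card_mul_classInner,
      hl.classInner_of_ne (hl.comp_surjective α αs) hne.symm, mul_zero]
    change _ = extendByZero D _ (u⁻¹ * g * u⁻¹⁻¹)
    rw [inv_inv]
    generalize u⁻¹ * g * u = w
    by_cases hw : w ∈ D
    · rw [ext0_of_mem D _ hw, ext0_of_mem H _ (hDH hw),
        ext0_of_mem H _ (hDH (H69.RO.conj_t_mem_D hS hw))]
      exact congrArg₂ (fun i j => l i * conj (l j)) (πd ⟨w, hw⟩) (πd (α ⟨w, hw⟩))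
    · rw [ext0_of_not_mem D _ hw]
      by_cases h1 : w ∈ H
      · rw [ext0_of_not_mem H _ (g := t * w * t⁻¹) fun h3 => hw ⟨h1, ?_⟩, map_zero, mul_zero]
        have h4 : (t * w * t⁻¹) • a = a := h3
        rw [H69.RO.t_inv hS, mul_smul, mul_smul, smul_eq_iff_eq_inv_smul, H69.RO.t_inv hS] at h4
        exact h4
      · rw [ext0_of_not_mem H _ h1, zero_mul]
  · exact ⟨_, hθ.isCharacter.charDegree_indFun⟩

theorem fact_eq [Finite G] {p : ℕ} [hp : Fact p.Prime] (χ : IrrCharacter G)
    (h : p ^ (Nat.card G).factorization p ∣ charDegree (χ : G → ℂ)) :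
    (charDegree (χ : G → ℂ)).factorization p = (Nat.card G).factorization p := by
  have h1 := χ.2.charDegree_dvd_card
  have h0 : charDegree (χ : G → ℂ) ≠ 0 := ne_zero_of_dvd_ne_zero Nat.card_pos.ne' h1
  exact le_antisymm ((Nat.factorization_le_iff_dvd h0 Nat.card_pos.ne').2 h1 p)
    ((hp.out.pow_dvd_iff_le_factorization h0).1 h)

/-- a character of a normal subgroup with inertia group of order prime to `q` -/
theorem defect_zero_of_inertia [Finite G] {q : ℕ} [hq : Fact q.Prime] {N : Subgroup G} [N.Normal]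
    {θ : N → ℂ} (hθ : IsIrrCharacter N θ) (h : ¬ q ∣ Nat.card (H32.inertia θ)) :
    ∃ χ : IrrCharacter G,
      (charDegree (χ : G → ℂ)).factorization q = (Nat.card G).factorization q := by
  have := Fintype.ofFinite G
  have := Fintype.ofFinite N
  obtain ⟨χ, hχ, h1⟩ := H32.exists_irr_over hθ
  refine ⟨⟨χ, hχ⟩, fact_eq _ ?_⟩
  obtain ⟨n, hn⟩ := (hχ.isCharacter.restrict N).classInner_nat hθ.isCharacter
  have h2 := H32.clifford_degree hχ hθ h1
  rw [hn, ← hθ.isCharacter.cast_charDegree, ← Nat.cast_mul, ← Nat.cast_mul] at h2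
  rw [show charDegree ((⟨χ, hχ⟩ : IrrCharacter G) : G → ℂ) = _ from charDegree_eq h2]
  refine Dvd.dvd.trans ?_ ((dvd_mul_left _ n).mul_right _)
  have h3 := Nat.ordProj_dvd (Nat.card G) q
  rw [← (H32.inertia θ).card_mul_index] at h3 ⊢
  exact (Nat.Coprime.pow_left _ ((Nat.Prime.coprime_iff_not_dvd hq.out).2 h)).dvd_of_dvd_mul_left h3

end H54.PS
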