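/- The coordinate group of the large Ree groups: blocks, a criterion for homomorphisms,
symbolic coordinates. -/
import Cfsg.Agent.H63.OcSpec

set_option autoImplicit false
set_option linter.unusedSectionVars false
set_option linter.unusedSimpArgs false

namespace H54.Par

open H63.Oc

theorem step {H G : Type*} [Group H] [Group G] (f : H → G) (h1 : f 1 = 1) {N A S R : Set H}
    (mN : ∀ a ∈ N, ∀ b ∈ N, a * b ∈ N) (mA : ∀ a ∈ A, ∀ b ∈ A, a * b ∈ A) (oN : (1 : H) ∈ N)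
    (hN : ∀ a ∈ N, ∀ b ∈ N, f (a * b) = f a * f b) (hA : ∀ a ∈ A, ∀ b ∈ A, f (a * b) = f a * f b)
    (hf : ∀ n ∈ N, ∀ a ∈ A, f (n * a) = f n * f a)
    (hn : ∀ a ∈ A, ∀ n ∈ N, ∃ n' ∈ N, a * n = n' * a) (hS : N ⊆ Submonoid.closure S) (hSN : S ⊆ N)
    (hR : ∀ a ∈ A, ∃ r ∈ R, ∃ r' ∈ R, a = r * r') (hRA : R ⊆ A)
    (hc : ∀ a ∈ R, ∀ n ∈ S, f (a * n) = f a * f n) {n a n' a' : H} (e1 : n ∈ N) (e2 : a ∈ A)
    (e3 : n' ∈ N) (e4 : a' ∈ A) : f (n * a * (n' * a')) = f (n * a) * f (n' * a') := by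
  have key : ∀ a ∈ R, ∀ x ∈ Submonoid.closure S, x ∈ N ∧ f (a * x) = f a * f x := by
    intro a e x hx
    have e2 := hRA e
    induction hx using Submonoid.closure_induction with
    | mem x hx => exact ⟨hSN hx, hc a e x hx⟩
    | one => exact ⟨oN, by rw [mul_one, h1, mul_one]⟩
    | mul x y _ _ hx hy =>
      obtain ⟨x', hx', ex⟩ := hn a e2 x hx.1
      obtain ⟨y', hy', ey⟩ := hn a e2 y hy.1
      refine ⟨mN _ hx.1 _ hy.1, ?_⟩
      have q1 := hx.2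
      have q2 := hy.2
      rw [ex, hf _ hx' _ e2] at q1
      rw [ey, hf _ hy' _ e2] at q2
      rw [← mul_assoc, ex, mul_assoc, ey, ← mul_assoc, hf _ (mN _ hx' _ hy') _ e2, hN _ hx' _ hy',
        hN _ hx.1 _ hy.1, mul_assoc, q2, ← mul_assoc, q1, mul_assoc]
  have key2 : f (a * n') = f a * f n' := by
    obtain ⟨r, hr, r', hr', rfl⟩ := hR a e2
    obtain ⟨x, hx, ex⟩ := hn r' (hRA hr') n' e3
    obtain ⟨y, hy, ey⟩ := hn r (hRA hr) x hx
    have q1 := (key r' hr' n' (hS e3)).2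
    have q2 := (key r hr x (hS hx)).2
    rw [ex, hf _ hx _ (hRA hr')] at q1
    rw [ey, hf _ hy _ (hRA hr)] at q2
    rw [mul_assoc, ex, ← mul_assoc, ey, mul_assoc, hf _ hy _ e2, hA _ (hRA hr) _ (hRA hr'), ← mul_assoc, q2,
      mul_assoc, q1, mul_assoc]
  obtain ⟨x, hx, ex⟩ := hn a e2 n' e3
  rw [ex, hf _ hx _ e2] at key2
  rw [show n * a * (n' * a') = n * x * (a * a') by rw [mul_assoc n a, ← mul_assoc a, ex]; simp only [mul_assoc],
    hf _ (mN _ e1 _ hx) _ (mA _ e2 _ e4), hN _ e1 _ hx, hA _ e2 _ e4, hf _ e1 _ e2, hf _ e3 _ e4,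
    mul_assoc, ← mul_assoc (f x), key2]
  simp only [mul_assoc]

variable {K : Type*} [Field K] {T : TF K}

/-- the first `j` blocks of coordinates -/
def lo (j : ℕ) (c : Co T) : Co T :=
  ⟨if 1 ≤ j then c.a1 else 0,
    if 2 ≤ j then c.b2 else 0,
    if 2 ≤ j then c.a2 else 0,
    if 3 ≤ j then c.a3 else 0,
    if 4 ≤ j then c.b4 else 0,
    if 4 ≤ j then c.a4 else 0,
    if 5 ≤ j then c.a5 else 0,
    if 6 ≤ j then c.b6 else 0,
    if 6 ≤ j then c.a6 else 0,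
    if 7 ≤ j then c.a7 else 0,
    if 8 ≤ j then c.b8 else 0,
    if 8 ≤ j then c.a8 else 0⟩

variable (T) in
/-- an element of the `j`-th root subgroup -/
def blk (j : ℕ) (b a : K) : Co T :=
  ⟨if j = 1 then a else 0,
    if j = 2 then b else 0,
    if j = 2 then a else 0,
    if j = 3 then a else 0,
    if j = 4 then b else 0,
    if j = 4 then a else 0,
    if j = 5 then a else 0,
    if j = 6 then b else 0,
    if j = 6 then a else 0,
    if j = 7 then a else 0,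
    if j = 8 then b else 0,
    if j = 8 then a else 0⟩

variable (T) in
/-- the `k`-th generator -/
def gn (k : ℕ) (t : K) : Co T :=
  ⟨if k = 0 then t else 0,
    if k = 1 then t else 0,
    if k = 2 then t else 0,
    if k = 3 then t else 0,
    if k = 4 then t else 0,
    if k = 5 then t else 0,
    if k = 6 then t else 0,
    if k = 7 then t else 0,
    if k = 8 then t else 0,
    if k = 9 then t else 0,
    if k = 10 then t else 0,
    if k = 11 then t else 0⟩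

/-- the block of a coordinate -/
def bn (k : ℕ) : ℕ := [1, 2, 2, 3, 4, 4, 5, 6, 6, 7, 8, 8].getD k 0
/-- the `k`-th coordinate -/
def co (k : ℕ) (c : Co T) : K :=
  [c.a1, c.b2, c.a2, c.a3, c.b4, c.a4, c.a5, c.b6, c.a6, c.a7, c.b8, c.a8].getD k 0
/-- the first coordinate of the `j`-th block -/
def cb (j : ℕ) (c : Co T) : K := [0, 0, c.b2, 0, c.b4, 0, c.b6, 0, c.b8].getD j 0
/-- the second coordinate of the `j`-th block -/
def ca (j : ℕ) (c : Co T) : K := [0, c.a1, c.a2, c.a3, c.a4, c.a5, c.a6, c.a7, c.a8].getD j 0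

theorem lo_zero (c : Co T) : lo 0 c = 1 := by ext <;> simp [lo]
theorem lo_eight (c : Co T) : lo 8 c = c := by ext <;> simp [lo]
theorem lo_one (j : ℕ) : lo j (1 : Co T) = 1 := by ext <;> simp [lo]
theorem gn_zero (k : ℕ) : gn T k 0 = 1 := by ext <;> simp [gn]

theorem lo_succ {j : ℕ} (hj : j < 8) (c : Co T) :
    lo (j + 1) c = lo j c * blk T (j + 1) (cb (j + 1) c) (ca (j + 1) c) := by
  interval_cases j <;> ext <;> simp [lo, blk, cb, ca]

theorem lo_mul {j : ℕ} (hj : j < 8) (c d : Co T) : lo j c * lo j d = lo j (lo j c * lo j d) := by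
  interval_cases j <;> simp only [lo, Nat.reduceLeDiff, ↓reduceIte, le_refl] <;> ext <;> simp

theorem blk_mul {j : ℕ} (hj : j < 8) (b a b' a' : K) : blk T (j + 1) b a * blk T (j + 1) b' a' =
    blk T (j + 1) (b + b') (ca (j + 1) (blk T (j + 1) b a * blk T (j + 1) b' a')) := by
  interval_cases j <;> simp only [blk, Nat.reduceAdd, Nat.reduceEqDiff, ↓reduceIte] <;> ext <;> simp [ca]

set_option maxHeartbeats 800000 in
theorem blk_lo {j : ℕ} (hj : j < 8) (b a : K) (c : Co T) : blk T (j + 1) b a * lo j c =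
    lo j (blk T (j + 1) b a * lo j c) * blk T (j + 1) b a := by
  interval_cases j <;>
    simp only [lo, blk, Nat.reduceAdd, Nat.reduceEqDiff, Nat.reduceLeDiff, ↓reduceIte, le_refl] <;> ext <;> simp

theorem lo_gn {k j : ℕ} (hk : k < 12) (h : bn k ≤ j) (t : K) : lo j (gn T k t) = gn T k t := by
  interval_cases k <;> ext <;> simp [lo, gn] <;> (simp [bn] at h; omega)

theorem co_lo {k j : ℕ} (hk : k < 12) (h : ¬ bn k ≤ j) (c : Co T) : co k (lo j c) = 0 := by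
  interval_cases k <;> simp [lo, co] <;> (simp [bn] at h; omega)

theorem gn_blk {k : ℕ} (hk : k < 12) (t : K) : ∃ b a, gn T k t = blk T (bn k) b a := by
  refine ⟨if k % 3 = 1 then t else 0, if k % 3 = 1 then 0 else t, ?_⟩
  interval_cases k <;> ext <;> simp [blk, gn, bn]

theorem blk_gn {j : ℕ} (hj : j < 8) (b a : K) : ∃ k < 12, ∃ k' < 12, ∃ t, bn k = j + 1 ∧ bn k' = j + 1 ∧
    blk T (j + 1) b a = gn T k t * gn T k' a := by
  refine ⟨[0, 1, 3, 4, 6, 7, 9, 10].getD j 0, ?_, [0, 2, 3, 5, 6, 8, 9, 11].getD j 0, ?_,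
    if j % 2 = 1 then b else 0, ?_, ?_, ?_⟩
  iterate 4 interval_cases j <;> decide
  interval_cases j <;> ext <;> simp [blk, gn]

variable [CharP K 2]

theorem mem_of_gn (S : Submonoid (Co T)) (c : Co T) (h : ∀ k < 12, gn T k (co k c) ∈ S) : c ∈ S := by
  rw [nf c]
  exact mul_mem (mul_mem (mul_mem (mul_mem (mul_mem (mul_mem (mul_mem (mul_mem (mul_mem (mul_mem (mul_mem
    (h 0 (by decide)) (h 1 (by decide))) (h 2 (by decide))) (h 3 (by decide))) (h 4 (by decide)))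
    (h 5 (by decide))) (h 6 (by decide))) (h 7 (by decide))) (h 8 (by decide))) (h 9 (by decide)))
    (h 10 (by decide))) (h 11 (by decide))

/-- a map given by the normal form is a homomorphism if it is so on pairs of root elements -/
theorem hom_of_pairs {G : Type*} [Group G] (f : Co T → G) (h1 : f 1 = 1)
    (hf : ∀ j < 8, ∀ c b a, f (lo j c * blk T (j + 1) b a) = f (lo j c) * f (blk T (j + 1) b a))
    (hd : ∀ j < 8, ∀ b a b' a', f (blk T (j + 1) b a * blk T (j + 1) b' a') =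
      f (blk T (j + 1) b a) * f (blk T (j + 1) b' a'))
    (hp : ∀ k < 12, ∀ i < 12, bn i < bn k → ∀ t u, f (gn T k t * gn T i u) = f (gn T k t) * f (gn T i u))
    (c d : Co T) : f (c * d) = f c * f d := by
  have key : ∀ j ≤ 8, ∀ c d, f (lo j c * lo j d) = f (lo j c) * f (lo j d) := by
    intro j hj
    induction j with
    | zero => intro c d; simp [lo_zero, h1]
    | succ j ih =>
      intro c d
      have hj' : j < 8 := hj
      rw [lo_succ hj' c, lo_succ hj' d]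
      refine step f h1 (N := Set.range (lo j)) (A := {x | ∃ b a, x = blk T (j + 1) b a})
        (S := {x | ∃ i < 12, bn i ≤ j ∧ ∃ t, x = gn T i t}) (R := {x | ∃ i < 12, bn i = j + 1 ∧ ∃ t, x = gn T i t})
        ?_ ?_ ⟨1, lo_one j⟩ ?_ ?_ ?_ ?_ ?_ ?_ ?_ ?_ ?_ ⟨c, rfl⟩ ⟨_, _, rfl⟩ ⟨d, rfl⟩ ⟨_, _, rfl⟩
      · rintro _ ⟨c, rfl⟩ _ ⟨d, rfl⟩; exact ⟨_, (lo_mul hj' c d).symm⟩
      · rintro _ ⟨b, a, rfl⟩ _ ⟨b', a', rfl⟩; exact ⟨_, _, blk_mul hj' ..⟩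
      · rintro _ ⟨c, rfl⟩ _ ⟨d, rfl⟩; exact ih hj'.le c d
      · rintro _ ⟨b, a, rfl⟩ _ ⟨b', a', rfl⟩; exact hd _ hj' ..
      · rintro _ ⟨c, rfl⟩ _ ⟨b, a, rfl⟩; exact hf j hj' ..
      · rintro _ ⟨b, a, rfl⟩ _ ⟨c, rfl⟩; exact ⟨_, ⟨_, rfl⟩, blk_lo hj' ..⟩
      · rintro _ ⟨c, rfl⟩
        refine mem_of_gn _ _ fun i hi => ?_
        by_cases h : bn i ≤ j
        · exact Submonoid.subset_closure ⟨i, hi, h, _, rfl⟩
        · rw [co_lo hi h, gn_zero]; exact one_mem _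
      · rintro _ ⟨i, hi, h, t, rfl⟩; exact ⟨_, lo_gn hi h t⟩
      · rintro _ ⟨b, a, rfl⟩
        obtain ⟨k, hk, k', hk', t, q1, q2, e⟩ := blk_gn (T := T) hj' b a
        exact ⟨_, ⟨k, hk, q1, t, rfl⟩, _, ⟨k', hk', q2, a, rfl⟩, e⟩
      · rintro _ ⟨i, hi, h, t, rfl⟩; exact h ▸ gn_blk hi t
      · rintro _ ⟨k, hk, h, t, rfl⟩ _ ⟨i, hi, h', u, rfl⟩; exact hp _ hk _ hi (by omega) ..
  simpa only [lo_eight] using key 8 le_rfl c d

/-- polynomials: lists of monomials -/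
structure Pl where
  l : List (List ℕ)

instance instZeroPl : Zero Pl := ⟨⟨[]⟩⟩
instance instOnePl : One Pl := ⟨⟨[[]]⟩⟩
instance instAddPl : Add Pl := ⟨fun p q => ⟨p.l ++ q.l⟩⟩
instance instMulPl : Mul Pl := ⟨fun p q => ⟨p.l.flatMap fun m => q.l.map fun n => m ++ n⟩⟩
instance instPowPl : Pow Pl ℕ := ⟨fun p n => Nat.rec 1 (fun _ q => q * p) n⟩
/-- a variable -/
def vr (i : ℕ) : Pl := ⟨[[i]]⟩
/-- the twist of a variable -/
def sgv (i : ℕ) : List ℕ := [[1], [0, 0], [3], [2, 2], [5], [4, 4], [7], [6, 6]].getD i []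
/-- the twist of a polynomial -/
def sg (p : Pl) : Pl := ⟨p.l.map fun m => m.flatMap sgv⟩

/-- the value of a monomial -/
def evm (v : List K) (m : List ℕ) : K := (m.map fun i => v.getD i 1).prod
/-- the value of a polynomial -/
def ev (v : List K) (p : Pl) : K := (p.l.map (evm v)).sum

@[simp] theorem ev_zero (v : List K) : ev v 0 = 0 := rfl
@[simp] theorem ev_one (v : List K) : ev v 1 = 1 := add_zero _
@[simp] theorem ev_vr (v : List K) (i : ℕ) : ev v (vr i) = v.getD i 1 := by simp [ev, vr, evm]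
@[simp] theorem ev_add (v : List K) (p q : Pl) : ev v (p + q) = ev v p + ev v q := by
  change ((p.l ++ q.l).map _).sum = _
  rw [List.map_append, List.sum_append]; rfl
@[simp] theorem ev_mul (v : List K) (p q : Pl) : ev v (p * q) = ev v p * ev v q := by
  change ((p.l.flatMap fun m => q.l.map fun n => m ++ n).map _).sum = _
  unfold ev
  induction p.l with
  | nil => simp
  | cons m l ih =>
    rw [List.flatMap_cons, List.map_append, List.sum_append, ih, List.map_cons, List.sum_cons, add_mul,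
      ← List.sum_map_mul_left q.l (evm v) (evm v m), List.map_map]
    simp only [Function.comp_def, evm, List.map_append, List.prod_append]
@[simp] theorem ev_pow (v : List K) (p : Pl) (n : ℕ) : ev v (p ^ n) = ev v p ^ n := by
  induction n with
  | zero => rw [pow_zero]; exact ev_one v
  | succ n ih => rw [pow_succ, ← ih, ← ev_mul]; rfl

variable (T) in
/-- the values of the variables -/
def vv (a b c d : K) : List K := [a, T.σ a, b, T.σ b, c, T.σ c, d, T.σ d]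

theorem evm_sgv (a b c d : K) (i : ℕ) : evm (vv T a b c d) (sgv i) = T.σ ((vv T a b c d).getD i 1) := by
  by_cases h : i < 8
  · interval_cases i <;> simp [evm, sgv, vv, T.sq, sq]
  · rw [sgv, List.getD_eq_default _ _ (by simpa using h), List.getD_eq_default _ _ (by simpa [vv] using h)]
    simp [evm]

@[simp] theorem ev_sg (a b c d : K) (p : Pl) : ev (vv T a b c d) (sg p) = T.σ (ev (vv T a b c d) p) := by
  unfold ev sg
  rw [map_list_sum, List.map_map, List.map_map]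
  congr 1
  refine congrArg (fun f => List.map f p.l) (funext fun m => ?_)
  induction m with
  | nil => simp [evm]
  | cons i m ih =>
    have := evm_sgv (T := T) a b c d i
    simp only [Function.comp_def, evm, List.flatMap_cons, List.map_append, List.prod_append, List.map_cons,
      List.prod_cons, map_mul] at ih this ⊢
    rw [ih, this]

/-- symbolic coordinates -/
structure PC where
  (a1 b2 a2 a3 b4 a4 a5 b6 a6 a7 b8 a8 : Pl)

variable (T) in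
/-- the value of symbolic coordinates -/
def evC (v : List K) (c : PC) : Co T :=
  ⟨ev v c.a1, ev v c.b2, ev v c.a2, ev v c.a3, ev v c.b4, ev v c.a4, ev v c.a5, ev v c.b6, ev v c.a6, ev v c.a7, ev v c.b8, ev v c.a8⟩

/-- symbolic root elements -/
def blkP (j : ℕ) (b a : Pl) : PC :=
  ⟨if j = 1 then a else 0,
    if j = 2 then b else 0,
    if j = 2 then a else 0,
    if j = 3 then a else 0,
    if j = 4 then b else 0,
    if j = 4 then a else 0,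
    if j = 5 then a else 0,
    if j = 6 then b else 0,
    if j = 6 then a else 0,
    if j = 7 then a else 0,
    if j = 8 then b else 0,
    if j = 8 then a else 0⟩

/-- symbolic generators -/
def gnP (k : ℕ) (t : Pl) : PC :=
  ⟨if k = 0 then t else 0,
    if k = 1 then t else 0,
    if k = 2 then t else 0,
    if k = 3 then t else 0,
    if k = 4 then t else 0,
    if k = 5 then t else 0,
    if k = 6 then t else 0,
    if k = 7 then t else 0,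
    if k = 8 then t else 0,
    if k = 9 then t else 0,
    if k = 10 then t else 0,
    if k = 11 then t else 0⟩

/-- symbolic product -/
def mulP (c d : PC) : PC where
  a1 := c.a1 + d.a1
  b2 := c.b2 + d.b2 + c.b8 * d.a1
  a2 := c.a2 + d.a2 + c.b2 * sg d.b2 + c.b4 * d.a1 + c.b6 * sg d.a1 + c.a8 * d.a1 * sg d.a1 +
      c.b2 * sg c.b8 * sg d.a1 + c.b8 * d.a1 * sg d.b2
  a3 := c.a3 + d.a3 + c.a7 * sg d.a1 + c.b4 * d.b2 + sg c.b6 * d.a1 + c.b8 * d.a2 +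
      sg c.a8 * d.a1 * sg d.a1 + c.a8 * sg d.a1 * d.b2 + c.b4 * c.b8 * d.a1 +
      c.b8 * d.b2 * sg d.b2 + c.a8 * c.b8 * d.a1 * sg d.a1 +
      c.b8 ^ 2 * sg c.b8 * d.a1 * sg d.a1
  b4 := c.b4 + d.b4 + c.a8 * sg d.a1 + c.b8 * sg d.b2
  a4 := c.a4 + d.a4 + c.a5 * d.b2 + c.a6 * d.a1 + c.a7 * d.a2 + c.a8 * sg d.a2 + c.b4 * sg d.b4 +
      c.b6 * d.a3 + c.b8 * sg d.a3 + c.a5 * c.b8 * d.a1 + sg c.a7 * d.a1 * d.b2 +
      c.a7 * c.b6 * sg d.a1 + c.a7 * d.b2 * sg d.b2 + sg c.a8 * d.a1 * d.a2 +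
      c.a8 * sg d.a1 * sg d.b4 + c.a8 * d.a1 * d.a3 + c.a8 * d.a2 * d.b2 + c.b6 * c.b8 * d.a2 +
      sg c.b8 * d.a3 * d.b2 + c.b8 * sg d.b2 * sg d.b4 + sg c.a7 * c.b8 * d.a1 ^ 2 +
      c.a7 * c.a8 * d.a1 * sg d.a1 + c.a7 * sg c.b8 * sg d.a1 * d.b2 +
      sg c.a8 * c.b4 * d.a1 ^ 2 + sg c.a8 * c.b6 * d.a1 * sg d.a1 +
      sg c.a8 * d.a1 * d.b2 * sg d.b2 + c.a8 * c.b6 * sg d.a1 * d.b2 +
      c.a8 * d.b2 ^ 2 * sg d.b2 + c.b4 * sg c.b8 * d.b2 ^ 2 + c.b6 * c.b8 * d.b2 * sg d.b2 +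
      c.b8 * sg c.b8 * d.a1 * d.a3 + c.b8 * sg c.b8 * d.a2 * d.b2 +
      c.a7 * c.b8 * sg c.b8 * d.a1 * sg d.a1 + sg c.a8 * sg c.b8 * d.a1 * sg d.a1 * d.b2 +
      c.a8 * c.b6 * c.b8 * d.a1 * sg d.a1 + c.a8 * sg c.b8 * sg d.a1 * d.b2 ^ 2 +
      c.a8 * sg c.a8 * d.a1 ^ 2 * sg d.a1 + c.a8 ^ 2 * d.a1 * sg d.a1 * d.b2 +
      c.b8 * sg c.b8 * d.b2 ^ 2 * sg d.b2 + sg c.a8 * c.b8 * sg c.b8 * d.a1 ^ 2 * sg d.a1 +
      c.a8 ^ 2 * c.b8 * d.a1 ^ 2 * sg d.a1 + c.b6 * c.b8 ^ 2 * sg c.b8 * d.a1 * sg d.a1 +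
      c.b8 ^ 2 * sg c.b8 ^ 2 * d.a1 * sg d.a1 * d.b2 +
      c.b8 ^ 3 * sg c.b8 ^ 2 * d.a1 ^ 2 * sg d.a1
  a5 := c.a5 + d.a5 + sg c.a7 * d.a1 + c.a7 * sg d.b2 + c.a8 * d.a2 + c.b6 * d.b4 + sg c.b8 * d.a3 +
      c.a7 * sg c.b8 * sg d.a1 + sg c.a8 * d.a1 * sg d.b2 + c.a8 * c.b6 * sg d.a1 +
      c.a8 * d.a1 * d.b4 + c.b6 * c.b8 * sg d.b2 + sg c.b8 * d.b2 * d.b4 +
      c.b8 * sg c.b8 * d.a2 + sg c.a8 * sg c.b8 * d.a1 * sg d.a1 +
      c.a8 ^ 2 * d.a1 * sg d.a1 + c.b8 * sg c.b8 * d.a1 * d.b4 +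
      c.b8 ^ 2 * sg c.b8 ^ 2 * d.a1 * sg d.a1
  b6 := c.b6 + d.b6 + c.a8 * d.a1 + sg c.b8 * d.b2 + c.b8 * sg c.b8 * d.a1
  a6 := c.a6 + d.a6 + sg c.a7 * d.b2 + c.a7 * d.b4 + sg c.a8 * d.a2 + c.a8 * d.a3 + c.b6 * sg d.b6 +
      c.b8 * d.a5 + sg c.a7 * c.b8 * d.a1 + c.a7 * c.a8 * sg d.a1 + c.a7 * c.b8 * sg d.b2 +
      sg c.a8 * c.b6 * sg d.a1 + sg c.a8 * d.a1 * d.b4 + sg c.a8 * d.b2 * sg d.b2 +
      c.a8 * c.b8 * d.a2 + c.a8 * d.a1 * sg d.b6 + c.a8 * d.b2 * d.b4 +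
      sg c.b8 * d.b2 * sg d.b6 + sg c.a8 * sg c.b8 * sg d.a1 * d.b2 +
      sg c.a8 * c.b8 * d.a1 * sg d.b2 + c.a8 * c.b8 * d.a1 * d.b4 +
      c.a8 ^ 2 * sg d.a1 * d.b2 + c.b6 * c.b8 ^ 2 * sg d.b2 +
      c.b8 * sg c.b8 * d.a1 * sg d.b6 + c.b8 ^ 2 * sg c.b8 * d.a2 +
      sg c.a8 * c.b8 * sg c.b8 * d.a1 * sg d.a1 + c.a8 ^ 2 * c.b8 * d.a1 * sg d.a1 +
      c.b6 * c.b8 ^ 2 * sg c.b8 * sg d.a1 + c.b8 ^ 2 * sg c.b8 * d.a1 * d.b4 +
      c.b8 ^ 2 * sg c.b8 ^ 2 * sg d.a1 * d.b2 + c.b8 ^ 3 * sg c.b8 ^ 2 * d.a1 * sg d.a1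
  a7 := c.a7 + d.a7 + sg c.a8 * d.a1 + c.a8 * d.b2 + c.b8 * d.b6 + c.a8 * c.b8 * d.a1 +
      c.b8 ^ 2 * sg c.b8 * d.a1
  b8 := c.b8 + d.b8
  a8 := c.a8 + d.a8 + c.b8 * sg d.b8

/-- symbolic conjugation by `n₈` -/
def nu8P (c : PC) : PC where
  a1 := c.a7
  b2 := c.b6
  a2 := c.a6 + sg c.a7 * c.b2 + c.a7 * c.b4
  a3 := c.a5 + c.a1 * sg c.a7 + c.a7 * sg c.b2 + c.b4 * c.b6
  b4 := c.b4
  a4 := c.a4 + c.a1 * c.a6 + c.a2 * c.a7 + c.a3 * c.b6 + c.a5 * c.b2 + sg c.a1 * c.a7 * c.b6 +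
      c.a1 * sg c.a7 * c.b2 + c.a1 * c.a7 * c.b4 + c.a1 * c.b6 * sg c.b6 + c.b2 * c.b4 * c.b6
  a5 := c.a3 + sg c.a1 * c.a7 + c.a1 * sg c.b6 + c.b2 * c.b4
  b6 := c.b2
  a6 := c.a2 + sg c.a1 * c.b6 + c.a1 * c.b4
  a7 := c.a1
  b8 := 0
  a8 := 0

/-- symbolic conjugation by `n₁` -/
def nu1P (c : PC) : PC where
  a1 := 0
  b2 := c.b8
  a2 := c.a8
  a3 := c.a7 + c.a8 * c.b2 + c.b6 * c.b8 + c.b2 * c.b8 * sg c.b8
  b4 := c.b6 + c.b2 * sg c.b8
  a4 := c.a6 + c.a2 * sg c.a8 + c.a3 * c.a8 + c.a5 * c.b8 + sg c.a7 * c.b2 + c.a7 * c.b4 +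
      c.a2 * c.a8 * c.b8 + c.a3 * c.b8 * sg c.b8 + c.a7 * sg c.b2 * c.b8 + c.b4 * c.b6 * c.b8 +
      c.a2 * c.b8 ^ 2 * sg c.b8 + c.a8 * c.b2 * sg c.b2 * c.b8 + sg c.b2 * c.b6 * c.b8 ^ 2 +
      c.b2 * sg c.b2 * c.b8 ^ 2 * sg c.b8
  a5 := c.a5 + c.a2 * c.a8 + c.a3 * sg c.b8 + c.a7 * sg c.b2 + c.b4 * c.b6 + c.a8 * c.b2 * sg c.b2
  b6 := c.b4 + sg c.b2 * c.b8
  a6 := c.a4 + sg c.a2 * c.a8 + c.a2 * c.a7 + sg c.a3 * c.b8 + c.a3 * c.b6 + c.a5 * c.b2 +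
      sg c.a2 * c.b8 * sg c.b8 + c.a2 * c.a8 * c.b2 + c.a3 * c.b2 * sg c.b8 +
      sg c.b2 * sg c.b4 * c.b8 + c.b2 * c.b4 * c.b6 + c.a8 * c.b2 ^ 2 * sg c.b2
  a7 := c.a3 + c.a2 * c.b8 + c.b2 * c.b4
  b8 := c.b2
  a8 := c.a2

theorem evC_blkP (v : List K) (j : ℕ) (b a : Pl) : evC T v (blkP j b a) = blk T j (ev v b) (ev v a) := by
  ext <;> simp only [evC, blkP, blk] <;> split_ifs <;> rfl

theorem evC_gnP (v : List K) (k : ℕ) (t : Pl) : evC T v (gnP k t) = gn T k (ev v t) := by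
  ext <;> simp only [evC, gnP, gn] <;> split_ifs <;> rfl

theorem evC_mulP (a b c d : K) (x y : PC) :
    evC T (vv T a b c d) (mulP x y) = evC T (vv T a b c d) x * evC T (vv T a b c d) y := by
  ext <;> simp only [evC, mulP, ev_add, ev_mul, ev_pow, ev_sg] <;> rfl

theorem evC_nu8P (a b c d : K) (x : PC) :
    evC T (vv T a b c d) (nu8P x) = (evC T (vv T a b c d) x).nu8 := by
  ext <;> simp only [evC, nu8P, ev_add, ev_mul, ev_pow, ev_sg, ev_zero] <;> rfl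

theorem evC_nu1P (a b c d : K) (x : PC) :
    evC T (vv T a b c d) (nu1P x) = (evC T (vv T a b c d) x).nu1 := by
  ext <;> simp only [evC, nu1P, ev_add, ev_mul, ev_pow, ev_sg, ev_zero] <;> rfl

end H54.Par
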