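/- The relations of the coordinate group of the large Ree groups hold in the Chevalley group of type F4. -/
import Cfsg.Agent.H54.ParCo
import Cfsg.Agent.H68.ReeF

set_option autoImplicit false
set_option linter.unusedSectionVars false

namespace H54.Par

open H63.Oc H68 Cfsg.Lie

/-- the symbolic word of an element -/
def wdP (c : PC) : List (ℕ × Pl) :=
  [(33, c.a1), (24, sg c.a1), (34, c.b2), (26, sg c.b2), (36, c.b2 * sg c.b2 + c.a2), (42, sg c.a2),
    (38, c.a3), (43, sg c.a3), (29, c.b4), (41, sg c.b4), (44, c.b4 * sg c.b4 + c.a4), (47, sg c.a4),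
    (39, c.a5), (45, sg c.a5), (35, c.b6), (31, sg c.b6), (40, c.b6 * sg c.b6 + c.a6), (46, sg c.a6),
    (37, c.a7), (32, sg c.a7), (27, c.b8), (25, sg c.b8), (28, c.b8 * sg c.b8 + c.a8), (30, sg c.a8)]

/-- the word of a reflection -/
def nw {α : Type*} [One α] (r : ℕ) : List (ℕ × α) := [(r, 1), (47 - r, 1), (r, 1)]
/-- the word of `n₁` -/
def n1w {α : Type*} [One α] : List (ℕ × α) := nw 33 ++ nw 24
/-- the word of `n₈` -/
def n8w {α : Type*} [One α] : List (ℕ × α) := nw 27 ++ nw 25 ++ nw 27 ++ nw 25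

/-- translation -/
def toPW (w : List (ℕ × Pl)) : PW := w.map fun p => (p.1, p.2.l.map fun m => (1, m))

/-- comparison of symbolic words -/
noncomputable def chk (w w' : List (ℕ × Pl)) : Bool :=
  H65.chkWords chevF4 id 2 24 16777215 H65.rowsF4 (flatPW (toPW w)) (flatPW (toPW w'))

theorem chk_gn : ∀ k < 12, ∀ i < 12, bn i < bn k → chk (wdP (mulP (gnP k (vr 0)) (gnP i (vr 2))))
    (wdP (gnP k (vr 0)) ++ wdP (gnP i (vr 2))) = true := by decide +kernel

theorem chk_blk : ∀ j < 8, chk (wdP (mulP (blkP (j + 1) (vr 0) (vr 2)) (blkP (j + 1) (vr 4) (vr 6))))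
    (wdP (blkP (j + 1) (vr 0) (vr 2)) ++ wdP (blkP (j + 1) (vr 4) (vr 6))) = true := by decide +kernel

theorem chk_n8 : ∀ k < 10, chk (n8w ++ wdP (gnP k (vr 0)) ++ n8w) (wdP (nu8P (gnP k (vr 0)))) = true := by
  decide +kernel

theorem chk_n1 : ∀ k < 11, chk (n1w ++ wdP (gnP (k + 1) (vr 0)) ++ n1w)
    (wdP (nu1P (gnP (k + 1) (vr 0)))) = true := by decide +kernel

theorem chk_num : chk (n1w ++ n1w) [] = true ∧ chk (n8w ++ n8w) [] = true ∧
    chk (List.replicate 3 (n1w ++ wdP (gnP 0 1))).flatten [] = true ∧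
    chk (List.replicate 8 (n1w ++ n8w)).flatten [] = true ∧ chk (nw 24 ++ nw 33) n1w = true ∧
    chk (nw 25 ++ nw 27 ++ nw 25 ++ nw 27) n8w = true := by decide +kernel

theorem chk_V : chk (n1w ++ wdP (gnP 0 (vr 0)) ++ n1w) [(14, vr 0), (23, sg (vr 0))] = true ∧
    chk (n8w ++ wdP (blkP 8 (vr 0) (vr 2)) ++ n8w)
      [(20, vr 0), (22, sg (vr 0)), (19, vr 0 * sg (vr 0) + vr 2), (17, sg (vr 2))] = true := by decide +kernel

end H54.Par
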