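/- The coordinate group of the large Ree groups inside the Chevalley group of type F4. -/
import Cfsg.Agent.H54.ParEng

set_option autoImplicit false
set_option linter.unusedSectionVars false
set_option linter.unusedSimpArgs false

namespace H54.Par

open H63.Oc H68 Cfsg.Lie

variable {K : Type*} [Field K] [CharP K 2] {T : TF K}

/-- the value of a symbolic word -/
def evW (v : List K) (w : List (ℕ × Pl)) : List (ℕ × K) := w.map fun p => (p.1, ev v p.2)

theorem evPW_toPW (v : List K) (w : List (ℕ × Pl)) : evPW v (toPW w) = evW v w := by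
  simp only [evPW, toPW, evW, ev, List.map_map, Function.comp_def, Int.cast_one, one_mul]; rfl

theorem evW_append (v : List K) (w w' : List (ℕ × Pl)) : evW v (w ++ w') = evW v w ++ evW v w' :=
  List.map_append

theorem evW_nw (v : List K) (r : ℕ) : evW v (nw r) = nw r := by simp [evW, nw]
theorem evW_n1w (v : List K) : evW v n1w = n1w := by simp only [n1w, evW_append, evW_nw]
theorem evW_n8w (v : List K) : evW v n8w = n8w := by simp only [n8w, evW_append, evW_nw]

/-- the word of an element -/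
def iw (c : Co T) : List (ℕ × K) :=
  [(33, c.a1), (24, T.σ c.a1), (34, c.b2), (26, T.σ c.b2), (36, c.b2 * T.σ c.b2 + c.a2), (42, T.σ c.a2),
    (38, c.a3), (43, T.σ c.a3), (29, c.b4), (41, T.σ c.b4), (44, c.b4 * T.σ c.b4 + c.a4), (47, T.σ c.a4),
    (39, c.a5), (45, T.σ c.a5), (35, c.b6), (31, T.σ c.b6), (40, c.b6 * T.σ c.b6 + c.a6), (46, T.σ c.a6),
    (37, c.a7), (32, T.σ c.a7), (27, c.b8), (25, T.σ c.b8), (28, c.b8 * T.σ c.b8 + c.a8), (30, T.σ c.a8)]

/-- the roots in the order of the normal form -/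
def rts : List ℕ := [33, 24, 34, 26, 36, 42, 38, 43, 29, 41, 44, 47, 39, 45, 35, 31, 40, 46, 37, 32, 27, 25, 28, 30]

theorem iw_fst (c : Co T) : (iw c).map Prod.fst = rts := rfl

theorem iw_lt (c : Co T) : ∀ p ∈ iw c, p.1 < chevF4.nroots := fun p hp =>
  (by decide : ∀ r ∈ rts, r < chevF4.nroots) _ (iw_fst c ▸ List.mem_map_of_mem hp)

/-- the matrix of an element -/
noncomputable def io (c : Co T) : GL chevF4.Idx K := (mat chevF4 K).wd (iw c)

theorem io_one : io (1 : Co T) = 1 := by simp [io, iw]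

theorem io_inj : Function.Injective (io (T := T)) := fun c d h => by
  have := (mat chevF4 K).wd_inj rts (iw_fst c) (iw_fst d) (by decide) (Or.inl (by decide +kernel)) h
  simp only [iw, List.cons.injEq, Prod.mk.injEq, true_and, T.σ.injective.eq_iff] at this
  ext <;> tauto

theorem io_lo_blk {j : ℕ} (hj : j < 8) (c : Co T) (b a : K) :
    io (lo j c * blk T (j + 1) b a) = io (lo j c) * io (blk T (j + 1) b a) := by
  interval_cases j <;>
    simp only [lo, blk, Nat.reduceAdd, Nat.reduceEqDiff, Nat.reduceLeDiff, ↓reduceIte, le_refl] <;>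
    simp [io, iw, mul_assoc]

theorem io_x1 (t : K) : io (x1 T t) = (mat chevF4 K).wd [(33, t), (24, T.σ t)] := by simp [io, iw, x1]

theorem io_uu (b a : K) : io (uu T b a) =
    (mat chevF4 K).wd [(27, b), (25, T.σ b), (28, b * T.σ b + a), (30, T.σ a)] := by simp [io, iw, uu]

variable (K) in
/-- the reflection `n₁` -/
noncomputable def N1 : GL chevF4.Idx K := (mat chevF4 K).wd n1w
variable (K) in
/-- the reflection `n₈` -/
noncomputable def N8 : GL chevF4.Idx K := (mat chevF4 K).wd n8w

theorem evW_wdP (a b c d : K) (x : PC) : evW (vv T a b c d) (wdP x) = iw (evC T (vv T a b c d) x) := by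
  simp only [evW, wdP, List.map_cons, List.map_nil, ev_add, ev_mul, ev_sg]; rfl

variable (T) in
theorem eng2 (a b c d : K) {w w' : List (ℕ × Pl)} (h : chk w w' = true) :
    (mat chevF4 K).wd (evW (vv T a b c d) w) = (mat chevF4 K).wd (evW (vv T a b c d) w') := by
  rw [← evPW_toPW, ← evPW_toPW]; exact engF4 _ (by simp [vv]) _ _ h

theorem ev_vv (a b c d : K) : ev (vv T a b c d) (vr 0) = a ∧ ev (vv T a b c d) (vr 2) = b ∧
    ev (vv T a b c d) (vr 4) = c ∧ ev (vv T a b c d) (vr 6) = d := by simp [vv]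

theorem io_mul (c d : Co T) : io (c * d) = io c * io d := by
  refine hom_of_pairs io io_one (fun j hj => io_lo_blk hj) (fun j hj b a b' a' => ?_)
    (fun k hk i hi h t u => ?_) c d
  · have := eng2 T b a b' a' (chk_blk j hj)
    simp only [evW_append, CM.wd_append, evW_wdP, evC_mulP, evC_blkP, ev_vv] at this
    exact this
  · have := eng2 T t u 0 0 (chk_gn k hk i hi h)
    simp only [evW_append, CM.wd_append, evW_wdP, evC_mulP, evC_gnP, ev_vv] at this
    exact this

variable (T) in
/-- the embedding of the coordinate group -/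
noncomputable def ioH : Co T →* GL chevF4.Idx K := MonoidHom.mk' io io_mul

include T in
theorem N1_sq : N1 K * N1 K = 1 := by
  have := eng2 T 0 0 0 0 chk_num.1
  simp only [evW_append, CM.wd_append, evW_n1w] at this
  exact this

include T in
theorem N8_sq : N8 K * N8 K = 1 := by
  have := eng2 T 0 0 0 0 chk_num.2.1
  simp only [evW_append, CM.wd_append, evW_n8w] at this
  exact this

theorem rank1 : (N1 K * io (x1 T 1)) ^ 3 = 1 := by
  have := eng2 T 0 0 0 0 chk_num.2.2.1
  simp only [List.replicate, List.flatten_cons, List.flatten_nil, List.append_nil, evW_append, CM.wd_append,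
    evW_n1w, evW_wdP, evC_gnP, ev_one] at this
  rw [pow_succ', pow_two]; exact this

include T in
theorem braid : (N1 K * N8 K) ^ 8 = 1 := by
  have := eng2 T 0 0 0 0 chk_num.2.2.2.1
  simp only [List.replicate, List.flatten_cons, List.flatten_nil, List.append_nil, evW_append, CM.wd_append,
    evW_n1w, evW_n8w] at this
  simp only [pow_succ', pow_zero, mul_one]; exact this

theorem N8_conj {c : Co T} (hc : c ∈ sQ T) : N8 K * io c * N8 K = io c.nu8 := by
  let S : Submonoid (Co T) :=
    { carrier := {c | c ∈ sQ T ∧ N8 K * io c * N8 K = io c.nu8}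
      one_mem' := ⟨one_mem _, by
        rw [io_one, mul_one, N8_sq (T := T), show (1 : Co T).nu8 = 1 by ext <;> simp [Co.nu8], io_one]⟩
      mul_mem' := fun {a b} ha hb => ⟨mul_mem ha.1 hb.1, by
        rw [nu8_mul ha.1 hb.1, io_mul, io_mul, ← ha.2, ← hb.2]
        simp only [mul_assoc]
        rw [← mul_assoc (N8 K) (N8 K), N8_sq (T := T), one_mul]⟩ }
  refine (mem_of_gn S c fun k hk => ?_).2
  by_cases h : k < 10
  · refine ⟨by constructor <;> simp [gn] <;> omega, ?_⟩
    have := eng2 T (co k c) 0 0 0 (chk_n8 k h)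
    simp only [evW_append, CM.wd_append, evW_wdP, evW_n8w, evC_nu8P, evC_gnP, ev_vv] at this
    exact this
  · rw [show co k c = 0 by interval_cases k <;> [exact hc.1; exact hc.2], gn_zero]; exact one_mem _

theorem N1_conj {c : Co T} (hc : c ∈ sQ1 T) : N1 K * io c * N1 K = io c.nu1 := by
  let S : Submonoid (Co T) :=
    { carrier := {c | c ∈ sQ1 T ∧ N1 K * io c * N1 K = io c.nu1}
      one_mem' := ⟨one_mem _, by
        rw [io_one, mul_one, N1_sq (T := T), show (1 : Co T).nu1 = 1 by ext <;> simp [Co.nu1], io_one]⟩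
      mul_mem' := fun {a b} ha hb => ⟨mul_mem ha.1 hb.1, by
        rw [nu1_mul ha.1 hb.1, io_mul, io_mul, ← ha.2, ← hb.2]
        simp only [mul_assoc]
        rw [← mul_assoc (N1 K) (N1 K), N1_sq (T := T), one_mul]⟩ }
  refine (mem_of_gn S c fun k hk => ?_).2
  rcases k with _ | k
  · rw [show co 0 c = 0 from hc, gn_zero]; exact one_mem _
  · refine ⟨by simp [gn, mem_sQ1], ?_⟩
    have := eng2 T (co (k + 1) c) 0 0 0 (chk_n1 k (by omega))
    simp only [evW_append, CM.wd_append, evW_wdP, evW_n1w, evC_nu1P, evC_gnP, ev_vv] at this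
    exact this

theorem N1_x1 (t : K) : N1 K * io (x1 T t) * N1 K = (mat chevF4 K).wd [(14, t), (23, T.σ t)] := by
  have := eng2 T t 0 0 0 chk_V.1
  simp only [evW_append, CM.wd_append, evW_wdP, evW_n1w, evC_gnP, ev_vv] at this
  simp only [evW, List.map_cons, List.map_nil, ev_sg, ev_vv] at this
  exact this

theorem N8_uu (b a : K) : N8 K * io (uu T b a) * N8 K =
    (mat chevF4 K).wd [(20, b), (22, T.σ b), (19, b * T.σ b + a), (17, T.σ a)] := by
  have := eng2 T b a 0 0 chk_V.2
  simp only [evW_append, CM.wd_append, evW_wdP, evW_n8w, evC_blkP, ev_vv] at this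
  simp only [evW, List.map_cons, List.map_nil, ev_sg, ev_add, ev_mul, ev_vv] at this
  exact this

theorem n_eq_nw (i : Fin chevF4.rank) : (mat chevF4 K).T.n i = (mat chevF4 K).wd (nw (chevF4.simple i)) := by
  rw [(mat chevF4 K).n_eq, CharTwo.neg_eq, show chevF4.neg (chevF4.simple i) = 47 - chevF4.simple i by
    revert i; decide]
  simp [nw, mul_assoc]

/-- the nodes of the diagram -/
def nd (i : Fin 4) : Fin chevF4.rank := i

theorem N1_eq : N1 K = (mat chevF4 K).T.n (nd 0) * (mat chevF4 K).T.n (nd 3) := by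
  rw [n_eq_nw, n_eq_nw, ← CM.wd_append]; rfl

theorem N8_eq : N8 K = (mat chevF4 K).T.n (nd 1) * (mat chevF4 K).T.n (nd 2) * (mat chevF4 K).T.n (nd 1) *
    (mat chevF4 K).T.n (nd 2) := by
  rw [n_eq_nw, n_eq_nw, ← CM.wd_append, ← CM.wd_append, ← CM.wd_append]; rfl

include T in
theorem N1_eq' : N1 K = (mat chevF4 K).T.n (nd 3) * (mat chevF4 K).T.n (nd 0) := by
  rw [n_eq_nw, n_eq_nw]
  have := (eng2 T 0 0 0 0 chk_num.2.2.2.2.1).symm
  simp only [evW_append, CM.wd_append, evW_n1w, evW_nw] at this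
  exact this

include T in
theorem N8_eq' : N8 K = (mat chevF4 K).T.n (nd 2) * (mat chevF4 K).T.n (nd 1) * (mat chevF4 K).T.n (nd 2) *
    (mat chevF4 K).T.n (nd 1) := by
  rw [n_eq_nw, n_eq_nw]
  have := (eng2 T 0 0 0 0 chk_num.2.2.2.2.2).symm
  simp only [evW_append, CM.wd_append, evW_n8w, evW_nw] at this
  exact this

theorem N1_mem_N : N1 K ∈ (mat chevF4 K).T.N := by
  rw [N1_eq]; exact mul_mem (H64.RGD.n_mem_N _ _) (H64.RGD.n_mem_N _ _)

theorem N8_mem_N : N8 K ∈ (mat chevF4 K).T.N := by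
  rw [N8_eq]
  exact mul_mem (mul_mem (mul_mem (H64.RGD.n_mem_N _ _) (H64.RGD.n_mem_N _ _)) (H64.RGD.n_mem_N _ _))
    (H64.RGD.n_mem_N _ _)

theorem ac_N1 : Ac (mat chevF4 K).T (N1 K) (wP chevF4 [0, 3]) := by
  rw [N1_eq]; exact (ac_n _).mul (ac_n _)

theorem ac_N8 : Ac (mat chevF4 K).T (N8 K) (wP chevF4 [1, 2, 1, 2]) := by
  rw [N8_eq]; exact (((ac_n _).mul (ac_n _)).mul (ac_n _)).mul (ac_n _)

end H54.Par
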