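/- The large Ree groups as amalgams in coordinates (job MODEL of blueprints/PARROTT.md). -/
import Cfsg.Agent.H54.ParGL

set_option autoImplicit false
set_option linter.unusedSectionVars false
set_option linter.unusedSimpArgs false

universe v

namespace H54.Par

open H63.Oc H68 Cfsg.Lie

section Gen

variable {K : Type*} [Field K] [CharP K 2] {T : TF K}

variable (T) in
/-- the twist on units -/
def us : Kˣ →* Kˣ := Units.map (T.σ : K →* K)

theorem us_us (a : Kˣ) : us T (us T a) = a ^ 2 := Units.ext (by simpa [us] using T.sq a)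

variable (T) in
/-- monomials in the torus parameters -/
def mon (p : Kˣ × Kˣ) (e : ℤ × ℤ × ℤ × ℤ) : Kˣ :=
  p.1 ^ e.1 * us T p.1 ^ e.2.1 * p.2 ^ e.2.2.1 * us T p.2 ^ e.2.2.2

theorem mon_mul (p q : Kˣ × Kˣ) (e : ℤ × ℤ × ℤ × ℤ) : mon T (p * q) e = mon T p e * mon T q e := by
  simp only [mon, Prod.fst_mul, Prod.snd_mul, map_mul, mul_zpow]; ac_rfl

theorem us_mon (p : Kˣ × Kˣ) (a b c d : ℤ) : us T (mon T p (a, b, c, d)) = mon T p (2 * b, a, 2 * d, c) := by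
  simp only [mon, map_mul, map_zpow, us_us, zpow_mul, zpow_ofNat]
  simp only [mul_comm, mul_left_comm, mul_assoc]

variable (T) in
/-- the parameters of a torus element -/
def tc : Kˣ × Kˣ →* (Fin chevF4.rank → Kˣ) :=
  MonoidHom.mk' (fun p => tl chevF4 [mon T p (2, 1, 3, 2), mon T p (3, 2, 6, 4), mon T p (4, 3, 8, 6),
    mon T p (2, 2, 4, 3)]) fun p q => by
      funext i
      fin_cases i <;> exact mon_mul ..

/-- the exponents of the character at a root -/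
def ex (r : ℕ) : ℤ × ℤ × ℤ × ℤ :=
  (2 * chevF4.cartan 0 r + 3 * chevF4.cartan 1 r + 4 * chevF4.cartan 2 r + 2 * chevF4.cartan 3 r,
    1 * chevF4.cartan 0 r + 2 * chevF4.cartan 1 r + 3 * chevF4.cartan 2 r + 2 * chevF4.cartan 3 r,
    3 * chevF4.cartan 0 r + 6 * chevF4.cartan 1 r + 8 * chevF4.cartan 2 r + 4 * chevF4.cartan 3 r,
    2 * chevF4.cartan 0 r + 4 * chevF4.cartan 1 r + 6 * chevF4.cartan 2 r + 3 * chevF4.cartan 3 r)

theorem chi_tc (p : Kˣ × Kˣ) (r : ℕ) : CM.chi (tc T p) r = mon T p (ex r) := by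
  refine (chi_tl _ rfl (z := [chevF4.cartan 0 r, chevF4.cartan 1 r, chevF4.cartan 2 r, chevF4.cartan 3 r])
    rfl).trans ?_
  simp only [List.zipWith_cons_cons, List.zipWith_nil_right, List.prod_cons, List.prod_nil, mul_one, mon, ex,
    mul_zpow, ← zpow_mul, zpow_add]
  ac_rfl

set_option synthInstance.maxSize 2000 in
theorem ex_val : ex 33 = (1, 0, 0, 0) ∧ ex 24 = (0, 1, 0, 0) ∧ ex 34 = (1, 0, 1, 0) ∧ ex 26 = (0, 1, 0, 1) ∧
    ex 36 = (1, 1, 1, 1) ∧ ex 42 = (2, 1, 2, 1) ∧ ex 38 = (1, 1, 2, 1) ∧ ex 43 = (2, 1, 2, 2) ∧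
    ex 29 = (0, 1, 1, 1) ∧ ex 41 = (2, 0, 2, 1) ∧ ex 44 = (2, 1, 3, 2) ∧ ex 47 = (2, 2, 4, 3) ∧
    ex 39 = (1, 1, 2, 2) ∧ ex 45 = (2, 1, 4, 2) ∧ ex 35 = (1, 0, 1, 1) ∧ ex 31 = (0, 1, 2, 1) ∧
    ex 40 = (1, 1, 3, 2) ∧ ex 46 = (2, 1, 4, 3) ∧ ex 37 = (1, 0, 2, 1) ∧ ex 32 = (0, 1, 2, 2) ∧
    ex 27 = (0, 0, 1, 0) ∧ ex 25 = (0, 0, 0, 1) ∧ ex 28 = (0, 0, 1, 1) ∧ ex 30 = (0, 0, 2, 1) ∧
    ex 14 = (-1, 0, 0, 0) ∧ ex 23 = (0, -1, 0, 0) ∧ ex 20 = (0, 0, -1, 0) ∧ ex 22 = (0, 0, 0, -1) := by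
  decide +kernel

variable (T) in
/-- the torus -/
noncomputable def hT : Kˣ × Kˣ →* GL chevF4.Idx K := (mat chevF4 K).tor.comp (tc T)

theorem hT_apply (p : Kˣ × Kˣ) : hT T p = (mat chevF4 K).tor (tc T p) := rfl

theorem hT_conj (p : Kˣ × Kˣ) (c : Co T) : hT T p * io c * (hT T p)⁻¹ = io (dg T p.1 p.2 c) := by
  rw [hT_apply, io, CM.tor_conj_wd _ _ (iw_lt c), io]
  congr 1
  simp only [iw, List.map_cons, List.map_nil, chi_tc, ex_val, mon, us, dg, zpow_ofNat, pow_zero, pow_one, map_mul,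
    map_pow, T.sq, Units.val_mul, Units.val_pow_eq_pow_val, Units.coe_map, MonoidHom.coe_coe, Units.val_one,
    List.cons.injEq, Prod.mk.injEq, true_and, and_true]
  (repeat' apply And.intro) <;> ring

theorem hT_inj : Function.Injective (hT T) := fun p q h => by
  rw [hT_apply, hT_apply, CM.tor_eq_iff] at h
  have h1 : CM.chi (tc T p) 33 = CM.chi (tc T q) 33 := h (nd 0)
  have h2 : CM.chi (tc T p) 27 = CM.chi (tc T q) 27 := h (nd 1)
  exact Prod.ext (by simpa [chi_tc, ex_val, mon] using h1) (by simpa [chi_tc, ex_val, mon] using h2)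

theorem conj_hT {n : GL chevF4.Idx K} (hn : n ∈ (mat chevF4 K).T.N) {l : List ℕ}
    (hw : wP chevF4 l ∈ (rd chevF4).W) (h : Ac (mat chevF4 K).T n (wP chevF4 l)) (h2 : n * n = 1)
    (hl : ∀ j < 4, fN chevF4 l (fN chevF4 l (chevF4.simple j)) = chevF4.simple j) {p q : Kˣ × Kˣ}
    (e : ∀ j < 4, mon T p (ex (fN chevF4 l (chevF4.simple j))) = mon T q (ex (chevF4.simple j))) :
    n * hT T p * n = hT T q := by
  obtain ⟨c, hc⟩ := (mat chevF4 K).exists_tor ((mat chevF4 K).T.conj_H hn ((mat chevF4 K).tor_mem (tc T p)))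
  have h3 := fun j => (mat chevF4 K).chi_conj hw hn h hc (wP chevF4 l ((rd chevF4).sim j))
  rw [inv_eq_of_mul_eq_one_right h2] at hc
  rw [hT_apply, hc, hT_apply, CM.tor_eq_iff]
  intro j
  have := h3 j
  rw [wP_val, wP_val, rd_sim_val, hl j j.2, chi_tc, e j j.2] at this
  rw [this, chi_tc]

theorem N8_hT (p : Kˣ × Kˣ) : N8 K * hT T p * N8 K = hT T (w8 T p) := by
  refine conj_hT N8_mem_N (wo1_F4 ▸ twF4.wo_mem_W 1) ac_N8 (N8_sq (T := T)) (by decide) fun j hj => ?_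
  have h : ∀ j < 4, fN chevF4 [1, 2, 1, 2] (chevF4.simple j) = [37, 20, 22, 32].getD j 0 ∧
    chevF4.simple j = [33, 27, 25, 24].getD j 0 := by decide
  have h8 : w8 T p = (p.1 * (p.2 ^ 2 * us T p.2), p.2⁻¹) := rfl
  rw [(h j hj).1, (h j hj).2, h8]
  interval_cases j <;> simp [ex_val, mon, us_us, zpow_ofNat, mul_assoc, mul_comm (p.2 ^ 2)]

theorem N1_hT (p : Kˣ × Kˣ) : N1 K * hT T p * N1 K = hT T (w1 p) := by
  refine conj_hT N1_mem_N (wo0_F4 ▸ twF4.wo_mem_W 0) ac_N1 (N1_sq (T := T)) (by decide) fun j hj => ?_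
  have h : ∀ j < 4, fN chevF4 [0, 3] (chevF4.simple j) = [14, 34, 26, 23].getD j 0 ∧
    chevF4.simple j = [33, 27, 25, 24].getD j 0 := by decide
  rw [(h j hj).1, (h j hj).2]
  interval_cases j <;> simp [ex_val, mon, w1]

theorem w8_T0 (p : T0 T) : w8 T p.1 = p.1⁻¹ := by
  refine Prod.ext (Units.ext ?_) rfl
  have h := congrArg T.σ p.2
  simp only [chi4, map_mul, map_pow, T.sq, map_one] at h
  have := eq_one_of_pw (T := T) (x := (p.1.1 : K) ^ 2 * (p.1.2 ^ 2 * T.σ p.1.2)) (by simp) (i := 1) (j := 1) 0 rfl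
    (by simp only [zpow_one, map_mul, map_pow, T.sq]; linear_combination h)
  simp only [w8, Units.val_mul, Units.val_pow_eq_pow_val, Units.coe_map, MonoidHom.coe_coe, Prod.fst_inv,
    Units.val_inv_eq_inv_val]
  exact eq_inv_of_mul_eq_one_left (by linear_combination this)

theorem x4_comm (t : K) (c : Co T) : Commute (io (x4 T t)) (io c) := by
  rw [Commute, SemiconjBy, ← io_mul, ← io_mul]
  congr 1
  ext <;> simp [x4, add_comm]

theorem x4_N8 (t : K) : Commute (io (x4 T t)) (N8 K) := by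
  have h := N8_conj (c := x4 T t) ⟨rfl, rfl⟩
  rw [show (x4 T t).nu8 = x4 T t by ext <;> simp [x4, Co.nu8]] at h
  rw [Commute, SemiconjBy]
  conv_rhs => rw [← h, ← mul_assoc, ← mul_assoc, N8_sq (T := T), one_mul]

theorem card_Co [Finite K] : Nat.card (Co T) = Nat.card K ^ 12 := by
  rw [← Nat.card_fin 12, ← Nat.card_fun]
  refine Nat.card_eq_of_bijective (fun c i => co i c) ⟨fun c d h => ?_, fun f =>
    ⟨⟨f 0, f 1, f 2, f 3, f 4, f 5, f 6, f 7, f 8, f 9, f 10, f 11⟩, funext fun i => by fin_cases i <;> rfl⟩⟩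
  have := congrFun h
  exact Co.ext (this 0) (this 1) (this 2) (this 3) (this 4) (this 5) (this 6) (this 7) (this 8) (this 9)
    (this 10) (this 11)

/-- restriction of an amalgam to a subgroup containing it -/
def res {G : Type*} [Group G] (A : AD T G) (H : Subgroup G) (h : A.G0 ≤ H) : AD T H where
  ι := A.ι.codRestrict H fun c => h (Subgroup.subset_closure (Or.inl (Or.inl ⟨c, rfl⟩)))
  inj := fun _ _ e => A.inj (congrArg Subtype.val e)
  n8 := ⟨A.n8, h (Subgroup.subset_closure (Or.inr (Or.inr rfl)))⟩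
  h0 := A.h0.codRestrict H fun p => h (Subgroup.subset_closure (Or.inl (Or.inr ⟨p, A.tor.h_h0 p⟩)))
  h0_conj := fun p c => Subtype.ext (A.h0_conj p c)
  n8_sq := Subtype.ext A.n8_sq
  n8_conj := fun c hc => Subtype.ext (A.n8_conj c hc)
  n8_h0 := fun p => Subtype.ext (A.n8_h0 p)
  rank8 := fun u hu h1 => by
    obtain ⟨u', hu', u'', hu'', p, e⟩ := A.rank8 u hu h1
    exact ⟨u', hu', u'', hu'', p, Subtype.ext e⟩
  h := A.h.codRestrict H fun p => h (Subgroup.subset_closure (Or.inl (Or.inr ⟨p, rfl⟩)))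
  n1 := ⟨A.n1, h (Subgroup.subset_closure (Or.inr (Or.inl rfl)))⟩
  tor := ⟨fun p => Subtype.ext (A.tor.h_h0 p), fun p c => Subtype.ext (A.tor.h_conj p c),
    fun p => Subtype.ext (A.tor.n8_h p)⟩
  n1_sq := Subtype.ext A.n1_sq
  n1_conj := fun c hc => Subtype.ext (A.n1_conj c hc)
  n1_h := fun p => Subtype.ext (A.n1_h p)
  rank1 := Subtype.ext A.rank1

theorem res_G0 {G : Type*} [Group G] (A : AD T G) (H : Subgroup G) (h : A.G0 ≤ H) (h' : H ≤ A.G0) :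
    (res A H h).G0 = ⊤ := by
  have : A.G0 ≤ (res A H h).G0.map H.subtype := by
    refine (Subgroup.closure_le _).2 ?_
    rintro _ ((⟨c, rfl⟩ | ⟨p, rfl⟩) | rfl | rfl)
    · exact ⟨_, Subgroup.subset_closure (Or.inl (Or.inl ⟨c, rfl⟩)), rfl⟩
    · exact ⟨_, Subgroup.subset_closure (Or.inl (Or.inr ⟨p, rfl⟩)), rfl⟩
    · exact ⟨_, Subgroup.subset_closure (Or.inr (Or.inl rfl)), rfl⟩
    · exact ⟨_, Subgroup.subset_closure (Or.inr (Or.inr rfl)), rfl⟩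
  refine eq_top_iff.2 fun g _ => ?_
  obtain ⟨x, hx, e⟩ := this (h' g.2)
  exact (Subtype.ext e : x = g) ▸ hx

end Gen

variable {K : Type*} [Field K] [Fintype K] [CharP K 2] {m : ℕ} (hK : Fintype.card K = 2 ^ (2 * m + 1))
include hK

/-- the twist of the field -/
noncomputable def tf : TF K := ⟨iterateFrobenius K 2 (m + 1), fun x => by
  rw [iterateFrobenius_def, iterateFrobenius_def, ← pow_mul,
    show 2 ^ (m + 1) * 2 ^ (m + 1) = 2 ^ (2 * m + 1) * 2 by ring, pow_mul, ← hK, FiniteField.pow_card]⟩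

theorem tf_σ (x : K) : (tf hK).σ x = x ^ (2 ^ m * 2) := by rw [← pow_succ]; rfl

theorem io_x1' (t : K) : io (x1 (tf hK) (t ^ 2 ^ m)) = (mat chevF4 K).wd (f4PairWord (2 ^ m) 33 24 t) := by
  rw [io_x1, tf_σ, pow_theta2 hK]; rfl

theorem io_uu' (t u : K) :
    io (uu (tf hK) (t ^ 2 ^ m) u) = (mat chevF4 K).wd (b2ClassWord (2 ^ m) 27 25 28 30 t u) := by
  rw [io_uu, tf_σ, tf_σ, pow_theta2 hK, ← pow_succ t, mul_comm _ 2]; rfl

theorem uu_mem (b a : K) :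
    io (uu (tf hK) b a) ∈ UJ (mat chevF4 K).T (twF4.J {1}) ⊓ twistedF4 K (2 ^ m) := by
  have := (fixU1_F4 hK).2 ⟨b ^ (2 ^ m * 2), a, rfl⟩
  rw [← io_uu' hK, pow_theta2' hK] at this
  exact ⟨this.1, (isTw_F4 hK).U_le 1 ((mem_Fix_F4 hK nfU1_F4).2 this)⟩

theorem exists_uu {g : GL chevF4.Idx K} (hg : g ∈ UJ (mat chevF4 K).T (twF4.J {1}) ⊓ twistedF4 K (2 ^ m)) :
    ∃ u ∈ sU8 (tf hK), g = io u := by
  obtain ⟨t, u, rfl⟩ := (fixU1_F4 hK).1 ⟨hg.1, ((isTw_F4 hK).le_fix hg.2).2⟩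
  exact ⟨_, by simp [mem_sU8, uu], (io_uu' hK t u).symm⟩

theorem N1_mem : N1 K ∈ twistedF4 K (2 ^ m) := by
  rw [twistedF4_eq_Fix hK]
  refine ⟨H64.RGD.N_le_Gp _ N1_mem_N, ?_⟩
  change (smF4 hK).σ _ = _
  conv_lhs => rw [N1_eq, (smF4 hK).map_mul _ (H64.RGD.n_mem_Gp _ _) _ (H64.RGD.n_mem_Gp _ _), SM.map_n, SM.map_n]
  exact (N1_eq' (T := tf hK)).symm

theorem N8_mem : N8 K ∈ twistedF4 K (2 ^ m) := by
  rw [twistedF4_eq_Fix hK]
  refine ⟨H64.RGD.N_le_Gp _ N8_mem_N, ?_⟩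
  change (smF4 hK).σ _ = _
  have h := (mat chevF4 K).T.n_mem_Gp
  conv_lhs => rw [N8_eq, (smF4 hK).map_mul _ (mul_mem (mul_mem (h _) (h _)) (h _)) _ (h _),
    (smF4 hK).map_mul _ (mul_mem (h _) (h _)) _ (h _), (smF4 hK).map_mul _ (h _) _ (h _), SM.map_n, SM.map_n]
  exact (N8_eq' (T := tf hK)).symm

theorem io_mem (c : Co (tf hK)) : io c ∈ twistedF4 K (2 ^ m) := by
  let S := ((twistedF4 K (2 ^ m)).comap (ioH (tf hK))).toSubmonoid
  have h8 : ∀ i k t, gn (tf hK) i t ∈ S → i < 10 → gn (tf hK) k t = (gn (tf hK) i t).nu8 → gn (tf hK) k t ∈ S :=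
    fun i k t h hi e => by
      change io (gn (tf hK) k t) ∈ twistedF4 K (2 ^ m)
      rw [e, ← N8_conj (by constructor <;> simp [gn] <;> omega)]
      exact mul_mem (mul_mem (N8_mem hK) h) (N8_mem hK)
  have h1 : ∀ i k t, gn (tf hK) i t ∈ S → i ≠ 0 → gn (tf hK) k t = (gn (tf hK) i t).nu1 → gn (tf hK) k t ∈ S :=
    fun i k t h hi e => by
      change io (gn (tf hK) k t) ∈ twistedF4 K (2 ^ m)
      rw [e, ← N1_conj (by simp [gn, mem_sQ1, hi])]
      exact mul_mem (mul_mem (N1_mem hK) h) (N1_mem hK)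
  have g0 : ∀ t, gn (tf hK) 0 t ∈ S := fun t => by
    have := (fixU0_F4 hK).2 ⟨t ^ (2 ^ m * 2), rfl⟩
    rw [← io_x1' hK, pow_theta2' hK] at this
    exact (isTw_F4 hK).U_le 0 ((mem_Fix_F4 hK nfU0_F4).2 this)
  have g10 : ∀ t, gn (tf hK) 10 t ∈ S := fun t => (uu_mem hK t 0).2
  have g11 : ∀ t, gn (tf hK) 11 t ∈ S := fun t => (uu_mem hK 0 t).2
  have g9 := fun t => h8 0 9 t (g0 t) (by decide) (by ext <;> simp [gn, Co.nu8])
  have g3 := fun t => h1 9 3 t (g9 t) (by decide) (by ext <;> simp [gn, Co.nu1])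
  have g6 := fun t => h8 3 6 t (g3 t) (by decide) (by ext <;> simp [gn, Co.nu8])
  have g1 := fun t => h1 10 1 t (g10 t) (by decide) (by ext <;> simp [gn, Co.nu1])
  have g2 := fun t => h1 11 2 t (g11 t) (by decide) (by ext <;> simp [gn, Co.nu1])
  have g7 := fun t => h8 1 7 t (g1 t) (by decide) (by ext <;> simp [gn, Co.nu8])
  have g8 := fun t => h8 2 8 t (g2 t) (by decide) (by ext <;> simp [gn, Co.nu8])
  have g4 := fun t => h1 7 4 t (g7 t) (by decide) (by ext <;> simp [gn, Co.nu1])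
  have g5 := fun t => h1 8 5 t (g8 t) (by decide) (by ext <;> simp [gn, Co.nu1])
  refine mem_of_gn S c fun k hk => ?_
  interval_cases k
  exacts [g0 _, g1 _, g2 _, g3 _, g4 _, g5 _, g6 _, g7 _, g8 _, g9 _, g10 _, g11 _]

theorem hT_range : (hT (tf hK)).range = (mat chevF4 K).T.H ⊓ twistedF4 K (2 ^ m) := by
  refine Subgroup.eq_of_le_of_card_ge ?_ ?_
  · rintro _ ⟨p, rfl⟩
    have h : ∀ x : Kˣ, us (tf hK) x ^ 2 ^ m = x := fun x => Units.ext (by
      simpa [us, tf_σ] using pow_theta2' hK (x : K))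
    have h1 := h (mon (tf hK) p (2, 1, 3, 2))
    have h2 := h (mon (tf hK) p (3, 2, 6, 4))
    rw [us_mon] at h1 h2
    rw [H_inf_F4 hK]
    refine ⟨(mon (tf hK) p (2, 2, 4, 3), mon (tf hK) p (4, 3, 8, 6)), congrArg (mat chevF4 K).tor ?_⟩
    exact congrArg₂ (fun a b => tl chevF4 [a, b, _, _]) h1 h2
  · rw [card_H_F4 hK, ← Nat.card_congr (MonoidHom.ofInjective hT_inj).toEquiv, Nat.card_prod,
      Nat.card_units, Nat.card_eq_fintype_card, hK, pow_two]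

theorem rank8 {u : Co (tf hK)} (hu : u ∈ sU8 (tf hK)) (h1 : u ≠ 1) : ∃ u' ∈ sU8 (tf hK), ∃ u'' ∈ sU8 (tf hK),
    ∃ p : T0 (tf hK), N8 K * io u * N8 K = io u' * hT (tf hK) p * N8 K * io u'' := by
  have hm := uu_mem hK u.b8 u.a8
  rw [show uu (tf hK) u.b8 u.a8 = u by rw [mem_sU8] at hu; ext <;> simp [uu, hu]] at hm
  obtain ⟨a, ha, k, hk, b, hb, e⟩ := (isTw_F4 hK).rank_one 1 N8_mem_N (N8_mem hK) (wo1_F4 ▸ ac_N8) hm.1 hm.2
    fun h => h1 (io_inj (h.trans io_one.symm))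
  obtain ⟨u', hu', rfl⟩ := exists_uu hK ha
  obtain ⟨u'', hu'', rfl⟩ := exists_uu hK hb
  obtain ⟨p, rfl⟩ := (hT_range hK).ge hk
  have hc : Commute (io (x4 (tf hK) 1)) (hT (tf hK) p) := by
    rw [show hT (tf hK) p = (io u')⁻¹ * (N8 K * io u * (N8 K)⁻¹) * (io u'')⁻¹ * (N8 K)⁻¹ by rw [e]; group]
    exact (((x4_comm 1 u').inv_right.mul_right (((x4_N8 1).mul_right (x4_comm 1 u)).mul_right
      (x4_N8 1).inv_right)).mul_right (x4_comm 1 u'').inv_right).mul_right (x4_N8 1).inv_right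
  have h4 := hT_conj p (x4 (tf hK) 1)
  rw [← hc.eq, mul_inv_cancel_right] at h4
  rw [inv_eq_of_mul_eq_one_right (N8_sq (T := tf hK))] at e
  refine ⟨u', hu', u'', hu'', ⟨p, ?_⟩, by rw [e]; simp only [mul_assoc]⟩
  simpa [dg, x4, mem_T0, chi4] using (congrArg Co.a4 (io_inj h4)).symm

/-- the amalgam inside the linear group -/
noncomputable def adGL : AD (tf hK) (GL chevF4.Idx K) where
  ι := ioH _
  inj := io_inj
  n8 := N8 K
  h0 := (hT _).comp (T0 _).subtype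
  h0_conj := fun p c => hT_conj p.1 c
  n8_sq := N8_sq (T := tf hK)
  n8_conj := fun _ hc => N8_conj hc
  n8_h0 := fun p => (N8_hT p.1).trans (by rw [w8_T0, map_inv]; rfl)
  rank8 := fun _ hu h1 => rank8 hK hu h1
  h := hT _
  n1 := N1 K
  tor := ⟨fun _ => rfl, hT_conj, N8_hT⟩
  n1_sq := N1_sq (T := tf hK)
  n1_conj := fun _ hc => N1_conj hc
  n1_h := N1_hT
  rank1 := rank1

theorem G0_le : (adGL hK).G0 ≤ twistedF4 K (2 ^ m) := by
  refine (Subgroup.closure_le _).2 ?_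
  rintro _ ((⟨c, rfl⟩ | ⟨p, rfl⟩) | rfl | rfl)
  · exact io_mem hK c
  · exact ((hT_range hK).le ⟨p, rfl⟩).2
  · exact N1_mem hK
  · exact N8_mem hK

theorem le_G0 : twistedF4 K (2 ^ m) ≤ (adGL hK).G0 := by
  have h : ∀ c : Co (tf hK), io c ∈ (adGL hK).G0 := fun c => Subgroup.subset_closure (Or.inl (Or.inl ⟨c, rfl⟩))
  have h1 : N1 K ∈ (adGL hK).G0 := Subgroup.subset_closure (Or.inr (Or.inl rfl))
  have h8 : N8 K ∈ (adGL hK).G0 := Subgroup.subset_closure (Or.inr (Or.inr rfl))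
  rw [twistedF4, mat_genSubgroup, Subgroup.closure_le]
  rintro _ ⟨w, ⟨t, rfl | rfl⟩ | ⟨t, u, rfl | rfl⟩, rfl⟩
  · exact (io_x1' hK t) ▸ h _
  · have := mul_mem (mul_mem h1 (h (x1 _ (t ^ 2 ^ m)))) h1
    rw [N1_x1, tf_σ, pow_theta2 hK] at this
    exact this
  · exact (io_uu' hK t u) ▸ h _
  · have := mul_mem (mul_mem h8 (h (uu _ (t ^ 2 ^ m) u))) h8
    rw [N8_uu, tf_σ, tf_σ, pow_theta2 hK, ← pow_succ t, mul_comm _ 2] at this
    exact this

end H54.Par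

/-- the large Ree groups are models of the amalgam -/
theorem H54.Par.jobModel : H63.Oc.JobModel.{v} := by
  intro K _ _ _ m hK
  open H54.Par H63.Oc in
  refine ⟨tf hK, res (adGL hK) _ (G0_le hK), Subtype.ext (braid (T := tf hK)), res_G0 _ _ _ (le_G0 hK),
    fun P hP => ?_⟩
  set A := H54.Par.res (H54.Par.adGL hK) _ (H54.Par.G0_le hK)
  have hc : Nat.card A.S = 2 ^ ((2 * m + 1) * 12) := by
    rw [← Nat.card_congr (MonoidHom.ofInjective A.inj).toEquiv, H54.Par.card_Co, Nat.card_eq_fintype_card, hK,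
      pow_mul]
  have hi : ¬ 2 ∣ A.S.index := by
    have h := A.S.card_mul_index
    rw [hc, H68.card_F4 hK, pow_mul, mul_assoc, mul_assoc, mul_assoc] at h
    have hq : Even (2 ^ (2 * m + 1)) := (Nat.even_pow.2 ⟨even_two, by omega⟩)
    have h1 : 1 ≤ 2 ^ (2 * m + 1) := Nat.one_le_two_pow
    rw [Nat.eq_of_mul_eq_mul_left (by positivity) h, Nat.two_dvd_ne_zero, ← Nat.odd_iff]
    generalize 2 ^ (2 * m + 1) = q at hq h1
    exact (Nat.Even.sub_odd h1 hq odd_one).mul ((hq.pow_of_ne_zero (by decide)).add_one.mul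
      ((Nat.Even.sub_odd (Nat.one_le_pow _ _ h1) (hq.pow_of_ne_zero (by decide)) odd_one).mul
        (hq.pow_of_ne_zero (by decide)).add_one))
  obtain ⟨Q, hQ⟩ := hP.exists_le_sylow
  obtain ⟨g, hg⟩ := MulAction.exists_smul_eq (Cfsg.Lie.twistedF4 K (2 ^ m)) Q ((IsPGroup.of_card hc).toSylow hi)
  refine ⟨g, fun x hx => ?_⟩
  have : g * x * g⁻¹ ∈ ((g • Q : Sylow 2 _) : Subgroup _) :=
    Subgroup.smul_mem_pointwise_smul x (MulAut.conj g) _ (hQ hx)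
  rwa [hg] at this
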