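import Cfsg.Agent.H85.L3Spec
import Cfsg.Agent.H54.SpAut
import Cfsg.Agent.H54.SpBlocks
import Cfsg.Agent.H54.SpIso

/-! L33 tower (row S3140), slot E1: the normal form of `C_A(z)` in `Sp₄(3)`. -/

set_option autoImplicit false
set_option linter.unusedSectionVars false

namespace H54.L33

open Subgroup Matrix H85.L33 H1.Gold
open H65 (sl2U sl2L)
open scoped MatrixGroups

universe u

/-- the natural module -/
abbrev V4 := Fin 2 ⊕ Fin 2 → F3
/-- the form -/
noncomputable abbrev B4 : LinearMap.BilinForm F3 V4 := spB (Fin 2) F3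

theorem neg_self : ∀ {a : F3}, -a = a → a = 0 := by decide
theorem sq_sum : ∀ {a b : F3}, a * a + b * b = 0 → a = 0 ∧ b = 0 := by decide
theorem unit_cases : ∀ a : F3, a ≠ 0 → a = 1 ∨ a = -1 := by decide
theorem vneg_self {v : V4} (h : -v = v) : v = 0 := funext fun i => neg_self (congrFun h i)

/-- Every automorphism of `Sp₄(3)` is induced by a similitude. -/
theorem aut (τ : MulAut (Sp 2)) : ∃ g : Cfsg.GSp 2 F3, ∀ y, τ y = spDiagAut 2 F3 g y := by
  obtain ⟨g, σ, h⟩ : H57.quotCenterAut _ τ ∈ pspGamma 2 F3 := by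
    rw [pspGamma_eq_top le_rfl (fun _ => by decide)]; trivial
  obtain rfl : σ = 1 := RingEquiv.toRingHom_injective (RingHom.ext_zmod _ _)
  rw [map_one, mul_one] at h
  have : τ.toMonoidHom = (spDiagAut 2 F3 g).toMonoidHom := sp_hom_ext fun v c =>
    eq_of_mk_eq_of_pow (p := 3) (by rw [← map_pow, tv_pow_char, map_one])
      (by rw [← map_pow, tv_pow_char, map_one])
      (congrArg (fun a : MulAut (Cfsg.PSp 2 F3) => a (QuotientGroup.mk (tv v c))) h)
  exact ⟨g, fun y => DFunLike.congr_fun this y⟩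

section Lin

variable {g : Cfsg.GSp 2 F3} {D : Sp 2}

theorem exists_eig (h2 : D * D = 1) (h1 : D ≠ 1) (hn : D ≠ spNegOne _ _) :
    (∃ u : V4, u ≠ 0 ∧ D • u = (1 : F3) • u) ∧ ∃ w : V4, w ≠ 0 ∧ D • w = (-1 : F3) • w := by
  have e : ∀ v : V4, D • D • v = v := fun v => by rw [← mul_smul, h2, one_smul]
  constructor
  · by_contra! h
    refine hn (sp_ext fun v => ?_)
    by_contra hv
    exact h (D • v + v) (fun e0 => hv (by rw [spNegOne_smul, eq_neg_of_add_eq_zero_left e0]))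
      (by rw [smul_add, e, one_smul, add_comm])
  · by_contra! h
    refine h1 (sp_ext fun v => ?_)
    by_contra hv
    exact h (D • v - v) (fun e0 => hv (by rw [one_smul, sub_eq_zero.1 e0]))
      (by rw [smul_sub, e]; simp)

theorem orth {u w : V4} (hu : D • u = (1 : F3) • u) (hw : D • w = (-1 : F3) • w) : B4 u w = 0 :=
  neg_self (by
    have := spB_smul D u w
    rw [hu, hw] at this
    simpa using this)

variable (hB : ∀ u v : V4, B4 (g • u) (g • v) = -B4 u v) (hc : ∀ v : V4, g • D • v = D • g • v)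
include hB hc

theorem not_neg (h2 : D * D = 1) (h1 : D ≠ 1) (hn : D ≠ spNegOne _ _) :
    ¬ ∀ v : V4, g • g • v = -v := fun hg => by
  obtain ⟨⟨u, u0, hu⟩, w, w0, hw⟩ := exists_eig h2 h1 hn
  have hu' : D • g • u = (1 : F3) • g • u := by rw [← hc, hu, gsp_smul_smul]
  have hw' : D • g • w = (-1 : F3) • g • w := by rw [← hc, hw, gsp_smul_smul]
  have k : ∀ (x : V4) (a b : F3), x ≠ 0 → a • x + b • g • x = 0 → a = 0 ∧ b = 0 := fun x a b x0 e => by
    have e1 := congrArg (g • ·) e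
    simp only [smul_add, gsp_smul_smul, hg, smul_zero] at e1
    refine sq_sum ((smul_eq_zero.1 ?_).resolve_right x0)
    generalize g • x = y at e e1
    linear_combination (norm := module) a • e - b • e1
  have li : LinearIndependent F3 ![u, g • u, w, g • w] := Fintype.linearIndependent_iff.2 fun c e => by
    simp only [Fin.sum_univ_four, cons_val] at e
    have e1 := congrArg (D • ·) e
    simp only [smul_add, sp_smul_smul, hu, hu', hw, hw', smul_zero] at e1
    have e2 : c 0 • u + c 1 • g • u = 0 := vneg_self (by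
      generalize g • u = y, g • w = y' at e e1
      linear_combination (norm := module) - e - e1)
    have e3 : c 2 • w + c 3 • g • w = 0 := by
      generalize g • u = y, g • w = y' at e e2
      linear_combination (norm := module) e - e2
    obtain ⟨a0, a1⟩ := k u _ _ u0 e2
    obtain ⟨a2, a3⟩ := k w _ _ w0 e3
    intro i; fin_cases i <;> assumption
  have sp := li.span_eq_top_of_card_eq_finrank (by simp)
  have h0 : B4 u (g • u) = 0 := neg_self (by
    have := hB u (g • u)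
    rw [hg, map_neg, spB_swap (g • u), neg_neg] at this
    exact this.symm)
  refine u0 (eq_zero_of_spB_left fun v => ?_)
  have : B4 u = 0 := LinearMap.ext_on_range sp fun i => by
    fin_cases i
    exacts [spB_self u, h0, orth hu hw, orth hu hw']
  exact LinearMap.congr_fun this v

omit hc in
theorem iso {ε : F3} (hε : ε * ε = 1) {u v : V4} (hu : g • u = ε • u) (hv : g • v = ε • v) :
    B4 u v = 0 := neg_self (by
  have := hB u v
  rw [hu, hv] at this
  simp only [map_smul, LinearMap.smul_apply, smul_eq_mul] at this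
  linear_combination B4 u v * hε - this)

theorem pair (hg : ∀ v : V4, g • g • v = v) (h2 : D * D = 1) {ε : F3} (hε : ε * ε = 1) {u : V4}
    (u0 : u ≠ 0) (hu : D • u = ε • u) : ∃ e f : V4, D • e = ε • e ∧ D • f = ε • f ∧
      g • e = (1 : F3) • e ∧ g • f = (-1 : F3) • f ∧ B4 f e = 1 := by
  have e : ∀ v : V4, D • D • v = v := fun v => by rw [← mul_smul, h2, one_smul]
  obtain ⟨v, hv⟩ : ∃ v, B4 u v ≠ 0 := by
    by_contra! h
    exact u0 (eq_zero_of_spB_left h)
  have hw : D • (v + ε • D • v) = ε • (v + ε • D • v) := by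
    rw [smul_add, sp_smul_smul, e, smul_add, smul_smul, hε, one_smul, add_comm]
  have h1 : B4 u (v + ε • D • v) ≠ 0 := fun h => hv (neg_self (by
    have := spB_smul D u v
    rw [hu] at this
    simp only [map_add, map_smul, LinearMap.smul_apply, smul_eq_mul] at this h
    linear_combination this - h))
  generalize v + ε • D • v = w at hw h1
  have p : ∀ x : V4, g • (x + g • x) = (1 : F3) • (x + g • x) := fun x => by
    rw [smul_add, hg, one_smul, add_comm]
  have m : ∀ x : V4, g • (x - g • x) = (-1 : F3) • (x - g • x) := fun x => by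
    rw [smul_sub, hg]; simp
  have p' : ∀ x : V4, D • x = ε • x → D • (x + g • x) = ε • (x + g • x) := fun x h => by
    rw [smul_add, ← hc, h, gsp_smul_smul, smul_add]
  have m' : ∀ x : V4, D • x = ε • x → D • (x - g • x) = ε • (x - g • x) := fun x h => by
    rw [smul_sub, ← hc, h, gsp_smul_smul, smul_sub]
  have fin : ∀ a b : V4, D • a = ε • a → D • b = ε • b → B4 (b - g • b) (a + g • a) ≠ 0 →
      ∃ e f : V4, D • e = ε • e ∧ D • f = ε • f ∧ g • e = (1 : F3) • e ∧ g • f = (-1 : F3) • f ∧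
        B4 f e = 1 := fun a b ha hb h =>
    ⟨(B4 (b - g • b) (a + g • a))⁻¹ • (a + g • a), b - g • b,
      by rw [sp_smul_smul, p' a ha, smul_comm], m' b hb, by rw [gsp_smul_smul, p, smul_comm], m b,
      by rw [map_smul, smul_eq_mul, inv_mul_cancel₀ h]⟩
  by_contra hn
  have a1 : B4 (u - g • u) (w + g • w) = 0 := by_contra fun h => hn (fin w u hw hu h)
  have a2 : B4 (w - g • w) (u + g • u) = 0 := by_contra fun h => hn (fin u w hu hw h)
  have a3 := iso hB (by decide) (p u) (p w)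
  have a4 := iso hB (by decide) (m u) (m w)
  rw [spB_swap, neg_eq_zero] at a2
  simp only [map_add, map_sub, LinearMap.add_apply, LinearMap.sub_apply] at a1 a2 a3 a4
  exact h1 (by linear_combination a1 + a2 + a3 + a4 - B4 u w * (by decide : (3 : F3) = 0))

omit hB hc in
/-- `diag (1, -1)` -/
def D0 : GL (Fin 2) F3 := ⟨!![1, 0; 0, -1], !![1, 0; 0, -1], by decide, by decide⟩

omit hB hc in
theorem exists_k {e f e' f' : V4} (c1 : B4 e e' = 0) (c3 : B4 f f' = 0) (c5 : B4 e f' = 0)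
    (c6 : B4 f e' = 0) (a5 : B4 f e = 1) (b5 : B4 f' e' = 1) : ∃ k : Sp 2, ∀ v : V4,
    k • v = v (Sum.inl 0) • e + v (Sum.inl 1) • e' + (v (Sum.inr 0) • f + v (Sum.inr 1) • f') := by
  let φ : V4 →ₗ[F3] V4 :=
    { toFun := fun v => v (Sum.inl 0) • e + v (Sum.inl 1) • e' + (v (Sum.inr 0) • f + v (Sum.inr 1) • f')
      map_add' := fun x y => by simp only [Pi.add_apply]; module
      map_smul' := fun c x => by simp only [Pi.smul_apply, smul_eq_mul, RingHom.id_apply]; module }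
  refine ⟨spOfLin φ fun x y => ?_, spOfLin_smul _ _⟩
  rw [spB_eq_sum x y]
  simp only [φ, LinearMap.coe_mk, AddHom.coe_mk, map_add, map_smul, LinearMap.add_apply,
    LinearMap.smul_apply, smul_eq_mul, spB_self, spB_swap e' e, spB_swap f' f, spB_swap f' e,
    spB_swap e' f, spB_swap e f, spB_swap e' f', c1, c3, c5, c6, a5, b5, Fin.sum_univ_two]
  ring

theorem normal (hg : ∀ v : V4, g • g • v = v) (h2 : D * D = 1) (h1 : D ≠ 1)
    (hn : D ≠ spNegOne _ _) : ∃ k : Sp 2, D = k * spLevi D0 * k⁻¹ ∧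
      ∀ y : Sp 2, (∀ v : V4, g • y • v = y • g • v) → ∃ a, y = k * spLevi a * k⁻¹ := by
  obtain ⟨⟨u, u0, hu⟩, w, w0, hw⟩ := exists_eig h2 h1 hn
  obtain ⟨e, f, a1, a2, a3, a4, a5⟩ := pair hB hc hg h2 (by decide) u0 hu
  obtain ⟨e', f', b1, b2, b3, b4, b5⟩ := pair hB hc hg h2 (by decide) w0 hw
  obtain ⟨k, hk⟩ := exists_k (iso hB (by decide) a3 b3) (iso hB (by decide) a4 b4) (orth a1 b2)
    (orth a2 b1) a5 b5
  have hs : ∀ v : V4, g • k • v = k • Sum.elim (v ∘ Sum.inl) (-(v ∘ Sum.inr)) := fun v => by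
    simp only [hk, smul_add, gsp_smul_smul, a3, a4, b3, b4]
    simp
  refine ⟨k, ?_, fun y hy => ?_⟩
  · rw [eq_mul_inv_iff_mul_eq]
    refine sp_ext fun v => ?_
    rw [mul_smul, mul_smul, spLevi_smul]
    simp only [hk, smul_add, sp_smul_smul, a1, a2, b1, b2]
    simp [D0, dotProduct, Fin.sum_univ_two]
  have hy' : ∀ v : V4, (k⁻¹ * y * k) • Sum.elim (v ∘ Sum.inl) (-(v ∘ Sum.inr)) =
      Sum.elim (((k⁻¹ * y * k) • v) ∘ Sum.inl) (-(((k⁻¹ * y * k) • v) ∘ Sum.inr)) := fun v => by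
    rw [mul_smul, mul_smul, ← hs, ← hy, inv_smul_eq_iff, ← hs, mul_smul, mul_smul, smul_inv_smul]
  obtain ⟨a, ha⟩ : k⁻¹ * y * k ∈ (spLevi : GL (Fin 2) F3 →* _).range := by
    refine mem_range_spLevi_iff.2 ⟨(toBlocks₂₁_eq_zero_iff _).2 fun v hv i => ?_,
      (toBlocks₁₂_eq_zero_iff _).2 fun v hv i => ?_⟩
    · have h := hy' v
      rw [show Sum.elim (v ∘ Sum.inl) (-(v ∘ Sum.inr)) = v from funext fun j => by
        rcases j with j | j <;> simp [hv]] at h
      exact neg_self (congrFun h (Sum.inr i)).symm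
    · have h := hy' v
      rw [show Sum.elim (v ∘ Sum.inl) (-(v ∘ Sum.inr)) = -v from funext fun j => by
        rcases j with j | j <;> simp [hv], smul_neg] at h
      exact neg_self (congrFun h (Sum.inl i))
  exact ⟨a, by rw [ha]; group⟩

end Lin

set_option synthInstance.maxSize 2000 in
set_option synthInstance.maxHeartbeats 200000 in
/-- The four possibilities for the images of the two transvections. -/
theorem cases : ∀ P R : Matrix (Fin 2) (Fin 2) F3, P * P * P = 1 → D0.1 * P * D0.1 * P = 1 →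
    R * R * R = 1 → D0.1 * R * D0.1 * R = 1 → P * R * R * P * (P * R * R * P) = -1 →
    (P = (sl2U 1).1 ∧ R = (sl2L 1).1) ∨ (P * P = (sl2U 1).1 ∧ R * R = (sl2L 1).1) ∨
      (R = (sl2U 1).1 ∧ P = (sl2L 1).1) ∨ (R * R = (sl2U 1).1 ∧ P * P = (sl2L 1).1) := by
  have h : ∀ a b c d : F3, (!![a, b; c, d] * !![a, b; c, d] * !![a, b; c, d] = 1 ∧
      D0.1 * !![a, b; c, d] * D0.1 * !![a, b; c, d] = 1) → (c = 0 ∨ b = 0) ∧ a = 1 ∧ d = 1 := by
    decide +kernel
  intro P R h1 h2 h3 h4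
  rw [eta_fin_two P] at h1 h2 ⊢
  rw [eta_fin_two R] at h3 h4 ⊢
  obtain ⟨p, p1, p2⟩ := h _ _ _ _ ⟨h1, h2⟩
  obtain ⟨r, r1, r2⟩ := h _ _ _ _ ⟨h3, h4⟩
  rw [p1, p2, r1, r2]
  generalize P 0 1 = a, P 1 0 = b, R 0 1 = c, R 1 0 = d at p r
  revert a b c d
  decide +kernel

/-- `b12 (sl2U 1)` -/
def uu : SL(3, F3) := b12 (sl2U 1)
/-- `b12 (sl2L 1)` -/
def ll : SL(3, F3) := b12 (sl2L 1)
/-- `b01 (-1)` -/
def dd : SL(3, F3) := b01 (-1)
/-- `b12 (-1)` -/
def zz : SL(3, F3) := b12 (-1)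

theorem rel : uu * uu * uu = 1 ∧ dd * uu * dd * uu = 1 ∧ ll * ll * ll = 1 ∧ dd * ll * dd * ll = 1 ∧
    uu * ll * ll * uu * (uu * ll * ll * uu) = zz ∧ dd * dd = 1 ∧ dd ≠ 1 ∧ dd ≠ zz ∧ zz * zz = 1 ∧
    zz ≠ 1 ∧ uu * zz = zz * uu ∧ ll * zz = zz * ll ∧ dd * zz = zz * dd := by
  decide +kernel

theorem gam : MulAut.conj dd uu = uu * uu ∧ MulAut.conj dd ll = ll * ll ∧ MulAut.conj dd dd = dd ∧
    H57.slGraph _ _ uu = ll * ll ∧ H57.slGraph _ _ ll = uu * uu ∧ H57.slGraph _ _ dd = dd := by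
  decide +kernel

variable {G : Type u} [Group G]

theorem fin {A : Subgroup G} {θ : Sp 2 →* G} {Λ : SL(3, F3) →* G} (hi : Function.Injective Λ)
    (hr : Λ.range = A) (γ : MulAut SL(3, F3)) {a c : GL (Fin 2) F3} (ha : a.1 = (sl2U 1).1)
    (hc : c.1 = (sl2L 1).1) (h1 : θ (spLevi a) = Λ (γ uu)) (h2 : θ (spLevi c) = Λ (γ ll))
    (h3 : θ (spLevi D0) = Λ (γ dd)) : E6 A θ (Λ.comp γ.toMonoidHom) := by
  refine ⟨hi.comp γ.injective, ?_, fun g y hy => ?_, fun y hy => ?_⟩
  · rw [MonoidHom.range_comp, MonoidHom.range_eq_top.2 γ.surjective, ← MonoidHom.range_eq_map, hr]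
  · have e : ((θ.comp spLevi).comp SpecialLinearGroup.toGL).eqLocus
        ((Λ.comp γ.toMonoidHom).comp b12) = ⊤ := by
      have u1 : sl2U 1 ∈ ((θ.comp spLevi).comp SpecialLinearGroup.toGL).eqLocus
          ((Λ.comp γ.toMonoidHom).comp b12) := (congrArg (θ.comp spLevi) (Units.ext ha.symm)).trans h1
      have l1 : sl2L 1 ∈ ((θ.comp spLevi).comp SpecialLinearGroup.toGL).eqLocus
          ((Λ.comp γ.toMonoidHom).comp b12) := (congrArg (θ.comp spLevi) (Units.ext hc.symm)).trans h2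
      refine H57.sl2_closure' (fun s => ?_) fun s => ?_
      · rw [show sl2U s = sl2U 1 ^ s.val from Subtype.ext (by revert s; decide +kernel)]
        exact pow_mem u1 _
      · rw [show sl2L s = sl2L 1 ^ s.val from Subtype.ext (by revert s; decide +kernel)]
        exact pow_mem l1 _
    rw [show y = spLevi (SpecialLinearGroup.toGL g) from Subtype.ext (hy.trans (by
      rw [spLevi_coe, ← map_inv]; rfl))]
    exact (e ▸ mem_top g : g ∈ ((θ.comp spLevi).comp SpecialLinearGroup.toGL).eqLocus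
      ((Λ.comp γ.toMonoidHom).comp b12))
  · rw [show y = spLevi D0 from Subtype.ext (hy.trans (by rw [spLevi_coe]; decide +kernel))]
    exact h3

theorem M6_conj {X A J : Subgroup G} {t z : G} {θ : Sp 2 →* G} (h : M6 X A t z θ J) (k : Sp 2) :
    M6 X A t z (θ.comp (MulAut.conj k).toMonoidHom) J := by
  have e : (θ.comp (MulAut.conj k).toMonoidHom).range = θ.range := by
    rw [MonoidHom.range_comp, MonoidHom.range_eq_top.2 (MulAut.conj k).surjective,
      ← MonoidHom.range_eq_map]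
  refine ⟨h.inj.comp (MulAut.conj k).injective, e ▸ h.MX, fun y hy => h.neg _ ?_, h.JX, e ▸ h.JM,
    e ▸ h.cz, h.cJ, h.J3, h.u2, h.o3, e ▸ h.tM, e ▸ h.out, e ▸ h.AM⟩
  obtain rfl : y = spNegOne _ _ := Subtype.ext hy
  change (k * spNegOne _ _ * k⁻¹).1 = _
  rw [mem_center_iff.1 spNegOne_mem_center k, mul_inv_cancel_right]; rfl

theorem jobE1 : JobE1.{u} := by
  intro kit G _ _ X A t z θ J st hz o2 h
  have : Fact (Nat.Prime 2) := ⟨Nat.prime_two⟩
  obtain ⟨r1, r2, r3, r4, r5, r6, r7, r8, r9, r10, s1, s2, s3⟩ := rel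
  obtain ⟨Λ₀, K⟩ := (kit G A st.ty).md
  obtain ⟨_, hl, e⟩ := (kit G A st.ty).one (Λ₀ zz) (K.rg ▸ ⟨zz, rfl⟩) z hz
    (by rw [orderOf_injective _ K.inj]; exact orderOf_eq_prime (by rw [pow_two, r9]) r10) o2
  obtain ⟨l, rfl⟩ : _ ∈ Λ₀.range := K.rg ▸ hl
  obtain ⟨Λ, hi, hr, hz'⟩ : ∃ Λ : SL(3, F3) →* G, Function.Injective Λ ∧ Λ.range = A ∧ Λ zz = z :=
    ⟨Λ₀.comp (MulAut.conj l).toMonoidHom, K.inj.comp (MulAut.conj l).injective, by
      rw [MonoidHom.range_comp, MonoidHom.range_eq_top.2 (MulAut.conj l).surjective,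
        ← MonoidHom.range_eq_map, K.rg], by rw [← e, ← map_inv, ← map_mul, ← map_mul]; rfl⟩
  let ι := MonoidHom.ofInjective h.inj
  let τ : MulAut (Sp 2) := MulAut.congr ι.symm (θ.range.normalizerMonoidHom ⟨t, h.tM⟩)
  have hτ : ∀ y, θ (τ y) = t * θ y * t⁻¹ := fun y =>
    MonoidHom.apply_ofInjective_symm h.inj _
  obtain ⟨g, hg⟩ := aut τ
  have tt : t * t = 1 := by rw [← pow_two, ← st.o, pow_orderOf_eq_one]
  have ex : ∀ s, s * zz = zz * s → ∃ y, θ y = Λ s ∧ ∀ v : V4, g • y • v = y • g • v := fun s hs => by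
    have m : Λ s ∈ A := hr ▸ ⟨s, rfl⟩
    obtain ⟨y, hy⟩ := h.AM ⟨m, mem_centralizer_singleton_iff.2 (by
      rw [← hz', ← map_mul, hs, map_mul])⟩
    refine ⟨y, hy, fun v => ?_⟩
    rw [← spDiagAut_smul_smul, ← hg, show τ y = y from h.inj (by
      rw [hτ, hy, ← st.tK _ m, mul_inv_cancel_right])]
  obtain ⟨D, hD, cD⟩ := ex dd s3
  obtain ⟨U, hU, cU⟩ := ex uu s1
  obtain ⟨L, hL, cL⟩ := ex ll s2
  have zn : θ (spNegOne _ _) = z := h.neg _ rfl
  have d2 : D * D = 1 := h.inj (by rw [map_mul, hD, ← map_mul, r6, map_one, map_one])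
  have d1 : D ≠ 1 := fun e => r7 (hi (by rw [← hD, e, map_one, map_one]))
  have dn : D ≠ spNegOne _ _ := fun e => r8 (hi (by rw [← hD, e, zn, hz']))
  have hB : ∀ u v : V4, B4 (g • u) (g • v) = -B4 u v := by
    rcases unit_cases _ (gspMult one_le_two F3 g).ne_zero with c | c
    · obtain ⟨g₀, rfl⟩ : g ∈ (spToGSp 2 F3).range := ker_gspMult (F := F3) one_le_two ▸ Units.ext c
      refine absurd ?_ h.out
      rw [← mul_inv_cancel_left (θ g₀) t]
      refine mul_mem_sup ⟨g₀, rfl⟩ ?_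
      rintro _ ⟨y, rfl⟩
      have := hτ y
      rw [hg, spDiagAut_spToGSp, map_mul, map_mul, map_inv] at this
      calc θ y * ((θ g₀)⁻¹ * t) = (θ g₀)⁻¹ * (θ g₀ * θ y * (θ g₀)⁻¹) * t := by group
        _ = _ := by rw [this]; group
    · exact fun u v => by rw [spB_gsp_smul one_le_two, c, neg_one_mul]
  have hgg : ∀ v : V4, g • g • v = v := by
    obtain ⟨c, hc⟩ := pspDiag_eq_one_iff.1 (show pspDiag 2 F3 (g * g) = 1 from MulEquiv.ext fun x => by
      obtain ⟨x, rfl⟩ := QuotientGroup.mk_surjective x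
      rw [pspDiag_mk, map_mul, MulAut.mul_apply, ← hg, ← hg, show τ (τ x) = x from h.inj (by
        rw [hτ, hτ, inv_eq_of_mul_eq_one_right tt, ← mul_assoc, ← mul_assoc, tt, one_mul, mul_assoc,
          tt, mul_one])]; rfl)
    have e : ∀ v : V4, g • g • v = (c : F3) • v := fun v => by rw [← mul_smul, ← hc, gspScalar_smul]
    rcases unit_cases _ c.ne_zero with c1 | c1
    · exact fun v => by rw [e, c1, one_smul]
    · exact absurd (fun v => by rw [e, c1, neg_one_smul]) (not_neg hB cD d2 d1 dn)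
  obtain ⟨k, rfl, hk⟩ := normal hB cD hgg d2 d1 dn
  obtain ⟨a, rfl⟩ := hk U cU
  obtain ⟨c, rfl⟩ := hk L cL
  have h' := M6_conj h k
  generalize hθ : θ.comp (MulAut.conj k).toMonoidHom = θ' at h'
  have q : ∀ y, θ (k * y * k⁻¹) = θ' y := fun y => by rw [← hθ]; rfl
  rw [q] at hD hU hL
  have inj : ∀ {x y : GL (Fin 2) F3}, θ' (spLevi x) = θ' (spLevi y) → x.1 = y.1 := fun e =>
    congrArg Units.val (spLevi_injective (h'.inj e))
  have n1 : θ' (spLevi (-1)) = Λ zz := hz' ▸ h'.neg _ (by rw [spLevi_coe]; decide +kernel)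
  obtain ⟨g1, g2, g3, g4, g5, g6⟩ := gam
  have cs := cases a.1 c.1
    (inj (x := a * a * a) (y := 1) (by simp only [map_mul, hU, map_one]; simp only [← map_mul, r1, map_one]))
    (inj (x := D0 * a * D0 * a) (y := 1) (by
      simp only [map_mul, hU, hD, map_one]; simp only [← map_mul, r2, map_one]))
    (inj (x := c * c * c) (y := 1) (by simp only [map_mul, hL, map_one]; simp only [← map_mul, r3, map_one]))
    (inj (x := D0 * c * D0 * c) (y := 1) (by
      simp only [map_mul, hL, hD, map_one]; simp only [← map_mul, r4, map_one]))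
    (inj (x := a * c * c * a * (a * c * c * a)) (y := -1) (by
      simp only [map_mul, hL, hU, n1]; simp only [← map_mul, r5]))
  refine ⟨θ', ?_⟩
  rcases cs with ⟨x, y⟩ | ⟨x, y⟩ | ⟨x, y⟩ | ⟨x, y⟩
  · exact ⟨_, h', fin hi hr 1 x y hU hL hD⟩
  · exact ⟨_, h', fin hi hr (MulAut.conj dd) (a := a * a) (c := c * c) x y
      (by simp only [map_mul, hU, g1]) (by simp only [map_mul, hL, g2]) (by rw [g3, hD])⟩
  · refine ⟨_, h', fin hi hr (H57.slGraph _ _ * MulAut.conj dd) x y ?_ ?_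
      (by rw [MulAut.mul_apply, g3, g6, hD])⟩
    · rw [MulAut.mul_apply, g1, map_mul, g4, ← mul_assoc, r3, one_mul, hL]
    · rw [MulAut.mul_apply, g2, map_mul, g5, ← mul_assoc, r1, one_mul, hU]
  · exact ⟨_, h', fin hi hr (H57.slGraph _ _) (a := c * c) (c := a * a) x y
      (by simp only [map_mul, hL, g4]) (by simp only [map_mul, hU, g5]) (by rw [g6, hD])⟩

end H54.L33
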