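import Cfsg.Agent.H54.L3E1
import Cfsg.Agent.H95.L3Kit
import Cfsg.Agent.H21.CoverId
import Cfsg.Agent.H81.ClassMult
import Cfsg.Agent.H9.Ab8A
import Cfsg.Agent.H9.GenExtra

/-! L33 tower (row S3140), slot M3: `C_X(z) = SL₂(3) ∘ Sp₄(3)`. -/

set_option autoImplicit false
set_option linter.unusedSectionVars false

namespace H54.L33

open Subgroup Cfsg H98 H1.Gold H85.FZ H85.DZ H85.L33 H95.L3
open H31.S2 (mem_cen_iff le_cen1_iff)
open H49.D8 (cen_cl)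
open scoped commutatorElement

universe u

variable {G : Type u} [Group G]

theorem sq_mem {θ : Sp 2 →* G} (hi : Function.Injective θ) {d : G} (hd : d ∈ nor θ.range) :
    ∃ n ∈ θ.range, ∃ c ∈ cen θ.range, d * d = n * c := by
  let τ : MulAut (Sp 2) :=
    MulAut.congr (MonoidHom.ofInjective hi).symm (θ.range.normalizerMonoidHom ⟨d, hd⟩)
  have hτ : ∀ y, θ (τ y) = d * θ y * d⁻¹ := fun y => MonoidHom.apply_ofInjective_symm hi _
  obtain ⟨g, hg⟩ := aut τ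
  obtain ⟨g₀, e⟩ : g * g ∈ (spToGSp 2 F3).range := ker_gspMult (F := F3) one_le_two ▸ Units.ext (by
    rw [map_mul, Units.val_mul]
    rcases unit_cases _ (gspMult one_le_two F3 g).ne_zero with c | c <;> rw [c] <;> decide)
  refine ⟨θ g₀, ⟨g₀, rfl⟩, _, ?_, (mul_inv_cancel_left _ _).symm⟩
  rintro _ ⟨y, rfl⟩
  have : θ (g₀ * y * g₀⁻¹) = d * (d * θ y * d⁻¹) * d⁻¹ := by
    rw [← spDiagAut_spToGSp, e, map_mul, MulAut.mul_apply, ← hg, ← hg, hτ, hτ]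
  rw [map_mul, map_mul, map_inv] at this
  calc θ y * ((θ g₀)⁻¹ * (d * d)) = (θ g₀)⁻¹ * (θ g₀ * θ y * (θ g₀)⁻¹) * (d * d) := by group
    _ = _ := by rw [this]; group

theorem lift {N : Subgroup G} {z v y : G} (f : N →* PSp 2 F3) (hs : Function.Surjective f)
    (hk : ∀ n : N, f n = 1 ↔ (n : G) ∈ zpowers z) (hz : z ∈ cen N) (hv : v ∈ N) (hy : y ∈ N)
    (e : v * y * v⁻¹ * y⁻¹ = z) (z1 : z ≠ 1) :
    ∃ θ : Sp 2 →* G, Function.Injective θ ∧ θ.range = N ∧ ∀ y : Sp 2, y.1 = -1 → θ y = z := by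
  have hZ : f.ker ≤ center N := fun n hn => mem_center_iff.2 fun m =>
    Subtype.ext (zpowers_le.2 hz ((hk n).1 hn) m m.2)
  have zN : z ∈ N := e ▸ mul_mem (mul_mem (mul_mem hv hy) (inv_mem hv)) (inv_mem hy)
  have hC : f.ker ≤ commutator N := fun n hn => by
    obtain ⟨i, hi⟩ := (hk n).1 hn
    rw [show n = ⁅(⟨v, hv⟩ : N), (⟨y, hy⟩ : N)⁆ ^ i from Subtype.ext (by rw [← hi, ← e]; rfl)]
    exact zpow_mem (commutator_mem_commutator (mem_top _) (mem_top _)) _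
  obtain ⟨φ, hφ⟩ := H21.exists_lift_of_perfect (Γ := Sp 2)
    (sp_commutator_eq_top (Or.inr (Or.inl ⟨by simp, by simp⟩))) (H81.sp_two (by simp))
    (QuotientGroup.mk' (center (Sp 2))) hs hZ
  have su := H21.surjective_of_lift_stem f ⟨hs, hZ, hC⟩ φ fun d => by
    obtain ⟨g, hg⟩ := QuotientGroup.mk'_surjective (center (Sp 2)) (f d)
    exact ⟨g, (hφ g).trans hg⟩
  have c : ∀ g, f (φ g) = 1 → g = 1 ∨ g = spNegOne _ _ := fun g h =>
    mem_center_sp_iff.1 ((QuotientGroup.eq_one_iff g).1 ((hφ g).symm.trans h))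
  have n : (φ (spNegOne _ _) : G) = z := by
    obtain ⟨g, hg⟩ := su ⟨z, zN⟩
    rcases c g (by rw [hg, hk]; exact mem_zpowers z) with rfl | rfl
    · exact absurd (congrArg Subtype.val (hg.symm.trans (map_one φ))) z1
    · exact congrArg Subtype.val hg
  refine ⟨N.subtype.comp φ, (injective_iff_map_eq_one _).2 fun g h => ?_, ?_, fun y hy => ?_⟩
  · rcases c g (by rw [show φ g = 1 from Subtype.ext h, map_one]) with rfl | rfl
    exacts [rfl, absurd (n.symm.trans h) z1]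
  · rw [MonoidHom.range_comp, MonoidHom.range_eq_top.2 su, ← MonoidHom.range_eq_map, range_subtype]
  · obtain rfl : y = spNegOne _ _ := Subtype.ext hy
    exact n

theorem le_of_sq [Finite G] {D P K : Subgroup G} (hP : IsSyl 2 P D) (h1 : P ≤ K) (h2 : D ≤ nor K)
    (h3 : ∀ d ∈ D, d * d ∈ K) : D ≤ K := fun d hd => by
  have : Fact (Nat.Prime 2) := ⟨Nat.prime_two⟩
  refine mem_of_parts (fun m hm => ?_) fun m hm =>
    mem_of_odd (k := 1) hm (by rw [pow_one, pow_two]; exact h3 _ (pow_mem hd m))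
  obtain ⟨g, hg, e⟩ := hP.exists_cj_le hm (zpowers_le.2 (pow_mem hd m))
  exact (mem_normalizer_iff.1 (h2 hg) _).2 (h1 (e (conj_mem_cj (mem_zpowers _))))

theorem fix3 {w a z : G} (h3 : w ^ 3 = 1) (hz : w * z = z * w) (z2 : z * z = 1)
    (h : w * a * w⁻¹ = a ∨ w * a * w⁻¹ = a * z) : a * w = w * a := by
  rcases h with h | h
  · exact (mul_inv_eq_iff_eq_mul.1 h).symm
  have e : w * z * w⁻¹ = z := mul_inv_eq_iff_eq_mul.2 hz
  have h2 : w * (a * z) * w⁻¹ = a := by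
    rw [show w * (a * z) * w⁻¹ = w * a * w⁻¹ * (w * z * w⁻¹) by group, h, e, mul_assoc, z2, mul_one]
  have : w ^ 3 * a * (w ^ 3)⁻¹ = a * z := by
    rw [show w ^ 3 * a * (w ^ 3)⁻¹ = w * (w * (w * a * w⁻¹) * w⁻¹) * w⁻¹ by
      rw [pow_three]; group, h, h2, h]
  rw [h3, one_mul, inv_one, mul_one] at this
  rw [← this] at h
  exact (mul_inv_eq_iff_eq_mul.1 h).symm

/-- `Q₀` -/
def gQ : List Cd := [k 1, k 4, k 8]
/-- `S₁` -/
def gS : List Cd := [k 1, k 2, k 16, k 32, k 64, k 128, k 256]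

theorem pQ : H95.L3.Pc gQ := by decide +kernel
theorem pS : H95.L3.Pc gS := by decide +kernel
theorem t1 : ∀ c, c * k 1 = k 1 * c := by decide +kernel
theorem t2 : ∀ c : Cd, c.n < 2 ^ 9 → k 4 * c = c * k 4 → k 8 * c = c * k 8 → In gS c := by
  decide +kernel
theorem t3 : ∀ c : Cd, k 16 * c = c * k 16 → k 32 * c = c * k 32 → k 256 * c = c * k 256 →
    In gQ c := by decide +kernel
theorem t4 : ∀ c, In gQ c → c * c = 1 ∨ c.n < 2 ^ 2 → c = 1 ∨ c = k 1 := by decide +kernel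
theorem t5 : ∀ c, In gQ c → (c * k 4 * c⁻¹ * (k 4)⁻¹).n < 2 ^ 2 ∧ (c * k 8 * c⁻¹ * (k 8)⁻¹).n < 2 ^ 2 := by
  decide +kernel
theorem t6 : ∀ c, In gQ c → (k 512 * c * (k 512)⁻¹ = c * k 1 → c = k 4 ∨ c = k 4 * k 1) ∧
    (k 512 * c * (k 512)⁻¹ = c * (k 4 * k 1) → c = k 8 ∨ c = k 8 * k 1) := by decide +kernel

section Tab

variable [Finite G] {x : ℕ → G} (M : H85.En.Md TS LS x)
include M

theorem rl : x 0 ≠ 1 ∧ x 0 * x 0 = 1 ∧ x 2 * x 2 = x 0 ∧ x 3 * x 3 = x 0 ∧ x 3 ≠ 1 ∧ x 3 ≠ x 0 ∧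
    x 0 * x 3 * (x 0 * x 3) = x 0 ∧ x 8 * x 1 * (x 8)⁻¹ * (x 1)⁻¹ = x 0 ∧ x 4 * x 4 = x 1 ∧
    x 8 * x 4 * (x 8)⁻¹ = x 6 ∧ x 8 * x 5 * (x 8)⁻¹ = x 7 ∧ x 9 * x 2 * (x 9)⁻¹ = x 2 * x 0 ∧
    x 9 * x 3 * (x 9)⁻¹ = x 3 * (x 2 * x 0) ∧ x 2 * x 3 ≠ x 3 * x 2 := by
  rw [eL x 0 1, eL x 1 2, eL x 2 4, eL x 3 8, eL x 4 16, eL x 5 32, eL x 6 64, eL x 7 128,
    eL x 8 256, eL x 9 512]
  simp only [← e_mul M, ← e_inv M, ne_eq, e_eq_one M, e_inj M]
  decide +kernel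

theorem zQ : x 0 ∈ cl [x 2, x 3] := (rl M).2.2.1 ▸ mul_mem (mem_cl (by simp)) (mem_cl (by simp))

theorem Q_eq : cl [x 2, x 3] = sb x gQ := by
  refine le_antisymm (cl_le.2 ?_) (sb_le.2 ?_)
  · simp only [List.forall_mem_cons, eL x 2 4, eL x 3 8]
    exact ⟨mem_sb' (by simp [gQ]), mem_sb' (by simp [gQ]), by simp⟩
  · simp only [gQ, List.forall_mem_cons, ← eL x 0 1, ← eL x 2 4, ← eL x 3 8]
    exact ⟨zQ M, mem_cl (by simp), mem_cl (by simp), by simp⟩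

theorem memS : ∀ i ∈ [0, 1, 4, 5, 6, 7, 8], x i ∈ cl [x 4, x 5, x 8] := by
  obtain ⟨-, -, -, -, -, -, -, r1, r2, r3, r4, -⟩ := rl M
  have a4 : x 4 ∈ cl [x 4, x 5, x 8] := mem_cl (by simp)
  have a5 : x 5 ∈ cl [x 4, x 5, x 8] := mem_cl (by simp)
  have a8 : x 8 ∈ cl [x 4, x 5, x 8] := mem_cl (by simp)
  have a1 : x 1 ∈ cl [x 4, x 5, x 8] := r2 ▸ mul_mem a4 a4
  simp only [List.forall_mem_cons]
  exact ⟨r1 ▸ mul_mem (mul_mem (mul_mem a8 a1) (inv_mem a8)) (inv_mem a1), a1, a4, a5,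
    r3 ▸ mul_mem (mul_mem a8 a4) (inv_mem a8), r4 ▸ mul_mem (mul_mem a8 a5) (inv_mem a8), a8, by simp⟩

theorem zc : H x 10 ≤ cen1 (x 0) := fun w hw => by
  obtain ⟨c, rfl⟩ := surj M hw
  rw [mem_cen1, eL x 0 1, ← e_mul M, ← e_mul M, t1]

theorem cQ : Nat.card (cl [x 2, x 3]) = 2 ^ 3 := by
  rw [Q_eq M, card_ct M (sb_leS _) fun c => mem_sb M pQ]; decide +kernel

theorem cS0 : H x 9 ⊓ cen (cl [x 2, x 3]) ≤ cl [x 4, x 5, x 8] := fun w hw => by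
  obtain ⟨c, rfl⟩ := surj M (H_mono (by decide) hw.1)
  have h := cen_cl.1 hw.2
  simp only [List.forall_mem_cons, eL x 2 4, eL x 3 8, ← e_mul M, e_inj M] at h
  refine sb_le.2 ?_ ((mem_sb M pS).2 (t2 c ((memH M (by decide)).1 hw.1) h.1 h.2.1))
  simpa only [gS, List.forall_mem_cons, ← eL x 0 1, ← eL x 1 2, ← eL x 4 16, ← eL x 5 32,
    ← eL x 6 64, ← eL x 7 128, ← eL x 8 256, List.not_mem_nil, false_imp_iff, implies_true]
    using memS M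

theorem cS1 : H x 10 ⊓ cen (cl [x 4, x 5, x 8]) ≤ cl [x 2, x 3] := fun w hw => by
  obtain ⟨c, rfl⟩ := surj M hw.1
  have h := cen_cl.1 hw.2
  simp only [List.forall_mem_cons, eL x 4 16, eL x 5 32, eL x 8 256, ← e_mul M, e_inj M] at h
  exact Q_eq M ▸ (mem_sb M pQ).2 (t3 c h.1 h.2.1 h.2.2.1)

theorem uQ {q : G} (hq : q ∈ cl [x 2, x 3]) (h : q * q = 1 ∨ q ∈ H x 2) : q = 1 ∨ q = x 0 := by
  obtain ⟨c, hc, rfl⟩ := sb_ex M pQ (Q_eq M ▸ hq)
  rw [← e_mul M, e_eq_one M, memH M (by decide)] at h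
  rw [eL x 0 1, e_eq_one M, e_inj M]
  exact t4 c hc h

theorem uQ' {q : G} (hq : q ∈ cl [x 2, x 3]) (h : q * q = 1 ∨ q ∈ H x 2) : q ∈ zpowers (x 0) := by
  rcases uQ M hq h with rfl | rfl
  exacts [one_mem _, mem_zpowers _]

theorem cmQ {q : G} (hq : q ∈ cl [x 2, x 3]) :
    q * x 2 * q⁻¹ * (x 2)⁻¹ ∈ H x 2 ∧ q * x 3 * q⁻¹ * (x 3)⁻¹ ∈ H x 2 := by
  obtain ⟨c, hc, rfl⟩ := sb_ex M pQ (Q_eq M ▸ hq)
  simpa only [eL x 2 4, eL x 3 8, ← e_mul M, ← e_inv M, memH M (show 2 ≤ 10 by decide)] using t5 c hc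

theorem tQ {q : G} (hq : q ∈ cl [x 2, x 3]) :
    (x 9 * q * (x 9)⁻¹ = q * x 0 → q = x 2 ∨ q = x 2 * x 0) ∧
      (x 9 * q * (x 9)⁻¹ = q * (x 2 * x 0) → q = x 3 ∨ q = x 3 * x 0) := by
  obtain ⟨c, hc, rfl⟩ := sb_ex M pQ (Q_eq M ▸ hq)
  simpa only [eL x 0 1, eL x 2 4, eL x 3 8, eL x 9 512, ← e_mul M, ← e_inv M, e_inj M] using t6 c hc

theorem autQ : Nat.card (MulAut (cl [x 2, x 3])) ∣ 24 := by
  have : Fact (Nat.Prime 2) := ⟨Nat.prime_two⟩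
  obtain ⟨r1, r2, -, -, -, -, -, -, -, -, -, -, -, r⟩ := rl M
  obtain ⟨-, ⟨e⟩⟩ := H9.quaternion_of_unique (cQ M) (fun c => r (congrArg Subtype.val
    (c.commGroup.mul_comm ⟨x 2, mem_cl (by simp)⟩ ⟨x 3, mem_cl (by simp)⟩)))
    (N := zpowers ⟨x 0, zQ M⟩) (by
      rw [Nat.card_zpowers]
      exact orderOf_eq_prime (Subtype.ext ((pow_two _).trans r2)) fun e => r1 (congrArg Subtype.val e))
    fun y hy => by
      rcases uQ M y.2 (Or.inl ((pow_two _).symm.trans (congrArg Subtype.val hy))) with e | e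
      · exact (show y = 1 from Subtype.ext e) ▸ one_mem _
      · exact (show y = ⟨x 0, zQ M⟩ from Subtype.ext e) ▸ mem_zpowers _
  exact (H9.Ab8.q8_of e).aut

end Tab

theorem jobM3 : JobM3.{u} := by
  intro kit G _ _ X A x N f h n
  have : Fact (Nat.Prime 2) := ⟨Nat.prime_two⟩
  have M := md0 h.toB0
  have := h.st.as.normal
  obtain ⟨z1, z2, -, b2, b1, bz, zb, vy, -, -, -, ta, tb, -⟩ := rl M
  have sN : ∀ i ∈ [0, 1, 4, 5, 6, 7, 8], x i ∈ N := fun i hi => n.S1 (memS M i hi)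
  have QJ : cl [x 2, x 3] ≤ cen N := le_centralizer_iff.1 (n.le.trans inf_le_right)
  obtain ⟨θ, hi, rfl, hn⟩ := lift f n.surj n.ker (QJ (zQ M)) (sN 8 (by simp)) (sN 1 (by simp)) vy z1
  have aQ : x 2 ∈ cl [x 2, x 3] := mem_cl (by simp)
  have bQ : x 3 ∈ cl [x 2, x 3] := mem_cl (by simp)
  have zN : zpowers (x 0) ≤ θ.range := zpowers_le.2 (sN 0 (by simp))
  have S0 : IsSyl 2 (H x 9) X := h.SX ▸ h.syl.inf_of_le_normalizer le_top le_normalizer_of_normal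
  have S0z : H x 9 ≤ cen1 (x 0) := (H_mono (by decide)).trans (zc M)
  have QH : cl [x 2, x 3] ≤ H x 9 := cl_le.2 (by simp [x_mem])
  have nC : cen1 (x 0) ≤ nor (X ⊓ cen (cl [x 2, x 3])) :=
    le_normalizer_inf le_normalizer_of_normal (le_normalizer_centralizer h.nQ)
  have cZ : ∀ c ∈ X ⊓ cen (cl [x 2, x 3]), c ∈ cen θ.range → c ∈ zpowers (x 0) := fun c h1 h2 =>
    n.cen c h1 fun y hy => by rw [← h2 y hy]; simp
  have CN : X ⊓ cen (cl [x 2, x 3]) = θ.range := by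
    refine le_antisymm (le_of_sq (S0.inf_of_le_normalizer inf_le_left (S0z.trans nC))
      (fun w hw => n.S1 (cS0 M ⟨hw.1, hw.2.2⟩)) n.nor fun d hd => ?_) n.le
    obtain ⟨m, hm, c, hc, e⟩ := sq_mem hi (n.nor hd)
    exact e ▸ mul_mem hm (zN (cZ c ((mul_mem_cancel_left (n.le hm)).1 (e ▸ mul_mem hd hd)) hc))
  have nN : cen1 (x 0) ≤ nor θ.range := CN ▸ nC
  have nJ : cen1 (x 0) ≤ nor (cen θ.range) := le_normalizer_centralizer nN
  have Jz : cen θ.range ≤ cen1 (x 0) := fun w hw => mem_cen1.2 (hw _ (zN (mem_zpowers _))).symm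
  have SJ : IsSyl 2 (cl [x 2, x 3]) (cen θ.range) := by
    rw [← le_antisymm (fun w (hw : w ∈ H x 10 ⊓ cen θ.range) =>
      cS1 M ⟨hw.1, centralizer_anti n.S1 hw.2⟩) (le_inf (QH.trans (H_mono (by decide))) QJ)]
    exact h.syl.inf_of_le_normalizer le_top ((zc M).trans nJ)
  have JX : cen θ.range ≤ X := by
    refine le_of_sq SJ (QH.trans S0.le) le_normalizer_of_normal fun d _ => ?_
    obtain ⟨m, hm, _, ⟨i, rfl⟩, rfl⟩ :=
      (mem_sup_right_norm le_normalizer_of_normal).1 (h.st.as.sup ▸ mem_top d)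
    have : x 9 ^ i * x 9 ^ i = 1 := by
      rw [← Commute.mul_zpow (Commute.refl _), ← pow_two, ← h.st.o, pow_orderOf_eq_one, one_zpow]
    rw [show m * x 9 ^ i * (m * x 9 ^ i) = m * (x 9 ^ i * m * (x 9 ^ i)⁻¹) * (x 9 ^ i * x 9 ^ i) by
      group, this, mul_one]
    exact mul_mem hm (h.st.as.normal.conj_mem _ hm _)
  have NX : θ.range ≤ X := n.le.trans inf_le_left
  have cz : X ⊓ cen1 (x 0) = cen θ.range ⊔ θ.range := by
    refine le_antisymm (le_of_sq (S0.of_le (le_inf S0.le S0z) inf_le_left) (H_le fun i hi => ?_)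
      (inf_le_right.trans (le_normalizer_sup nJ nN)) fun d hd => ?_)
      (sup_le (le_inf JX Jz) (le_inf NX (le_cen1_iff.2 (QJ (zQ M)))))
    · by_cases c : i = 2 ∨ i = 3
      · rcases c with rfl | rfl
        exacts [mem_sup_left (QJ aQ), mem_sup_left (QJ bQ)]
      · exact mem_sup_right (sN i (by simp only [List.mem_cons]; omega))
    · obtain ⟨m, hm, c, hc, e⟩ := sq_mem hi (nN hd.2)
      exact e ▸ mul_mem (mem_sup_right hm) (mem_sup_left hc)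
  have tM : x 9 ∈ nor θ.range := nN (zc M (x_mem (by decide)))
  have AM : A ⊓ cen1 (x 0) ≤ θ.range := by
    obtain ⟨w, wA, w3, wz, -, -, e⟩ := (kit G A h.st.ty).cz _ _ _ _ h.sd (h.SA ▸ inf_le_right)
    have wt := h.st.tK w wA
    have k : ∀ q c, x 9 * q * (x 9)⁻¹ = q * c → c * w = w * c →
        x 9 * (w * q * w⁻¹) * (x 9)⁻¹ = w * q * w⁻¹ * c := fun q c h1 h2 =>
      calc _ = x 9 * w * q * (x 9 * w)⁻¹ := by group
        _ = w * (x 9 * q * (x 9)⁻¹) * w⁻¹ := by rw [← wt]; group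
        _ = w * q * w⁻¹ * (w * c) * w⁻¹ := by rw [h1]; group
        _ = _ := by rw [← h2]; group
    have nw := h.nQ (mem_cen1.2 wz)
    have a := fix3 w3 wz z2 ((tQ M (conj_mem_of_mem_normalizer nw aQ)).1 (k _ _ ta wz.symm))
    have b := fix3 w3 wz z2 ((tQ M (conj_mem_of_mem_normalizer nw bQ)).2
      (k _ _ tb (by rw [mul_assoc, ← wz, ← mul_assoc, a, mul_assoc])))
    rw [e, cl_le]
    simp only [List.forall_mem_cons]
    exact ⟨sN 8 (by simp), W_mem_of fun r hr => sN r (by revert r; decide),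
      W_mem_of fun r hr => sN r (by revert r; decide),
      CN.le ⟨h.st.AX wA, cen_cl.2 (by simp [a, b])⟩, by simp⟩
  refine ⟨θ, cen θ.range, ?_⟩
  have out : x 9 ∉ θ.range ⊔ cen θ.range := fun c => h.tX (sup_le NX JX c)
  obtain ⟨ε, g, hg, ac⟩ := h.x5
  obtain ⟨j, jJ, m, hm, rfl⟩ := (mem_sup_right_norm (le_centralizer_iff.1 le_rfl |>.trans
    (centralizer_le_normalizer _))).1 (cz.le ⟨hg.1.1.1, mem_cen1.2 (hg.1.1.2 _ (x_mem (by decide))).symm⟩)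
  obtain ⟨J, hJ⟩ : ∃ J, J = cen θ.range := ⟨_, rfl⟩
  replace jJ : j ∈ J := hJ ▸ jJ
  rw [← hJ] at JX Jz SJ QJ cZ cz ⊢
  have JQ : J ≤ nor (cl [x 2, x 3]) := Jz.trans h.nQ
  have cj : ∀ {w q}, w ∈ J → q ∈ cl [x 2, x 3] → w * q * w⁻¹ ∈ cl [x 2, x 3] := fun hw hq =>
    conj_mem_of_mem_normalizer (JQ hw) hq
  have em : ∀ q ∈ cl [x 2, x 3], j * m * q * (j * m)⁻¹ = j * q * j⁻¹ := fun q hq => by
    rw [mul_assoc j, ← (n.le hm).2 q hq]; group
  have ja : j * x 2 * j⁻¹ * (x 3 * x 2)⁻¹ ∈ zpowers (x 0) :=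
    uQ' M (mul_mem (cj jJ aQ) (inv_mem (mul_mem bQ aQ))) (Or.inr (by
      simpa only [em _ aQ, W_cons, W_nil, mul_one] using ac (2, [3, 2]) (by simp [m5])))
  have jb : j * x 3 * j⁻¹ * (x 2)⁻¹ ∈ zpowers (x 0) :=
    uQ' M (mul_mem (cj jJ bQ) (inv_mem aQ)) (Or.inr (by
      simpa only [em _ bQ, W_cons, W_nil, mul_one] using ac (3, [2]) (by simp [m5])))
  have ZQ : zpowers (x 0) ≤ cl [x 2, x 3] := zpowers_le.2 (zQ M)
  have Z2 : ∀ w ∈ zpowers (x 0), w = 1 ∨ w = x 0 := fun w hw =>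
    uQ M (ZQ hw) (Or.inr (zpowers_le.2 (x_mem (by decide)) hw))
  have two : ∀ w ∈ J, IsPGroup 2 (zpowers w) → w ∈ cl [x 2, x 3] := fun w hw h2 =>
    SJ.le_of_le_normalizer' h2 (zpowers_le.2 hw) (zpowers_le.2 (JQ hw)) (mem_zpowers w)
  have qa : ∀ q ∈ cl [x 2, x 3], q * x 2 * q⁻¹ * (x 2)⁻¹ ∈ zpowers (x 0) ∧
      q * x 3 * q⁻¹ * (x 3)⁻¹ ∈ zpowers (x 0) := fun q hq =>
    ⟨uQ' M (mul_mem (cj (QJ hq) aQ) (inv_mem aQ)) (Or.inr (cmQ M hq).1),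
      uQ' M (mul_mem (cj (QJ hq) bQ) (inv_mem bQ)) (Or.inr (cmQ M hq).2)⟩
  have cJ : Nat.card J = 24 := by
    let φ := (cl [x 2, x 3]).normalizerMonoidHom.comp (inclusion JQ)
    have c1 : Nat.card φ.ker ∣ 2 := by
      have : φ.ker ≤ (zpowers (x 0)).subgroupOf J := fun w hw => cZ w ⟨JX w.2, by
        have : inclusion JQ w ∈ (cl [x 2, x 3]).normalizerMonoidHom.ker := hw
        rwa [normalizerMonoidHom_ker] at this⟩ w.2
      refine (card_dvd_of_le this).trans (dvd_of_eq ?_)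
      rw [Nat.card_congr (subgroupOfEquivOfLe (ZQ.trans QJ)).toEquiv, Nat.card_zpowers]
      exact orderOf_eq_prime ((pow_two _).trans z2) z1
    have c2 : Nat.card J ∣ 2 * 24 := by
      rw [← φ.ker.card_mul_index, index_ker]
      exact mul_dvd_mul c1 ((card_subgroup_dvd_card _).trans (autQ M))
    have c3 := ((cl [x 2, x 3]).subgroupOf J).card_mul_index
    rw [Nat.card_congr (subgroupOfEquivOfLe QJ).toEquiv, cQ M] at c3
    have c4 := SJ.not_dvd_relIndex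
    have c5 : (cl [x 2, x 3]).relIndex J ≠ 1 := fun e => by
      have := mul_mem (inv_mem ja) (qa j (relIndex_eq_one.1 e jJ)).1
      rw [show ∀ a b c : G, (c * (b * a)⁻¹)⁻¹ * (c * a⁻¹) = b from fun a b c => by group] at this
      exact (Z2 _ this).elim b1 bz
    have c6 := Nat.le_of_dvd (by decide) c2
    rw [← c3] at c2 c6 ⊢
    change ¬ 2 ∣ ((cl [x 2, x 3]).subgroupOf J).index at c4
    change ((cl [x 2, x 3]).subgroupOf J).index ≠ 1 at c5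
    generalize ((cl [x 2, x 3]).subgroupOf J).index = i at c2 c4 c5 c6
    obtain rfl | rfl : i = 3 ∨ i = 5 := by omega
    · rfl
    · exact absurd c2 (by decide)
  have p24 : ∀ w ∈ J, w ^ 24 = 1 := fun w hw =>
    congrArg Subtype.val (cJ ▸ pow_card_eq_one' (x := (⟨w, hw⟩ : J)))
  have QK : cl [x 2, x 3] ≤ closure {r | r ∈ J ∧ r ^ 3 = 1} := by
    have q := two _ (pow_mem jJ 15) (isPGroup_zpowers (k := 3) (by
      rw [← pow_mul, show 15 * 2 ^ 3 = 24 * 5 from rfl, pow_mul, p24 j jJ, one_pow]))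
    have r3 : (j * j ^ 15) ^ 3 = 1 := by
      rw [← pow_succ', ← pow_mul, show (15 + 1) * 3 = 24 * 2 from rfl, pow_mul, p24 j jJ, one_pow]
    have rJ := mul_mem jJ (pow_mem jJ 15)
    generalize j ^ 15 = q' at q r3 rJ
    have md : ∀ a c, q' * a * q'⁻¹ * a⁻¹ ∈ zpowers (x 0) → j * a * j⁻¹ * c ∈ zpowers (x 0) →
        j * q' * a * (j * q')⁻¹ * c ∈ zpowers (x 0) := fun a c h1 h2 => by
      rw [show j * q' * a * (j * q')⁻¹ * c = j * (q' * a * q'⁻¹ * a⁻¹) * j⁻¹ * (j * a * j⁻¹ * c) by group]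
      exact mul_mem (conj_mem_of_mem_normalizer (centralizer_le_normalizer _
        (le_centralizer_iff.1 (zpowers_le.2 (le_cen1_iff.1 Jz)) jJ)) h1) h2
    have ra := md _ _ (qa _ q).1 ja
    have rb := md _ _ (qa _ q).2 jb
    generalize j * q' = r at r3 rJ ra rb
    have rK : r ∈ closure {r | r ∈ J ∧ r ^ 3 = 1} := subset_closure ⟨rJ, r3⟩
    have u : r * x 2 * r⁻¹ * (x 3 * x 2)⁻¹ * x 3 ∈ closure {r | r ∈ J ∧ r ^ 3 = 1} := by
      rw [show r * x 2 * r⁻¹ * (x 3 * x 2)⁻¹ * x 3 = r * (x 2 * r * (x 2)⁻¹)⁻¹ by group]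
      exact mul_mem rK (inv_mem (subset_closure ⟨mul_mem (mul_mem (QJ aQ) rJ) (inv_mem (QJ aQ)), by
        rw [conj_pow, r3, mul_one, mul_inv_cancel]⟩))
    have zK : zpowers (x 0) ≤ closure {r | r ∈ J ∧ r ^ 3 = 1} := zpowers_le.2 (by
      rcases Z2 _ ra with e | e <;> rw [e] at u
      · exact b2 ▸ mul_mem (one_mul (x 3) ▸ u) (one_mul (x 3) ▸ u)
      · exact zb ▸ mul_mem u u)
    have bK := (mul_mem_cancel_left (zK ra)).1 u
    refine cl_le.2 ?_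
    simp only [List.forall_mem_cons]
    exact ⟨inv_mem_iff.1 ((mul_mem_cancel_left (mul_mem (mul_mem rK bK) (inv_mem rK))).1 (zK rb)),
      bK, by simp⟩
  refine ⟨hi, NX, hn, JX, hJ.le, cz, cJ, fun w hw => mem_of_parts
    (fun i e => QK (two _ (pow_mem hw i) e)) fun i e => subset_closure ⟨pow_mem hw i, ?_⟩,
    fun r hr e => uQ M (two r hr (isPGroup_zpowers (k := 1) ((pow_two r).trans e))) (Or.inl e),
    fun W h1 h2 h3 => ?_, tM, out, AM⟩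
  · exact orderOf_dvd_iff_pow_eq_one.1 (((Nat.coprime_two_right.2 e).pow_right 3).dvd_of_dvd_mul_left
      (orderOf_dvd_of_pow_eq_one (p24 _ (pow_mem hw i))))
  · have e : W ⊓ cl [x 2, x 3] = ⊥ :=
      (disjoint_of_coprime_natCard (cQ M ▸ (Nat.coprime_two_right.2 h3).pow_right 3)).eq_bot
    have c : W ≤ cen (cl [x 2, x 3]) := commutator_eq_bot_iff_le_centralizer.1 (eq_bot_iff.2
      (e ▸ le_inf (commutator_le_left' (QJ.trans h2)) (commutator_le_right' (h1.trans JQ))))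
    exact eq_bot_iff.2 (e ▸ le_inf le_rfl fun w hw => ZQ (cZ w ⟨JX (h1 hw), c hw⟩ (h1 hw)))

end H54.L33
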