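import Cfsg.Agent.H86.SPIDef
import Cfsg.Agent.H54.SpAut
import Cfsg.Agent.H54.SpIso

/-! STD-SP (row S3129), chapter I, slot FC: automorphisms of `X = Sp_(n+1)(q)`, generation of `P`. -/

set_option autoImplicit false
set_option linter.unusedSectionVars false

namespace H54.SPI

open H67.UA hiding Par
open H67.SP H86.SPI
open H67.SA (la)

variable {n : ℕ} {F : Type} [Field F] [StarRing F] [TrivialStar F] [CharP F 2] [Finite F]

theorem hf_sr (a : F) (x y : Vn n F) : hf x (a • y) = a * hf x y := by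
  rw [hf_smul_right, star_trivial]

variable (n F) in
/-- `hf` as a bilinear form -/
def BB : LinearMap.BilinForm F (Vn n F) :=
  LinearMap.mk₂ F hf hf_add_left hf_smul_left hf_add_right hf_sr

theorem BB_apply (x y : Vn n F) : BB n F x y = hf x y := rfl

theorem BB_nd : (BB n F).Nondegenerate :=
  ⟨fun x h => eq_of_hf fun z => by rw [hf_zero_left]; exact h z,
    fun x h => eq_of_hf fun z => by rw [hf_zero_left, hf_comm]; exact h z⟩

theorem exists_hf {x : Vn n F} (hx : x ≠ 0) : ∃ f, hf x f = 1 := by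
  obtain ⟨i, hi⟩ := Function.ne_iff.1 hx
  exact ⟨(x i)⁻¹ • ev i.rev, by
    rw [hf_sr, hf_ev_right, Fin.rev_rev, inv_mul_cancel₀ (by simpa using hi)]⟩

theorem add_eq_iff {u v w : Vn n F} : u + v = w ↔ u = w + v :=
  ⟨fun h => by rw [← h, add_assoc, v_add_self, add_zero],
    fun h => by rw [h, add_assoc, v_add_self, add_zero]⟩

/-- `f`, `f'` are dual to `x`, `x'`. -/
structure Du (x x' f f' : Vn n F) : Prop where
  a : hf x f = 1
  b : hf x' f = 0
  c : hf x f' = 0
  d : hf x' f' = 1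

theorem Li.ne {x x' : Vn n F} (h : Li x x') : x ≠ 0 := fun e => by
  simpa using (h 1 0 (by simp [e])).1

theorem exists_du {x x' : Vn n F} (h : Li x x') : ∃ f f', Du x x' f f' := by
  obtain ⟨g, hg⟩ := exists_hf (Li.ne h)
  have h1 : hf x' g • x + x' ≠ 0 := fun e => by
    simpa using (h (hf x' g) 1 (by simpa using e)).2
  obtain ⟨g', hg'⟩ := exists_hf h1
  rw [hf_add_left, hf_smul_left] at hg'
  have c : hf x (g' + hf x g' • g) = 0 := by
    rw [hf_add_right, hf_sr, hg, mul_one, CharTwo.add_self_eq_zero]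
  have d : hf x' (g' + hf x g' • g) = 1 := by
    rw [hf_add_right, hf_sr]; linear_combination hg'
  refine ⟨g + hf x' g • (g' + hf x g' • g), _, ?_, ?_, c, d⟩
  · rw [hf_add_right, hf_sr, c, hg]; simp
  · rw [hf_add_right, hf_sr, d, mul_one, CharTwo.add_self_eq_zero]

theorem Du.dec {x x' f f' : Vn n F} (h : Du x x' f f') (v : Vn n F) :
    ∃ z, hf x z = 0 ∧ hf x' z = 0 ∧ v = z + hf x v • f + hf x' v • f' := by
  refine ⟨v + hf x' v • f' + hf x v • f, ?_, ?_, ?_⟩
  · simp [hf_add_right, hf_sr, h.a, h.c, CharTwo.add_self_eq_zero]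
  · simp [hf_add_right, hf_sr, h.b, h.d, CharTwo.add_self_eq_zero]
  · rw [add_assoc (v + hf x' v • f'), v_add_self, add_zero, add_assoc, v_add_self, add_zero]

theorem Du.ext {x x' f f' : Vn n F} (h : Du x x' f f') {g k : XU n F}
    (h0 : ∀ z, hf x z = 0 → hf x' z = 0 → ac g z = ac k z) (h1 : ac g f = ac k f)
    (h2 : ac g f' = ac k f') : g = k := ac_ext fun v => by
  obtain ⟨z, a, b, e⟩ := h.dec v
  rw [e]
  simp only [ac_add, ac_smul, h0 z a b, h1, h2]

theorem Du.span {x x' f f' w : Vn n F} (h : Du x x' f f')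
    (h0 : ∀ z, hf x z = 0 → hf x' z = 0 → hf w z = 0) : w = hf w f • x + hf w f' • x' :=
  eq_of_hf fun v => by
    obtain ⟨z, a, b, e⟩ := h.dec v
    rw [hf_add_left, hf_smul_left, hf_smul_left]
    conv_lhs => rw [e]
    rw [hf_add_right, hf_add_right, hf_sr, hf_sr, h0 z a b]
    ring

theorem dec1 {x f : Vn n F} (h : hf x f = 1) (v : Vn n F) : ∃ z, hf x z = 0 ∧ v = z + hf x v • f :=
  ⟨v + hf x v • f, by rw [hf_add_right, hf_sr, h, mul_one, CharTwo.add_self_eq_zero],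
    by rw [add_assoc, v_add_self, add_zero]⟩

/-- An element that fixes `z` moves every vector by a vector orthogonal to `z`. -/
theorem hf_move {g : XU n F} {z : Vn n F} (h : ac g z = z) (v : Vn n F) : hf (ac g v + v) z = 0 := by
  rw [hf_add_left]
  conv_lhs => lhs; rw [← h, hf_ac]
  exact CharTwo.add_self_eq_zero _

variable [p : Par n F]

theorem BB_alt : (BB n F).IsAlt := hf_self

theorem ac_T (c : F) (u y : Vn n F) : ac (Tc c u) y = y + (c * hf y u) • u :=
  ac_Tc (hf_self u) (star_trivial c) y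

theorem ac_TT (u y : Vn n F) : ac (TT u) y = y + hf y u • u := by rw [ac_T, one_mul]

theorem TT_conj (g : XU n F) (u : Vn n F) : g * TT u * g⁻¹ = TT (ac g u) :=
  Tc_conj (hf_self u) (star_one F) g

theorem Tc_eq (c : F) (u : Vn n F) : Tc c u = TT (rt c • u) := by
  rw [TT, Tc_smul, nm, star_trivial, ← pow_two, rt_sq, mul_one]

theorem TT_inj {u v : Vn n F} (h : TT u = TT v) : u = v := eq_of_hf fun y => sq_inj (by
  have h1 := ac_TT u y
  rw [h, ac_TT, add_right_inj] at h1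
  have := congrArg (fun w => hf w y) h1
  simp only [hf_smul_left, hf_comm y] at this
  linear_combination -this)

variable (n F) in
/-- `X` acts by isometries -/
noncomputable def lin : XU n F →* Isom (BB n F) where
  toFun g := isomOfLin BB_nd (Matrix.mulVecLin (mt g)) (hf_ac g)
  map_one' := Isom_ext fun v => ac_one v
  map_mul' g h := Isom_ext fun v => ac_mul g h v

theorem lin_smul (g : XU n F) (v : Vn n F) : lin n F g • v = ac g v := rfl

theorem lin_bij : Function.Bijective (lin n F) :=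
  ⟨fun g h e => ac_ext fun v => by rw [← lin_smul, e, lin_smul],
    MonoidHom.range_eq_top.1 (isom_eq_top_of_tvV_mem BB_nd BB_alt _ fun v c =>
      ⟨Tc c v, Isom_ext fun w => by rw [lin_smul, ac_T, tvV_smul]; rfl⟩)⟩

/-- Every linear isometry comes from `X`. -/
theorem exists_ac (k : Vn n F →ₗ[F] Vn n F) (hk : ∀ u v, hf (k u) (k v) = hf u v) :
    ∃ g : XU n F, ∀ v, ac g v = k v := by
  obtain ⟨g, hg⟩ := lin_bij.2 (isomOfLin BB_nd k hk)
  exact ⟨g, fun v => by rw [← lin_smul, hg]; rfl⟩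

/-- The bridge to the matrix group. -/
theorem exists_sp : ∃ (m : ℕ) (φ : Vn n F ≃ₗ[F] (Fin m ⊕ Fin m → F))
    (Θ : XU n F ≃* Matrix.symplecticGroup (Fin m) F), n + 1 = 2 * m ∧
    (∀ u v, spB (Fin m) F (φ u) (φ v) = hf u v) ∧ ∀ g v, Θ g • φ v = φ (ac g v) := by
  obtain ⟨m, φ, hm, hφ⟩ := exists_isometry_std (BB_nd (n := n) (F := F)) BB_alt
  exact ⟨m, φ, (MulEquiv.ofBijective _ lin_bij).trans (isomEquivSp φ hφ), by simpa using hm, hφ,
    fun g v => isomEquivSp_smul φ hφ _ v⟩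

/-- Every automorphism of `X` is induced by a semilinear isometry. -/
theorem aut (β : MulAut (XU n F)) : ∃ (σ : RingAut F) (f : Vn n F → Vn n F),
    Function.Bijective f ∧ (∀ u v, f (u + v) = f u + f v) ∧ (∀ c v, f (c • v) = σ c • f v) ∧
    (∀ u v, hf (f u) (f v) = σ (hf u v)) ∧ ∀ g v, ac (β g) (f v) = f (ac g v) := by
  obtain ⟨m, φ, Θ, hm, hφ, hΘ⟩ := exists_sp (n := n) (F := F)
  have h5 := p.five
  have : Fact (Nat.Prime 2) := ⟨Nat.prime_two⟩
  obtain ⟨g, σ, h⟩ : H57.quotCenterAut _ (MulAut.congr Θ β) ∈ pspGamma m F := by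
    rw [pspGamma_eq_top (by omega) (by omega)]; trivial
  have key : ∀ x, Θ (β x) = spDiagAut m F g (spFieldAut (Fin m) F σ (Θ x)) := fun x => by
    have h1 := congrArg (fun a : MulAut (Cfsg.PSp m F) => a (QuotientGroup.mk (Θ x))) h
    simp only [MulAut.mul_apply, pspField_mk, pspDiag_mk] at h1
    have h2 : (QuotientGroup.mk (Θ (β x)) : Cfsg.PSp m F) =
        QuotientGroup.mk (spDiagAut m F g (spFieldAut (Fin m) F σ (Θ x))) := by
      rw [← h1]; simp [MulAut.congr]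
    have h3 := eq_one_of_mem_center_of_pow (p := 2) (QuotientGroup.eq.1 h2) (Or.inr rfl)
    exact inv_mul_eq_one.1 h3
  obtain ⟨c, hc⟩ := gsp_exists_mult g
  have hr : (rt (c : F))⁻¹ ≠ 0 := inv_ne_zero (rt_ne c.ne_zero)
  refine ⟨σ, fun v => φ.symm ((rt (c : F))⁻¹ • g • (σ ∘ φ v)), ?_, fun u v => ?_, fun a v => ?_,
    fun u v => ?_, fun x v => φ.injective ?_⟩
  · refine Finite.injective_iff_bijective.1 fun u v e => φ.injective (funext fun i => σ.injective ?_)
    have e1 : (rt (c : F))⁻¹ • g • (σ ∘ φ u) = (rt (c : F))⁻¹ • g • (σ ∘ φ v) := φ.symm.injective e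
    have e2 : g • (σ ∘ φ u) = g • (σ ∘ φ v) := smul_right_injective _ hr e1
    exact congrFun (MulAction.injective g e2) i
  · have : σ ∘ φ (u + v) = σ ∘ φ u + σ ∘ φ v := by ext i; simp
    beta_reduce
    rw [this, smul_add, smul_add, map_add]
  · have : σ ∘ φ (a • v) = σ a • (σ ∘ φ v) := by ext i; simp
    beta_reduce
    rw [this, gsp_smul_smul, smul_comm, map_smul]
  · rw [← hφ, φ.apply_symm_apply, φ.apply_symm_apply, ← hφ, ← spB_map_ringAut]
    simp only [map_smul, LinearMap.smul_apply, smul_eq_mul, hc]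
    have h2 := rt_sq (c : F)
    have h3 := rt_ne c.ne_zero
    field_simp
    rw [h2]
  · rw [← hΘ, key, φ.apply_symm_apply, φ.apply_symm_apply, ← hΘ, ← spFieldAut_smul,
      ← spDiagAut_smul_smul, smul_comm]

theorem aut_TT (β : MulAut (XU n F)) : ∃ (σ : RingAut F) (f : Vn n F → Vn n F),
    Function.Bijective f ∧ (∀ u v, f (u + v) = f u + f v) ∧ (∀ c v, f (c • v) = σ c • f v) ∧
    (∀ u v, hf (f u) (f v) = σ (hf u v)) ∧ (∀ g v, ac (β g) (f v) = f (ac g v)) ∧
    ∀ v, β (TT v) = TT (f v) := by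
  obtain ⟨σ, f, h1, h2, h3, h4, h5⟩ := aut β
  refine ⟨σ, f, h1, h2, h3, h4, h5, fun v => ac_ext fun y => ?_⟩
  obtain ⟨w, rfl⟩ := h1.2 y
  rw [h5, ac_TT, ac_TT, h2, h3, h4]

theorem lr (β : MulAut (XU n F)) (g : XU n F) (h : Lr g) : Lr (β g) := by
  obtain ⟨v, hv, rfl⟩ := h
  obtain ⟨σ, f, h1, -, h3, -, -, h6⟩ := aut_TT β
  refine ⟨f v, fun e => hv (h1.1 ?_), h6 v⟩
  simpa [e] using (h3 0 0).symm

/-- An automorphism that centralises a long root subgroup is inner. -/
theorem inner (β : MulAut (XU n F)) {x : Vn n F} (hx : x ≠ 0)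
    (h : ∀ c : F, β (TT (c • x)) = TT (c • x)) : ∃ k, β = MulAut.conj k := by
  obtain ⟨σ, f, h1, h2, h3, h4, h5, h6⟩ := aut_TT β
  have e1 : ∀ c : F, f (c • x) = c • x := fun c => TT_inj ((h6 _).symm.trans (h c))
  have e2 : ∀ c, σ c = c := fun c => by
    have := e1 c
    rw [h3, ← one_smul F x, e1, one_smul] at this
    exact smul_left_injective F hx this
  simp only [e2] at h3 h4
  obtain ⟨k, hk⟩ := exists_ac ⟨⟨f, h2⟩, h3⟩ h4
  refine ⟨k, MulEquiv.ext fun g => ac_ext fun y => ?_⟩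
  obtain ⟨w, rfl⟩ := h1.2 y
  have hk' : ∀ v, ac k v = f v := hk
  rw [h5, MulAut.conj_apply, ac_mul, ac_mul, ← hk', ← hk', ac_inv_ac]

theorem fix_of_conj {k : XU n F} {z : Vn n F} (h : MulAut.conj k (TT z) = TT z) : ac k z = z :=
  TT_inj ((TT_conj k z).symm.trans h)

theorem TT_fix {x z : Vn n F} (h : hf x z = 0) : ac (TT z) x = x := by rw [ac_TT, h]; simp

theorem c1 (β : MulAut (XU n F)) (x : Vn n F) (hx : x ≠ 0) (h : ∀ p, ac p x = x → β p = p) :
    ∃ a : F, β = MulAut.conj (TT (a • x)) := by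
  obtain ⟨k, rfl⟩ := inner β hx fun c => h _ (TT_fix (by rw [hf_sr, hf_self, mul_zero]))
  have h0 : ∀ z, hf x z = 0 → ac k z = z := fun z hz => fix_of_conj (h _ (TT_fix hz))
  obtain ⟨f, hf1⟩ := exists_hf hx
  have h1 : ac k f + f = hf (ac k f + f) f • x := eq_of_hf fun v => by
    obtain ⟨z, a, e⟩ := dec1 hf1 v
    rw [hf_smul_left]
    conv_lhs => rw [e]
    rw [hf_add_right, hf_sr, hf_move (h0 z a)]
    ring
  generalize hf (ac k f + f) f = A at h1
  refine ⟨rt A, congrArg _ (ac_ext fun v => ?_)⟩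
  obtain ⟨z, a, e⟩ := dec1 hf1 v
  rw [e, ← Tc_eq]
  simp only [ac_add, ac_smul, h0 z a, add_eq_iff.1 h1, ac_T, hf_comm z, hf_comm f, a, hf1]
  simp [add_comm]

/-- The action of an element of `M₂`. -/
theorem ac_M {x x' : Vn n F} (h : hf x x' = 0) (a b c : F) (y : Vn n F) :
    ac (TT (a • x + b • x') * qq (c • x') x) y =
      y + (a ^ 2 * hf x y + (a * b + c) * hf x' y) • x + ((a * b + c) * hf x y + b ^ 2 * hf x' y) • x' := by
  rw [ac_mul, ac_qq (pp (by rw [hf_sr, h, mul_zero])), ac_TT]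
  simp only [hf_add_left, hf_add_right, hf_smul_left, hf_sr, hf_self, h, hf_comm x' x, hf_comm y]
  module

theorem c2 (β : MulAut (XU n F)) (x x' : Vn n F) (h0 : hf x x' = 0) (hl : Li x x')
    (h : ∀ p, ac p x = x → ac p x' = x' → β p = p) :
    ∃ a b c : F, β = MulAut.conj (TT (a • x + b • x') * qq (c • x') x) := by
  obtain ⟨k, rfl⟩ := inner β (Li.ne hl) fun c => h _ (TT_fix (by rw [hf_sr, hf_self, mul_zero]))
    (TT_fix (by rw [hf_sr, hf_comm, h0, mul_zero]))
  have h1 : ∀ z, hf x z = 0 → hf x' z = 0 → ac k z = z := fun z hz hz' =>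
    fix_of_conj (h _ (TT_fix hz) (TT_fix hz'))
  obtain ⟨f, f', d⟩ := exists_du hl
  have e1 := d.span (w := ac k f + f) fun z a b => hf_move (h1 z a b) f
  have e2 := d.span (w := ac k f' + f') fun z a b => hf_move (h1 z a b) f'
  generalize hf (ac k f + f) f = A, hf (ac k f + f) f' = B at e1
  generalize hf (ac k f' + f') f = C, hf (ac k f' + f') f' = D at e2
  rw [add_eq_iff] at e1 e2
  have e3 := hf_ac k f f'
  rw [e1, e2] at e3
  simp only [hf_add_left, hf_add_right, hf_smul_left, hf_sr, hf_self, h0, hf_comm x' x, hf_comm f x,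
    hf_comm f x', d.a, d.b, d.c, d.d] at e3
  have e4 : C = B := by linear_combination e3 - B * two0 F
  refine ⟨rt A, rt D, B + rt A * rt D, congrArg _ (d.ext (fun z a b => ?_) ?_ ?_)⟩
  · rw [h1 z a b, ac_M h0, a, b]; simp
  · rw [e1, ac_M h0, d.a, d.b, rt_sq, add_left_comm (rt A * rt D), CharTwo.add_self_eq_zero]
    module
  · rw [e2, ac_M h0, d.c, d.d, rt_sq, rt_sq, add_left_comm (rt A * rt D), CharTwo.add_self_eq_zero, e4]
    module

theorem uq (x x' : Vn n F) (h0 : hf x x' = 0) (hl : Li x x') (a b c a' b' c' : F)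
    (h : TT (a • x + b • x') * qq (c • x') x = TT (a' • x + b' • x') * qq (c' • x') x) :
    a = a' ∧ b = b' ∧ c = c' := by
  obtain ⟨f, f', d⟩ := exists_du hl
  have e : ∀ y z, hf (ac (TT (a • x + b • x') * qq (c • x') x) y) z =
      hf (ac (TT (a' • x + b' • x') * qq (c' • x') x) y) z := fun y z => by rw [h]
  have e1 := e f f
  have e2 := e f f'
  have e3 := e f' f'
  simp only [ac_M h0, hf_add_left, hf_smul_left, d.a, d.b, d.c, d.d] at e1 e2 e3
  have ha : a = a' := sq_inj (by linear_combination e1)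
  have hb : b = b' := sq_inj (by linear_combination e3)
  subst ha hb
  exact ⟨rfl, rfl, by linear_combination e2⟩

theorem ncr (x x' : Vn n F) (h0 : hf x x' = 0) (hl : Li x x') : ¬ Lr (TT x' * qq x' x) := by
  rintro ⟨v, -, h⟩
  obtain ⟨f, f', d⟩ := exists_du hl
  have e : ∀ y z, hf (ac (TT ((0 : F) • x + (1 : F) • x') * qq ((1 : F) • x') x) y) z =
      hf (ac (TT v) y) z := fun y z => by rw [← h]; simp
  have e1 := e f f
  have e2 := e f f'
  simp only [ac_M h0, ac_TT, hf_add_left, hf_smul_left, d.a, d.b, d.c, d.d, hf_comm f v] at e1 e2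
  have h1 : hf v f = 0 := pow_eq_zero_iff two_ne_zero |>.1 (by linear_combination -e1)
  rw [h1] at e2
  simp at e2

theorem du_ev : Du (ev 0 : Vn n F) (ev (la n)) (ev (la n)) (ev 0) :=
  ⟨by simp [hf_ev, la], hf_self _, hf_self _, by simp [hf_ev, la]⟩

/-- The stabiliser of a hyperbolic pair is generated by its transvections. -/
theorem gen2 {x f : Vn n F} (d : Du x f f x) {g : XU n F} (hx : ac g x = x) (hf' : ac g f = f) :
    g ∈ Subgroup.closure {g : XU n F | ∃ y, hf y x = 0 ∧ hf y f = 0 ∧ g = TT y} := by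
  set H := Subgroup.closure {g : XU n F | ∃ y, hf y x = 0 ∧ hf y f = 0 ∧ g = TT y}
  let W : Submodule F (Vn n F) := LinearMap.ker (BB n F x) ⊓ LinearMap.ker (BB n F f)
  have hW : ∀ {v}, v ∈ W ↔ hf x v = 0 ∧ hf f v = 0 := Iff.rfl
  have nd : ((BB n F).restrict W).Nondegenerate := by
    have : ∀ u : W, (∀ v : W, hf u.1 v.1 = 0) → u = 0 := fun u hu => Subtype.ext (by
      have := d.span (w := u.1) fun z a b => hu ⟨z, a, b⟩
      rw [this, hf_comm, (hW.1 u.2).2, hf_comm, (hW.1 u.2).1]; simp)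
    exact ⟨this, fun u hu => this u fun v => by rw [hf_comm]; exact hu v⟩
  have alt : ((BB n F).restrict W).IsAlt := fun w => hf_self w.1
  let K : Subgroup (Isom ((BB n F).restrict W)) :=
    { carrier := {k | ∃ h ∈ H, ∀ w : W, ac h w.1 = (k • w : W).1}
      one_mem' := ⟨1, H.one_mem, fun w => ac_one _⟩
      mul_mem' := by
        rintro a b ⟨h, hh, e⟩ ⟨h', hh', e'⟩
        exact ⟨h * h', H.mul_mem hh hh', fun w => by rw [ac_mul, e', e, mul_smul]⟩
      inv_mem' := by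
        rintro a ⟨h, hh, e⟩
        exact ⟨h⁻¹, H.inv_mem hh, fun w => ac_inj h (by rw [ac_ac_inv, e, smul_inv_smul])⟩ }
  have hK : K = ⊤ := isom_eq_top_of_tvV_mem nd alt K fun v c =>
    ⟨Tc c v.1, Subgroup.subset_closure ⟨rt c • v.1,
      by rw [hf_smul_left, hf_comm, (hW.1 v.2).1, mul_zero],
      by rw [hf_smul_left, hf_comm, (hW.1 v.2).2, mul_zero], Tc_eq c v.1⟩,
      fun w => by rw [ac_T, tvV_smul]; rfl⟩
  have hg : ∀ w ∈ W, Matrix.mulVecLin (mt g) w ∈ W := fun w hw =>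
    hW.2 ⟨by rw [← hx]; exact (hf_ac g x w).trans (hW.1 hw).1,
      by rw [← hf']; exact (hf_ac g f w).trans (hW.1 hw).2⟩
  obtain ⟨h, hh, e⟩ : isomOfLin nd ((Matrix.mulVecLin (mt g)).restrict hg)
      (fun u v => hf_ac g u.1 v.1) ∈ K := hK ▸ trivial
  have hle : H ≤ Stab x ⊓ Stab f := (Subgroup.closure_le _).2 (by
    rintro _ ⟨y, a, b, rfl⟩
    exact ⟨TT_fix (hf_symm a), TT_fix (hf_symm b)⟩)
  have : h = g := d.ext (fun z a b => e ⟨z, a, b⟩) ((hle hh).2.trans hf'.symm)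
    ((hle hh).1.trans hx.symm)
  exact this ▸ hh

theorem gen : PP n F ≤ QQ n F ⊔ Subgroup.closure
    {g | ∃ y, hf y (ev 0) = 0 ∧ hf y (ev (la n)) = 0 ∧ g = TT y} := fun g hg => by
  have d := du_ev (n := n) (F := F)
  have hg : ac g (ev 0) = ev 0 := hg
  have h1 : hf (ac g (ev (la n)) + ev (la n)) (ev 0) = 0 := hf_move hg _
  set x := ac g (ev (la n)) + ev (la n) with hx
  have h2 : EE (ev 0) x (hf (ev (la n)) x) ∈ QQ n F := Subgroup.subset_closure ⟨x, _, h1, rfl⟩
  have h3 : ac (EE (ev 0) x (hf (ev (la n)) x)) (ev (la n)) = ac g (ev (la n)) := by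
    rw [ac_EE (ok h1 _), d.d, mul_one, one_smul, add_right_comm _ x, add_assoc (ev (la n)),
      v_add_self, add_zero, hx, add_left_comm, v_add_self, add_zero]
  rw [← mul_inv_cancel_left (EE (ev 0) x (hf (ev (la n)) x)) g]
  refine Subgroup.mul_mem_sup h2 (gen2 d (ac_inj (EE (ev 0) x (hf (ev (la n)) x)) ?_)
    (ac_inj (EE (ev 0) x (hf (ev (la n)) x)) ?_))
  · rw [ac_mul, ac_ac_inv, hg, ac_EE_self (ok h1 _)]
  · rw [ac_mul, ac_ac_inv, h3]

omit p in
theorem jobFC : JobFC := fun _ _ _ _ _ _ _ _ => ⟨c1, c2, lr, ncr, gen, uq⟩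

end H54.SPI
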