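/- Tower T3 (S3253), job P4: the path `3 - 1 - 2 - 4`. -/
import Cfsg.Agent.H48.T3Lem
import Cfsg.Agent.S1169

set_option autoImplicit false
set_option linter.unusedSectionVars false

namespace H54.T3
open Subgroup Cfsg H98 H96.CG H48.T3
open scoped commutatorElement

universe u

variable {G : Type u} [Group G] [Finite G]

theorem surj_comm {A Z : Subgroup G} {b : G} (hc : Nat.card A = Nat.card Z)
    (hm : ∀ a ∈ A, a * b * a⁻¹ * b⁻¹ ∈ Z) (hi : ∀ a ∈ A, a * b = b * a → a = 1) :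
    ∀ z ∈ Z, ∃ a ∈ A, a * b * a⁻¹ = z * b := by
  let f : A → Z := fun a => ⟨a * b * (a : G)⁻¹ * b⁻¹, hm a a.2⟩
  have hf : Function.Injective f := by
    rintro ⟨a, ha⟩ ⟨a', ha'⟩ e
    have e' : a * b * a⁻¹ = a' * b * a'⁻¹ := mul_right_cancel (congrArg Subtype.val e)
    have := hi _ (mul_mem (inv_mem ha') ha) (by
      calc a'⁻¹ * a * b = a'⁻¹ * (a * b * a⁻¹) * a := by group
        _ = _ := by rw [e']; group)
    exact Subtype.ext (inv_mul_eq_one.1 this).symm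
  intro z hz
  obtain ⟨a, ha⟩ := ((Nat.bijective_iff_injective_and_card f).2 ⟨hf, hc⟩).2 ⟨z, hz⟩
  exact ⟨a, a.2, mul_inv_eq_iff_eq_mul.1 (congrArg Subtype.val ha)⟩

/-- the data of the path -/
structure Pa (x y e : G) : Prop extends Full x y e where
  bs : Bs G
  n14 : ¬ Cm (V x) (V (x * y⁻¹))
  n34 : ¬ Cm (V (x * y)) (V (x * y⁻¹))

namespace Pa
variable {x y e : G} (h : Pa x y e)
include h

theorem pu : Pu x y (e * e) := h.toCf.toPu
theorem hy : Hy G := h.bs.toHy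

theorem n23 : ¬ Cm (V y) (V (x * y)) := fun c => h.n14 (by
  have := c.cj e
  rwa [h.toCf.e2, h.toCf.e3] at this)

theorem v2 : V y ≠ ⊥ := fun c => h.v1 (by rw [← h.toCf.e2, c, cj_bot])

theorem q1 : V x ≤ N x := h.bs.VN x h.ox
theorem q2 : V y ≤ N x := h.bs.Ntwo x h.ox h.v1 _ h.c12.symm.le_cen (h.hy.isP h.oy)
theorem q3 : V (x * y) ≤ N x := h.bs.Ntwo x h.ox h.v1 _ h.c13.symm.le_cen (h.hy.isP h.pu.omul)
theorem cq : Cm (N x) (V x) := cm_of_le_cen (h.bs.Nc x)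

theorem gen {s : G} (hs : s ∈ Pl x y) {K : Subgroup G}
    (k : ∀ r ∈ Pl x y, r ≠ 1 → Cm (V r) (V s) → V r ≤ K) : N s ≤ K :=
  (h.bs.gen x y _ h.pu (N s) (fun d => by
    obtain ⟨n, hn⟩ := IsPGroup.iff_card.1 (h.bs.Np s)
    rw [hn] at d
    exact absurd (Nat.prime_three.dvd_of_dvd_pow d) (by norm_num))
    (h.pu.le_nor_N hs (left_mem_Pl _ _)) (h.pu.le_nor_N hs (right_mem_Pl _ _))).2 K
    fun r hr r1 l => k r hr r1 (cm_of_le_cen (l.trans (h.bs.Nc s)))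

theorem cm3 : Cm (N (x * y)) (N (x * y)) := by
  have h1 : N (x * y) ≤ V x ⊔ V (x * y) :=
    h.gen (mul_mem (left_mem_Pl _ _) (right_mem_Pl _ _)) fun r hr r1 c => by
      rcases h.pu.V_cases hr r1 with k | k | k | k <;> rw [k] at c ⊢
      exacts [le_sup_left, absurd c h.n23, le_sup_right, absurd c.symm h.n34]
  have h2 : V x ⊔ V (x * y) ≤ cen (V x ⊔ V (x * y)) := sup_le
    (cm_of_le_cen (sup_le (h.hy.cm h.ox).le_cen h.c13.symm.le_cen)).symm.le_cen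
    (cm_of_le_cen (sup_le h.c13.le_cen (h.hy.cm h.pu.omul).le_cen)).symm.le_cen
  exact fun a ha b hb => cm_of_le_cen h2 a (h1 ha) b (h1 hb)

theorem comm_mem {a b : G} (ha : a ∈ V (x * y)) (hb : b ∈ V y) : a * b * a⁻¹ * b⁻¹ ∈ V x := by
  have px := left_mem_Pl x y
  have py := right_mem_Pl x y
  obtain ⟨s, hs, s1, s2, s3, s4, s5⟩ := h.bs.cenq x y _ h.pu (N x) (V x) (h.bs.Np x)
    (h.pu.le_nor_N px px) (h.pu.le_nor_N px py) (h.pu.le_nor_V px px) (h.pu.le_nor_V px py) h.q1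
    (le_normalizer_of_le_centralizer (h.bs.Nc x)) (fun k => h.v2 (by
      rw [← h.hy.inf_bot h.pu]; exact (inf_eq_right.2 (k ▸ h.q2)).symm))
  rcases h.pu.V_cases hs s1 with k | k | k | k <;> rw [k] at s2 s3 s4 s5
  · exact absurd (by simpa using s4) s2
  · have := (V x).inv_mem (s5 (commutator_mem_commutator hb (h.q3 ha)))
    rwa [commutatorElement_inv] at this
  · exact s5 (commutator_mem_commutator ha (h.q2 hb))
  · exact absurd (cm_of_le_cen (s3.trans (h.bs.Nc x))).symm h.n14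

theorem ncomm {a b : G} (ha : a ∈ V (x * y)) (hb : b ∈ V y) (c : a * b = b * a) :
    a = 1 ∨ b = 1 := by
  by_contra hn
  obtain ⟨a1, b1⟩ := not_or.1 hn
  refine h.n23 fun b' hb' a' ha' => ?_
  by_cases b2 : b' = 1
  · rw [b2, one_mul, mul_one]
  by_cases a2 : a' = 1
  · rw [a2, one_mul, mul_one]
  obtain ⟨p, ⟨i, rfl⟩, rfl⟩ := h.hy.trans h.pu.p23.1 hb b1 hb' b2
  obtain ⟨q, ⟨j, rfl⟩, rfl⟩ := h.hy.trans h.pu.p23.1.symm ha a1 ha' a2
  have c1 : Commute (((x * y) ^ i) * b * ((x * y) ^ i)⁻¹) a := by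
    have : Commute ((x * y) ^ i) a := (show Commute (x * y) a from (h.hy.cs h.pu.omul ha).symm).zpow_left i
    exact (this.mul_left c.symm).mul_left this.inv_left
  have c2 : Commute (((x * y) ^ i) * b * ((x * y) ^ i)⁻¹) (y ^ j) :=
    (show Commute _ y from h.hy.cs h.oy hb').zpow_right j
  exact (c2.mul_right c1).mul_right c2.inv_right

theorem card1 : Nat.card (V x) = 4 := h.hy.card4 h.ox h.v1

theorem cjB {z b : G} (hz : z ∈ V x) (hb : b ∈ V y) (b1 : b ≠ 1) : IsConj b (z * b) := by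
  obtain ⟨a, -, k⟩ := surj_comm (A := V (x * y)) ((h.hy.card4 h.pu.omul h.v3).trans h.card1.symm)
    (fun a ha => h.comm_mem ha hb) (fun a ha c => (h.ncomm ha hb c).resolve_right b1) z hz
  exact isConj_iff.2 ⟨a, k⟩

theorem cjA {z a : G} (hz : z ∈ V x) (ha : a ∈ V (x * y)) (a1 : a ≠ 1) : IsConj a (z * a) := by
  obtain ⟨b, -, k⟩ := surj_comm (A := V y) ((h.hy.card4 h.oy h.v2).trans h.card1.symm)
    (fun b hb => by
      have := (V x).inv_mem (h.comm_mem ha hb)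
      rwa [show (a * b * a⁻¹ * b⁻¹)⁻¹ = b * a * b⁻¹ * a⁻¹ by group] at this)
    (fun b hb c => (h.ncomm ha hb c.symm).resolve_left a1) z hz
  exact isConj_iff.2 ⟨b, k⟩

theorem memW {w : G} : w ∈ V x ⊔ V y ↔ ∃ z ∈ V x, ∃ b ∈ V y, w = z * b :=
  mem_sup_left_norm (le_normalizer_of_le_centralizer h.c12.le_cen)

theorem cjW {w : G} (hw : w ∈ V x ⊔ V y) (w1 : w ≠ 1) : ∃ z ∈ V x, IsConj z w := by
  obtain ⟨z, hz, b, hb, rfl⟩ := h.memW.1 hw
  by_cases b1 : b = 1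
  · exact ⟨z, hz, by rw [b1, mul_one]⟩
  · refine ⟨e * b * e⁻¹, h.toCf.e2 ▸ conj_mem_cj hb, IsConj.trans ?_ (h.cjB hz hb b1)⟩
    exact (isConj_iff.2 ⟨e, rfl⟩).symm

theorem memQ {q : G} (hq : q ∈ N x) : ∃ z ∈ V x, ∃ b ∈ V y, ∃ a ∈ V (x * y), q = z * b * a := by
  have h1 : V (x * y) ≤ nor (V x ⊔ V y) := fun a ha => mem_normalizer_of_cj_le (by
    rw [cj_sup]
    refine sup_le ((cj_eq_self_of_comm ha).trans le_sup_left) ?_
    rintro _ ⟨b, hb, rfl⟩
    exact h.memW.2 ⟨_, h.comm_mem ha hb, b, hb, by simp⟩)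
  have h2 : N x ≤ V x ⊔ V y ⊔ V (x * y) := h.gen (left_mem_Pl _ _) fun r hr r1 c => by
    rcases h.pu.V_cases hr r1 with k | k | k | k <;> rw [k] at c ⊢
    exacts [le_sup_left.trans le_sup_left, le_sup_right.trans le_sup_left, le_sup_right,
      absurd c.symm h.n14]
  obtain ⟨w, hw, a, ha, rfl⟩ := (mem_sup_right_norm h1).1 (h2 hq)
  obtain ⟨z, hz, b, hb, rfl⟩ := h.memW.1 hw
  exact ⟨z, hz, b, hb, a, ha, rfl⟩
where
  cj_eq_self_of_comm {a : G} (ha : a ∈ V (x * y)) : cj a (V x) ≤ V x :=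
    (cj_eq_self (le_normalizer_of_le_centralizer h.c13.symm.le_cen ha)).le

theorem invQ {q : G} (hq : q ∈ N x) (q2 : q * q = 1) :
    q ∈ V x ⊔ V y ∨ ∃ z ∈ V x, ∃ a ∈ V (x * y), a ≠ 1 ∧ q = z * a := by
  obtain ⟨z, hz, b, hb, a, ha, rfl⟩ := h.memQ hq
  have c : a * b = b * a := by
    have k : z * b * a * (z * b * a) = z * z * (b * a * (b * a)) := by
      rw [show z * b * a * (z * b * a) = z * (b * a * z) * (b * a) by group,
        h.cq _ (mul_mem (h.q2 hb) (h.q3 ha)) z hz]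
      group
    rw [k, h.hy.sq h.ox hz, one_mul] at q2
    rw [eq_inv_of_mul_eq_one_left q2, mul_inv_rev, h.hy.inv h.oy hb, h.hy.inv h.pu.omul ha]
  by_cases a1 : a = 1
  · exact Or.inl (h.memW.2 ⟨z, hz, b, hb, by rw [a1, mul_one]⟩)
  · exact Or.inr ⟨z, hz, a, ha, a1, by rw [(h.ncomm ha hb c).resolve_left a1, mul_one]⟩

theorem nc {z a : G} (hz : z ∈ V x) (ha : a ∈ V (x * y)) (a1 : a ≠ 1) : ¬ IsConj z a := by
  intro c
  obtain ⟨g, rfl⟩ := isConj_iff.1 c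
  have h1 : g * z * g⁻¹ ∈ V (g * x * g⁻¹) := V_cj g x ▸ conj_mem_cj hz
  obtain ⟨c, -, k⟩ := h.bs.fus _ _ _ ((ord_cj g x).trans h.ox) h.pu.omul h1 ha a1
  have h2 : cj c (cj g (N x)) = N (x * y) := by
    rw [N_cj, N_cj]
    rcases k with k | k <;> rw [k]
    exact N_inv _
  have h3 := (h.cm3.cj c⁻¹).cj g⁻¹
  rw [← h2, cj_inv_cj, cj_inv_cj] at h3
  exact h.n23 fun b hb a ha => h3 b (h.q2 hb) a (h.q3 ha)

theorem uQ : e * e ∈ nor (N x) := h.pu.u_nor_N (left_mem_Pl _ _)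

theorem memT {t : G} (ht : t ∈ N x ⊔ zpowers (e * e)) : t ∈ N x ∨ ∃ n ∈ N x, t = n * (e * e) := by
  obtain ⟨n, hn, _, ⟨k, rfl⟩, rfl⟩ := (mem_sup_right_norm (zpowers_le.2 h.uQ)).1 ht
  rcases Int.even_or_odd' k with ⟨j, rfl | rfl⟩
  · left
    simp only [zpow_mul, zpow_two, h.uu, one_zpow, mul_one]
    exact hn
  · right
    simp only [zpow_add, zpow_mul, zpow_two, h.uu, one_zpow, one_mul, zpow_one]
    exact ⟨n, hn, rfl⟩

theorem pT : IsPGroup 2 (N x ⊔ zpowers (e * e) : Subgroup G) :=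
  (h.bs.Np x).to_sup_of_normal_left' (isPGroup_zpowers (k := 1) (by rw [pow_one, pow_two, h.uu]))
    (zpowers_le.2 h.uQ)

theorem cjU {n : G} (hn : n ∈ N x) (n2 : n * (e * e) * (n * (e * e)) = 1) :
    IsConj (e * e) (n * (e * e)) := by
  generalize hu : e * e = u at n2
  have pu : Pu x y u := hu ▸ h.pu
  have uQ : u ∈ nor (N x) := hu ▸ h.uQ
  have p4 := pu.p14.1
  set s := x * y⁻¹ with hs
  have ps : s ∈ Pl x y := mul_mem (left_mem_Pl _ _) (inv_mem (right_mem_Pl _ _))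
  have sQ : s ∈ nor (N x) := pu.le_nor_N (left_mem_Pl _ _) ps
  have fp : ∀ a ∈ N x, a * s = s * a → a = 1 := fun a ha c => h.hy.fpf_of p4.oy (h.bs.Np x)
    ((h.hy.le_or p4.symm (pu.le_nor_N (left_mem_Pl _ _) (left_mem_Pl _ _))).resolve_right
      fun l => h.n14 (cm_of_le_cen (l.trans (h.bs.Nc x))).symm) ha c
  have us : u * s * u⁻¹ = s⁻¹ := p4.uy
  have ti : (n * u)⁻¹ = n * u := inv_eq_of_mul_eq_one_right n2
  obtain ⟨q, hq, k⟩ := surj_comm (A := N x) (b := s) rfl (fun a ha => by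
    rw [mul_assoc, mul_assoc, ← mul_assoc s]
    exact mul_mem ha (conj_mem_of_mem_normalizer sQ (inv_mem ha))) fp
    (n * (s⁻¹ * (u * n * u⁻¹) * s)) (mul_mem hn
      (conj_mem_of_mem_normalizer' sQ (conj_mem_of_mem_normalizer uQ hn)))
  have k1 : q * s * q⁻¹ = n * u * (s * (n * u) * s⁻¹) := by
    rw [k]
    calc _ = n * s⁻¹ * (u * n * u⁻¹) * (s * s) := by simp only [mul_assoc]
      _ = n * (u * s * u⁻¹) * (u * n * u⁻¹) * s⁻¹ := by rw [cube_of p4.oy, us]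
      _ = n * u * (s * (n * u⁻¹) * s⁻¹) := by group
      _ = _ := by rw [pu.uinv]
  have k2 : n * u * (q * s * q⁻¹) * (n * u)⁻¹ = (q * s * q⁻¹)⁻¹ := by
    rw [k1]
    calc _ = n * u * (n * u) * (s * (n * u) * s⁻¹) * (n * u)⁻¹ := by group
      _ = s * (n * u)⁻¹ * s⁻¹ * (n * u)⁻¹ := by rw [n2, ti, one_mul]
      _ = _ := by group
  have k3 := fp (q⁻¹ * n * (u * q * u⁻¹))
    (mul_mem (mul_mem (inv_mem hq) hn) (conj_mem_of_mem_normalizer uQ hq)) (by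
      have us' : u⁻¹ * s * u = s⁻¹ := by rw [← us, pu.uinv]
      calc _ = q⁻¹ * (n * u * (q * s * q⁻¹) * (n * u)⁻¹)⁻¹ * (n * u * q * u⁻¹) * 1 := by
            rw [show q⁻¹ * n * (u * q * u⁻¹) * s = q⁻¹ * n * u * q * (u⁻¹ * s * u) * u⁻¹ by group,
              us']
            group
        _ = _ := by rw [k2]; group)
  refine isConj_iff.2 ⟨q, ?_⟩
  calc q * u * q⁻¹ = q * (q⁻¹ * n * (u * q * u⁻¹)) * u * q⁻¹ := by rw [k3, mul_one]
    _ = _ := by group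

/-- `u` moves a coset -/
theorem umove {A B : Subgroup G} (hA : A = V y ∨ A = V (x * y)) (hB : B ≤ N x) (h1 : V x ≤ B)
    (h2 : e * e ∈ nor B) (h3 : ¬ A ≤ B) (h4 : x ∈ nor B) :
    ∃ a ∈ A, ∀ n ∈ N x, ∀ w ∈ B, n * (e * e) * (a * w) ≠ a * w * (n * (e * e)) := by
  obtain ⟨s, ps, rfl⟩ : ∃ s, Pu s x (e * e) ∧ A = V s := by
    rcases hA with rfl | rfl
    exacts [⟨y, h.pu.symm, rfl⟩, ⟨x * y, h.pu.p13.1.symm, rfl⟩]
  have hAQ : V s ≤ N x := by rcases hA with k | k <;> rw [k]; exacts [h.q2, h.q3]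
  have i := (h.hy.le_or ps h4).resolve_right h3
  have v : V s ≠ ⊥ := fun k => h3 (k ▸ bot_le)
  obtain ⟨t, ht, t1, -, tu⟩ := h.hy.u_fix ps v
  have o := h.hy.orbit ps ht t1
  have xn : x ∈ nor (V s) := ps.le_nor_V (left_mem_Pl _ _) (right_mem_Pl _ _)
  have ha := conj_mem_of_mem_normalizer xn ht
  have ua := conj_mem_of_mem_normalizer (ps.u_nor_V (left_mem_Pl _ _)) ha
  refine ⟨_, ha, fun n hn w hw c => ?_⟩
  generalize x * t * x⁻¹ = a at ha ua o c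
  generalize e * e = u at *
  have cV : ∀ p ∈ N x, ∀ q ∈ N x, p * q * p⁻¹ * q⁻¹ ∈ V x := fun p hp q hq => by
    obtain ⟨z, hz, b, hb, a, ha, rfl⟩ := h.memQ hp
    obtain ⟨z', hz', b', hb', a', ha', rfl⟩ := h.memQ hq
    have c1 := h.comm_mem ha hb'
    have c2 := h.comm_mem ha' hb
    have k1 : a * b' = (a * b' * a⁻¹ * b'⁻¹) * b' * a := by group
    have k2 : a' * b = (a' * b * a'⁻¹ * b⁻¹) * b * a' := by group
    generalize a * b' * a⁻¹ * b'⁻¹ = c at c1 k1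
    generalize a' * b * a'⁻¹ * b⁻¹ = c' at c2 k2
    have e1 : z * b * a * (z' * b' * a') = z * z' * c * (b * b' * (a * a')) := by
      calc _ = z * (b * a * z') * b' * a' := by group
        _ = z * z' * b * (a * b') * a' := by
          rw [h.cq _ (mul_mem (h.q2 hb) (h.q3 ha)) z' hz']; group
        _ = z * z' * (b * c) * b' * a * a' := by rw [k1]; group
        _ = _ := by rw [h.cq _ (h.q2 hb) c c1]; group
    have e2 : z' * b' * a' * (z * b * a) = z' * z * c' * (b * b' * (a * a')) := by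
      calc _ = z' * (b' * a' * z) * b * a := by group
        _ = z' * z * b' * (a' * b) * a := by
          rw [h.cq _ (mul_mem (h.q2 hb') (h.q3 ha')) z hz]; group
        _ = z' * z * (b' * c') * b * a' * a := by rw [k2]; group
        _ = z' * z * c' * (b' * b * (a' * a)) := by rw [h.cq _ (h.q2 hb') c' c2]; group
        _ = _ := by rw [h.hy.cm h.oy b' hb' b hb, h.hy.cm h.pu.omul a' ha' a ha]
    rw [mul_assoc, ← mul_inv_rev, e1, e2,
      show z * z' * c * (b * b' * (a * a')) * (z' * z * c' * (b * b' * (a * a')))⁻¹ =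
        z * z' * c * (z' * z * c')⁻¹ by group]
    exact mul_mem (mul_mem (mul_mem hz hz') c1) (inv_mem (mul_mem (mul_mem hz' hz) c2))
  have m1 : a⁻¹ * (u * a * u⁻¹) ∈ V s ⊓ B := by
    refine ⟨Subgroup.mul_mem _ (Subgroup.inv_mem _ ha) ua, ?_⟩
    have k := h1 (cV _ (inv_mem (mul_mem (hAQ ha) (hB hw))) _ (inv_mem hn))
    have k2 : a⁻¹ * (u * a * u⁻¹) =
        w * ((a * w)⁻¹ * n⁻¹ * (a * w)⁻¹⁻¹ * n⁻¹⁻¹) * (u * w * u⁻¹)⁻¹ := by
      calc _ = a⁻¹ * n⁻¹ * (n * u * (a * w)) * w⁻¹ * u⁻¹ := by group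
        _ = _ := by rw [c]; group
    rw [k2]
    exact Subgroup.mul_mem _ (Subgroup.mul_mem _ hw k)
      (Subgroup.inv_mem _ (conj_mem_of_mem_normalizer h2 hw))
  rw [i, mem_bot, inv_mul_eq_one, eq_comm, mul_inv_eq_iff_eq_mul] at m1
  rcases tu a ha m1 with k | k
  · exact t1 (by
      have := o.2.2.2.1
      rw [k, mul_one] at this
      exact absurd this.symm o.2.1)
  · exact o.1 k

theorem charV {v : G} (hv : v ∈ N x ⊔ zpowers (e * e))
    (k : ∀ t ∈ N x, ∀ t' ∈ N x, v * t = t * v ∨ v * t' = t' * v ∨ v * (t * t') = t * t' * v) :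
    v ∈ V x := by
  have px := left_mem_Pl x y
  have py := right_mem_Pl x y
  have pxy := mul_mem px py
  rcases h.memT hv with hv | ⟨n, hn, rfl⟩
  · obtain ⟨z, hz, b, hb, a, ha, rfl⟩ := h.memQ hv
    have key : ∀ {s r u : G}, Pu s r u → V s ≠ ⊥ → V s ≤ N x →
        ∃ t ∈ V s, t ≠ 1 ∧ z * b * a * t = t * (z * b * a) := fun {s r u} ps v l => by
      obtain ⟨⟨t, ht⟩, t1⟩ := ne_bot_iff_exists_ne_one.1 v
      have t1' : t ≠ 1 := fun k => t1 (Subtype.ext k)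
      have rn : r ∈ nor (V s) := ps.le_nor_V (left_mem_Pl _ _) (right_mem_Pl _ _)
      have m1 := conj_mem_of_mem_normalizer rn ht
      rcases k t (l ht) _ (l m1) with c | c | c
      · exact ⟨t, ht, t1', c⟩
      · exact ⟨_, m1, fun k => t1' (by simpa using k), c⟩
      · refine ⟨_, mul_mem ht m1, fun k => (h.hy.orbit ps ht t1').1 ?_, c⟩
        rw [eq_inv_of_mul_eq_one_right k, h.hy.inv ps.ox ht]
    obtain ⟨t, ht, t1, c⟩ := key h.pu.symm h.v2 h.q2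
    obtain ⟨t', ht', t1', c'⟩ := key h.pu.p23.1.symm h.v3 h.q3
    have a1 : a = 1 := (h.ncomm ha ht (by
      rw [← mul_assoc, ← mul_assoc, ← h.c12 z hz t ht, mul_assoc z t, ← h.hy.cm h.oy b hb t ht,
        ← mul_assoc, mul_assoc, mul_assoc (z * b)] at c
      exact mul_left_cancel c)).resolve_right t1
    rw [a1, mul_one, ← mul_assoc, ← h.c13 z hz t' ht', mul_assoc, mul_assoc] at c'
    rw [a1, (h.ncomm ht' hb (mul_left_cancel c').symm).resolve_left t1', mul_one, mul_one]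
    exact hz
  · exfalso
    obtain ⟨a, ha, k1⟩ := h.umove (B := V x ⊔ V y) (Or.inr rfl) (sup_le h.q1 h.q2) le_sup_left
      (normalizer_inf_normalizer_le_normalizer_sup _ _ ⟨h.pu.u_nor_V px, h.pu.u_nor_V py⟩)
      (fun l => h.n23 (cm_of_le_cen (l.trans (sup_le h.c12.le_cen (h.hy.cm h.oy).le_cen))).symm)
      (normalizer_inf_normalizer_le_normalizer_sup _ _ ⟨h.pu.le_nor_V px px, h.pu.le_nor_V py px⟩)
    obtain ⟨b, hb, k2⟩ := h.umove (B := V x ⊔ V (x * y)) (Or.inl rfl) (sup_le h.q1 h.q3) le_sup_left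
      (normalizer_inf_normalizer_le_normalizer_sup _ _ ⟨h.pu.u_nor_V px, h.pu.u_nor_V pxy⟩)
      (fun l => h.n23 (cm_of_le_cen (l.trans (sup_le h.c13.le_cen (h.hy.cm h.pu.omul).le_cen))))
      (normalizer_inf_normalizer_le_normalizer_sup _ _ ⟨h.pu.le_nor_V px px, h.pu.le_nor_V pxy px⟩)
    rcases k a (h.q3 ha) b (h.q2 hb) with c | c | c
    · exact k1 n hn 1 (one_mem _) (by rwa [mul_one])
    · exact k2 n hn 1 (one_mem _) (by rwa [mul_one])
    · exact k1 n hn b (mem_sup_right hb) c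

theorem sylT : IsSyl 2 (N x ⊔ zpowers (e * e)) ⊤ := by
  refine isSyl_of_isSyl_normalizer ⟨le_inf le_top le_normalizer, h.pT, fun S hS l1 l2 =>
    le_antisymm (fun g hg => ?_) l1⟩
  have gn := (l2 hg).2
  have uT : e * e ∈ N x ⊔ zpowers (e * e) := mem_sup_right (mem_zpowers _)
  have g1 : g ∈ nor (V x) := mem_normalizer_of_cj_le (by
    rintro _ ⟨v, hv, rfl⟩
    have k : ∀ t : G, g⁻¹ * t * g ∈ N x → g * v * g⁻¹ * t = t * (g * v * g⁻¹) := fun t ht => by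
      calc _ = g * (v * (g⁻¹ * t * g)) * g⁻¹ := by group
        _ = _ := by rw [← h.cq _ ht v hv]; group
    refine h.charV (conj_mem_of_mem_normalizer gn (mem_sup_left (h.q1 hv))) fun t ht t' ht' => ?_
    rcases h.memT (conj_mem_of_mem_normalizer' gn (mem_sup_left ht)) with c | ⟨n, hn, c⟩
    · exact Or.inl (k t c)
    rcases h.memT (conj_mem_of_mem_normalizer' gn (mem_sup_left ht')) with c' | ⟨n', hn', c'⟩
    · exact Or.inr (Or.inl (k t' c'))
    refine Or.inr (Or.inr (k _ ?_))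
    rw [show g⁻¹ * (t * t') * g = g⁻¹ * t * g * (g⁻¹ * t' * g) by group, c, c',
      show n * (e * e) * (n' * (e * e)) = n * (e * e * n' * (e * e)⁻¹) by
        rw [h.pu.uinv]; simp only [mul_assoc]]
    exact mul_mem hn (conj_mem_of_mem_normalizer h.uQ hn'))
  obtain ⟨n, hn, p, hp, k⟩ := h.bs.Nnor x y _ h.pu h.v1 g g1
  have p1 : p ∈ S → p = 1 := fun m => by
    obtain ⟨j, hj⟩ := isPGroup_iff_forall.1 hS p m
    exact pow_eq_one_iff_of_coprime (Nat.Coprime.pow_left j (by norm_num : Nat.Coprime 2 3)) |>.1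
      ⟨hj, h.pu.pow3 hp⟩
  have nS := l1 (mem_sup_left hn)
  rcases k with rfl | rfl
  · rw [p1 ((mul_mem_cancel_left nS).1 hg), mul_one]
    exact mem_sup_left hn
  · rw [p1 ((mul_mem_cancel_left nS).1 ((mul_mem_cancel_right (l1 uT)).1 hg)), mul_one]
    exact mul_mem (mem_sup_left hn) uT

theorem nu {z : G} (hz : z ∈ V x) : ¬ IsConj z (e * e) := by
  intro c
  have z1 : z ≠ 1 := fun k => h.pu.u_ne (isConj_one_right.1 (k ▸ c))
  obtain ⟨t, ht, t1, tu, -⟩ := h.hy.u_fix h.pu h.v1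
  obtain ⟨a, ha, a1, au, -⟩ := h.hy.u_fix h.pu.p13.1.symm h.v3
  obtain ⟨p, -, hp⟩ := h.hy.trans h.pu hz z1 ht t1
  obtain ⟨g, hg⟩ := isConj_iff.1 (c.symm.trans (isConj_iff.2 ⟨p, hp⟩))
  have a2 := h.hy.sq h.pu.omul ha
  have hT : IsSyl 2 (N x ⊔ zpowers (e * e)) (cen1 t) := h.sylT.of_le (sup_le
    (fun q hq => mem_centralizer_singleton_iff.2 (h.cq q hq t ht))
    (zpowers_le.2 (mem_centralizer_singleton_iff.2 tu))) le_top
  obtain ⟨d, hd, l⟩ := hT.exists_cj_le (Q := zpowers (g * a * g⁻¹))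
    (isPGroup_zpowers (k := 1) (by rw [pow_one, pow_two, conj_mul, a2]; group))
    (zpowers_le.2 (mem_centralizer_singleton_iff.2 (by rw [← hg, conj_mul, conj_mul, au])))
  have m := l (conj_mem_cj (mem_zpowers _))
  have hd' : d * t * d⁻¹ = t := mul_inv_eq_iff_eq_mul.2 (mem_centralizer_singleton_iff.1 hd)
  rw [show d * (g * a * g⁻¹) * d⁻¹ = d * g * a * (d * g)⁻¹ by group] at m
  have hg' : d * g * (e * e) * (d * g)⁻¹ = t := by rw [← hd', ← hg]; group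
  generalize d * g = f at m hg'
  have ca : IsConj a (f * a * f⁻¹) := isConj_iff.2 ⟨f, rfl⟩
  have a3 : f * a * f⁻¹ * (f * a * f⁻¹) = 1 := by rw [conj_mul, a2]; group
  rcases h.memT m with m | ⟨n, hn, k⟩
  · rcases h.invQ m a3 with m | ⟨w, hw, b, hb, b1, k⟩
    · obtain ⟨w, hw, k⟩ := h.cjW m (fun k => a1 (by simpa using k))
      exact h.nc hw ha a1 (k.trans ca.symm)
    · have c1 := h.cjU (h.q3 ha) (by
        rw [mul_assoc, ← mul_assoc (e * e), au, mul_assoc, h.uu, mul_one, a2])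
      have c2 : IsConj (a * (e * e)) (t * w * b) := isConj_iff.2 ⟨f, by
        rw [← au, ← conj_mul, hg', k, mul_assoc]⟩
      exact h.nc hz hb b1 (((c.trans c1).trans c2).trans (h.cjA (mul_mem ht hw) hb b1).symm)
  · rw [k] at a3 ca
    exact h.nc hz ha a1 ((c.trans (h.cjU hn a3)).trans ca.symm)

end Pa

theorem jobP4 : JobP4.{u} := by
  intro G _ _ _ H x y e hf n14 n34
  have h : Pa x y e := ⟨hf, H, n14, n34⟩
  have cW : Cm (V x ⊔ V y) (V x ⊔ V y) := cm_of_le_cen (sup_le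
    (cm_of_le_cen (sup_le (h.hy.cm h.ox).le_cen h.c12.symm.le_cen)).symm.le_cen
    (cm_of_le_cen (sup_le h.c12.le_cen (h.hy.cm h.oy).le_cen)).symm.le_cen)
  refine (Cfsg.Agent.S1169.result h.sylT.toSylowTop (V x ⊔ V y)
    (fun k => h.v1 (eq_bot_iff.2 (k ▸ le_sup_left))) ⟨⟨fun a b => Subtype.ext (cW _ a.2 _ b.2)⟩⟩
    ⟨(sup_le h.q1 h.q2).trans le_sup_left, fun w hw g m => ?_⟩).resolve_left fun c =>
      h.n23 fun b hb a ha => congrArg Subtype.val
        (c.is_comm.comm ⟨b, mem_sup_left (h.q2 hb)⟩ ⟨a, mem_sup_left (h.q3 ha)⟩)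
  by_cases w1 : w = 1
  · rw [w1, mul_one, mul_inv_cancel]; exact one_mem _
  obtain ⟨z, hz, c⟩ := h.cjW hw w1
  have c' : IsConj z (g * w * g⁻¹) := c.trans (isConj_iff.2 ⟨g, rfl⟩)
  have w2 : g * w * g⁻¹ * (g * w * g⁻¹) = 1 := by
    obtain ⟨d, hd⟩ := isConj_iff.1 c'
    rw [← hd, conj_mul, h.hy.sq h.ox hz]; group
  rcases h.memT m with m | ⟨n, hn, k⟩
  · rcases h.invQ m w2 with m | ⟨v, hv, a, ha, a1, k⟩
    · exact m
    · exact absurd ((k ▸ c').trans (h.cjA hv ha a1).symm) (h.nc hz ha a1)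
  · rw [k] at w2 c'
    exact absurd (c'.trans (h.cjU hn w2).symm) (h.nu hz)

end H54.T3
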