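import Cfsg.Agent.H51.TESpec

/-! Tower TE, part 2 (S1308): job KX2. -/

set_option autoImplicit false

namespace H54.TEKX2

open Cfsg Subgroup MulAction H14 H98 H1.Gold H31.S2 H14.GC H14.FE H14.NF H51.TE
open scoped commutatorElement

universe u

theorem job : KX2.{u} := by
  intro G _ _ K E Q₁ T h W hW two x hx t ht uu r hr hd
  set X := K ⊔ T with hX
  have XE : X ≤ cen E := sup_le (le_centralizer_iff.1 h.gx.tg.le) h.col.comm
  have dv : ∀ w, DT X T w → Dv E w := by
    rintro _ ⟨k, -, s, hs, s1, rfl⟩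
    exact (dv_of h.col.p2 hs s1).conj k
  have mX : ∀ w, DT X T w → w ∈ X := by
    rintro _ ⟨k, hk, s, hs, -, rfl⟩
    exact mul_mem (mul_mem hk (mem_sup_right hs)) (inv_mem hk)
  have sq : ∀ w, DT X T w → w * w = 1 := by
    rintro _ ⟨k, -, s, hs, -, rfl⟩
    rw [conj_mul, pt_el h.gx.tg h.col.p2 s hs, mul_one, mul_inv_cancel]
  -- an element commuting with the conjugated generators commutes with the conjugated closure
  have gen : ∀ c y : G, (∀ w ∈ W, y * (c * w * c⁻¹) = c * w * c⁻¹ * y) → ∀ v ∈ closure W,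
      y * (c * v * c⁻¹) = c * v * c⁻¹ * y := fun c y hy v hv => by
    have : closure W ≤ cen1 (c⁻¹ * y * c) := (closure_le _).2 fun w hw =>
      mem_centralizer_singleton_iff.2 (by
        calc w * (c⁻¹ * y * c) = c⁻¹ * (c * w * c⁻¹ * y) * c := by group
          _ = c⁻¹ * y * c * w := by rw [← hy w hw]; group)
    have e := mem_centralizer_singleton_iff.1 (this hv)
    calc y * (c * v * c⁻¹) = c * (c⁻¹ * y * c * v) * c⁻¹ := by group
      _ = c * v * c⁻¹ * y := by rw [← e]; group
  have ab : ∀ a ∈ closure W, ∀ b ∈ closure W, a * b = b * a := fun a ha b hb => by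
    have := gen 1 a (fun w hw => ?_) b hb
    · simpa using this
    have := gen 1 w (fun w' hw' => by
      simpa using h.p1 w w' (dv w (hW w hw)) (dv w' (hW w' hw')) _ two (subset_closure hw)
        (subset_closure hw')) a ha
    simpa using this.symm
  have xx : x * x = 1 := by
    clear uu hd
    induction hx using closure_induction with
    | mem x hx => exact sq x (hW x hx)
    | one => exact one_mul _
    | mul x y hx hy ex ey =>
      calc x * y * (x * y) = x * (y * x) * y := by group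
        _ = x * x * (y * y) := by rw [ab y hy x hx]; group
        _ = 1 := by rw [ex, ey, one_mul]
    | inv x _ ex => rw [← mul_inv_rev, ex, inv_one]
  have WX : closure W ≤ X := (closure_le _).2 fun w hw => mX w (hW w hw)
  have ti : t⁻¹ = t := inv_eq_of_mul_eq_one_right (sq t ht)
  have xi : x⁻¹ = x := inv_eq_of_mul_eq_one_right xx
  obtain ⟨v, hv⟩ : ∃ v, v = ⁅t, x⁆ := ⟨_, rfl⟩
  rw [← hv] at uu hd ⊢
  have v1 : v = t * x * t * x := by rw [hv, commutatorElement_def, ti, xi]
  have v2 : v = x * t * x * t := by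
    rw [← inv_eq_of_mul_eq_one_right uu, v1]
    simp only [mul_inv_rev, ti, xi, mul_assoc]
  have vx : v * x = x * v := by
    nth_rewrite 1 [v2]
    rw [v1]; group
  have vt : t * v * t⁻¹ = v := by
    nth_rewrite 1 [v1]
    rw [ti, v2]
    calc t * (t * x * t * x) * t = (t * t) * (x * t * x * t) := by group
      _ = _ := by rw [sq t ht, one_mul]
  have tx : t * x * t⁻¹ = v * x := by
    rw [ti, v1, mul_assoc _ x x, xx, mul_one]
  have tX := mX t ht
  have vX : v ∈ X := v1 ▸ mul_mem (mul_mem (mul_mem tX (WX hx)) tX) (WX hx)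
  have WC : closure W ≤ X ⊓ cen1 x := fun a ha =>
    ⟨WX ha, mem_centralizer_singleton_iff.2 (ab a ha x hx)⟩
  obtain ⟨S1, hS1, vS⟩ := exists_isSyl_le (H := X ⊓ cen1 x)
    (isPGroup_zpowers (p := 2) (k := 1) (x := v) (by rw [pow_one, pow_two, uu]))
    (zpowers_le.2 ⟨vX, mem_centralizer_singleton_iff.2 vx⟩)
  obtain ⟨c, hc, hcS⟩ := hS1.exists_cj_le two WC
  have twoE : IsPGroup 2 ↥(S1 ⊔ E) := IsPGroup.to_sup_of_normal_right' hS1.isPGroup
    (El.two h.gx.tg.el) ((hS1.le.trans (inf_le_left.trans XE)).trans (centralizer_le_normalizer _))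
  have k1 : ∀ a ∈ closure W, v * (c * a * c⁻¹) = c * a * c⁻¹ * v := gen c v fun w hw => by
    have m : c * w * c⁻¹ ∈ S1 := hcS (conj_mem_cj (subset_closure hw))
    have e1 := h.p1 _ _ hd ((dv w (hW w hw)).conj c) _ twoE
      (mul_mem (mem_sup_left (vS (mem_zpowers v))) (mem_sup_right hr)) (mem_sup_left m)
    have e2 := mem_centralizer_iff.1 (XE (hS1.le m).1) r hr
    rw [mul_assoc v r, e2, ← mul_assoc v _ r, ← mul_assoc _ v r] at e1
    exact mul_right_cancel e1
  have le0 : cj c (closure W) ≤ X ⊓ cen1 x ⊓ cen1 v := by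
    refine le_inf (hcS.trans hS1.le) ?_
    rintro _ ⟨a, ha, rfl⟩
    exact mem_centralizer_singleton_iff.2 (k1 a ha).symm
  have tn : zpowers t ≤ nor (X ⊓ cen1 x ⊓ cen1 v) := by
    refine zpowers_le.2 (mem_normalizer_fintype fun y hy => ?_)
    have a1 : y * x = x * y := mem_centralizer_singleton_iff.1 hy.1.2
    have a2 : y * v = v * y := mem_centralizer_singleton_iff.1 hy.2
    have b2 : t * y * t⁻¹ * v = v * (t * y * t⁻¹) := by
      rw [← vt, conj_mul, conj_mul, a2]
    have b1 : t * y * t⁻¹ * (v * x) = v * x * (t * y * t⁻¹) := by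
      rw [← tx, conj_mul, conj_mul, a1]
    refine mem_inf.2 ⟨mem_inf.2 ⟨mul_mem (mul_mem tX hy.1.1) (inv_mem tX),
      mem_centralizer_singleton_iff.2 ?_⟩, mem_centralizer_singleton_iff.2 b2⟩
    rw [← mul_assoc, b2, mul_assoc, mul_assoc v x] at b1
    exact mul_left_cancel b1
  obtain ⟨P, hP, tP, hP0⟩ := exists_inv_syl
    (isPGroup_zpowers (p := 2) (k := 1) (x := t) (by rw [pow_one, pow_two, sq t ht])) tn
  obtain ⟨c', hc', hle⟩ := hP0.exists_cj_le (two.map _) le0
  rw [cj_cj] at hle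
  have k2 := gen (c' * c) t (fun w hw => h.p1 _ _ (dv t ht) ((dv w (hW w hw)).conj _) P hP.isPGroup
    (tP (mem_zpowers t)) (hle (conj_mem_cj (subset_closure hw))).1) x hx
  have cx : c' * c * x = x * (c' * c) :=
    mem_centralizer_singleton_iff.1 ((cen1 x).mul_mem hc'.1.2 hc.2)
  rw [cx, mul_inv_cancel_right] at k2
  rw [hv]
  exact commutatorElement_eq_one_iff_mul_comm.2 k2

end H54.TEKX2
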