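import Cfsg.Agent.H54.NFGlue
import Cfsg.Agent.H78.NFNR
import Cfsg.Agent.H17.NFX1
import Cfsg.Agent.H87.NfX2

/-! Tower NF: chapter `ChAb`, and the edge data of a non-full edge. -/

set_option autoImplicit false

namespace H54.NF

open Cfsg Subgroup H14 H98 H1.Gold H31.S2 H14.GC H14.FE

universe u

theorem chAb : H14.NF.ChAb.{u} := chAb_of H78.NFNR.jobNR H17.NFX1.jobX H87.NfX2.jobX2

theorem nr_of_ne {G : Type u} [Group G] [Finite G] {K T : Subgroup G} {g : G} (h : H14.NF.NE K g T) :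
    ∃ R, NR (cen K) T R := nr_of H78.NFNR.jobNR h

end H54.NF
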