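import Cfsg.Agent.H54.NFSpec
import Cfsg.Agent.H14.NF0

/-! Tower NF: the chapters `ChAb` and `ChN1` from the jobs. -/

set_option autoImplicit false

namespace H54.NF

open Cfsg Subgroup MulAction H14 H98 H1.Gold H31.S2 H14.GC H14.FE
open scoped commutatorElement

universe u

section

variable {G : Type u} [Group G] [Finite G] {K Q T R : Subgroup G} {g ρ : G}

theorem nf_of_ne (h : H14.NF.NE K g T) : NF (cen K) g T :=
  ⟨h.out, h.syl, h.ne, fun hs => hs.not_dvd_relIndex (h.nf.trans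
    (Dvd.intro_left _ (relIndex_mul_relIndex T _ _ h.syl.le inf_le_left)))⟩

theorem nr_of (nr : JobNR.{u}) (h : H14.NF.NE K g T) : ∃ R, NR (cen K) T R :=
  nr G (cen K) h.std.2.1 g T (nf_of_ne h)

omit [Finite G] in
theorem ab_of_el (h : El T) : Ab T := fun a ha b hb => by
  have h1 := h _ (T.mul_mem ha hb)
  have h2 : a⁻¹ = a := inv_eq_of_mul_eq_one_right (h a ha)
  have h3 : b⁻¹ = b := inv_eq_of_mul_eq_one_right (h b hb)
  calc a * b = (a * b)⁻¹ := (inv_eq_of_mul_eq_one_right h1).symm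
    _ = b * a := by rw [mul_inv_rev, h2, h3]

omit [Finite G] in
theorem ab_of_iso {A B : Subgroup G} (e : A ≃* B) (h : Ab A) : Ab B := fun a ha b hb => by
  have := h _ (e.symm ⟨a, ha⟩).2 _ (e.symm ⟨b, hb⟩).2
  have h2 : e.symm ⟨a, ha⟩ * e.symm ⟨b, hb⟩ = e.symm ⟨b, hb⟩ * e.symm ⟨a, ha⟩ := Subtype.ext this
  rw [← map_mul, ← map_mul] at h2
  exact congrArg Subtype.val (e.symm.injective h2)

omit [Finite G] in
theorem ab_of_inv {A : Subgroup G} {x : G} (h : ∀ r ∈ A, x * r * x⁻¹ = r⁻¹) : Ab A := fun a ha b hb => by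
  have h1 := h _ (A.mul_mem ha hb)
  rw [← conj_mul, h a ha, h b hb, ← mul_inv_rev] at h1
  exact (inv_injective h1).symm

omit [Finite G] in
theorem card_two (h2 : T ≠ ⊥) (hc : IsCyclic T) (he : El T) : Nat.card T = 2 := by
  obtain ⟨⟨t, ht⟩, hg⟩ := hc.exists_generator
  have e : zpowers t = T := by
    refine le_antisymm (zpowers_le.2 ht) fun x hx => ?_
    obtain ⟨k, hk⟩ := hg ⟨x, hx⟩
    exact ⟨k, congrArg Subtype.val hk⟩
  have h1 : t ≠ 1 := fun e1 => h2 (by rw [← e, e1, zpowers_one_eq_bot])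
  rw [← e, Nat.card_zpowers]
  exact inv_iff.1 ⟨h1, he t ht⟩

/-- A finite cyclic group has at most one involution. -/
theorem inv_unique {a b : G} (ha : a ∈ zpowers ρ) (hb : b ∈ zpowers ρ) (h1 : Inv a) (h2 : Inv b) :
    a = b := by
  classical
  have hc : IsCyclic (zpowers ρ) := inferInstance
  have : Fintype (zpowers ρ) := Fintype.ofFinite _
  have := IsCyclic.card_pow_eq_one_le (α := zpowers ρ) (n := 2) two_pos
  by_contra e
  have h3 : ({1, ⟨a, ha⟩, ⟨b, hb⟩} : Finset (zpowers ρ)) ⊆ Finset.univ.filter fun x => x ^ 2 = 1 := by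
    intro x hx
    simp only [Finset.mem_insert, Finset.mem_singleton] at hx
    rw [Finset.mem_filter]
    refine ⟨Finset.mem_univ _, ?_⟩
    rcases hx with rfl | rfl | rfl
    · exact one_pow _
    · exact Subtype.ext (by simpa [pow_two] using h1.2)
    · exact Subtype.ext (by simpa [pow_two] using h2.2)
  have h4 := Finset.card_le_card h3
  rw [Finset.card_eq_three.2 ⟨_, _, _, fun e' => h1.1 (congrArg Subtype.val e').symm,
    fun e' => h2.1 (congrArg Subtype.val e').symm, fun e' => e (congrArg Subtype.val e'), rfl⟩] at h4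
  omega

theorem dh_of_inv (h : NR Q T R) (hc : IsCyclic T) (h4 : Four R)
    (hi : (R ⊓ cen T).relIndex R = 2) (hx : ∀ x ∈ R, x ∉ cen T → ∀ r ∈ R ⊓ cen T, x * r * x⁻¹ = r⁻¹) :
    ∃ ρ, Dh R ρ := by
  obtain ⟨e⟩ := h.iso
  have hc' : IsCyclic ↥(R ⊓ cen T) := isCyclic_of_surjective e.symm e.symm.surjective
  obtain ⟨⟨ρ, hρ⟩, hg⟩ := hc'.exists_generator
  have e0 : zpowers ρ = R ⊓ cen T := by
    refine le_antisymm (zpowers_le.2 hρ) fun x hx => ?_
    obtain ⟨k, hk⟩ := hg ⟨x, hx⟩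
    exact ⟨k, congrArg Subtype.val hk⟩
  obtain ⟨x0, x0R, x0i, x0n⟩ : ∃ x0 ∈ R, Inv x0 ∧ x0 ∉ cen T := by
    by_contra hn
    push Not at hn
    obtain ⟨s, hs, t, ht, h1, h2, h3, -⟩ := h4
    exact h3 (inv_unique (ρ := ρ) (e0 ▸ ⟨hs, hn s hs h1⟩) (e0 ▸ ⟨ht, hn t ht h2⟩) h1 h2)
  refine ⟨ρ, hρ.1, fun e1 => h.ne ?_, e0 ▸ hi, fun x hx' hn => ?_⟩
  · rw [← card_eq_one, ← Nat.card_congr e.toEquiv, ← e0, e1, zpowers_one_eq_bot, card_bot]
  · rw [e0] at hn
    have h5 : x * x0 ∈ R ⊓ cen T := by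
      have := (mul_mem_iff_of_index_two (H := (R ⊓ cen T).subgroupOf R) hi (a := ⟨x, hx'⟩)
        (b := ⟨x0, x0R⟩)).2 (by
          rw [mem_subgroupOf, mem_subgroupOf]
          exact ⟨fun h' => absurd h' hn, fun h' => absurd h'.2 x0n⟩)
      exact this
    have h6 := hx x0 x0R x0n _ h5
    rw [mul_inv_rev, x0i.inv_eq] at h6
    have h7 : x = x⁻¹ := by
      have : x0 * (x * x0) * x0 = x0 * x * (x0 * x0) := by group
      rw [this, x0i.2, mul_one] at h6
      exact mul_left_cancel h6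
    nth_rewrite 2 [h7]
    exact mul_inv_cancel x

theorem concl_of_dh (ds : JobDS.{u}) (di : JobDI.{u}) (hR : IsSyl 2 R (cen K)) (h : Dh R ρ) :
    H51.CT.Concl K := by
  obtain ⟨z, hz, zi⟩ := exists_inv_two (P := zpowers ρ) (hR.isPGroup.to_le (zpowers_le.2 h.mem))
    (zpowers_ne_bot.2 h.ne)
  have zR : z ∈ R := zpowers_le.2 h.mem hz
  have hle : R ≤ cen1 z := fun x hx => by
    refine mem_centralizer_singleton_iff.2 ?_
    by_cases hm : x ∈ zpowers ρ
    · obtain ⟨i, rfl⟩ := hm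
      obtain ⟨j, rfl⟩ := hz
      exact zpow_mul_comm ρ i j
    · have h1 := h.inv x hx hm
      have h2 := h.inv (x * z) (R.mul_mem hx zR) fun e => hm ((mul_mem_cancel_right hz).1 e)
      calc x * z = (x * z)⁻¹ := (inv_eq_of_mul_eq_one_right h2).symm
        _ = z * x := by rw [mul_inv_rev, zi.inv_eq, inv_eq_of_mul_eq_one_right h1]
  have hS : IsSyl 2 R (cen1 z ⊓ cen K) := hR.of_le (le_inf hle hR.le) inf_le_right
  exact ⟨z, hR.le zR, inv_iff.1 zi, ds G _ R ρ z hS h hz zi inf_le_left,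
    fun S => Or.inr (di G _ R ρ hS h S)⟩

end

theorem chAb_of (nr : JobNR.{u}) (x1 : JobX1.{u}) (x2 : JobX2.{u}) : H14.NF.ChAb.{u} := by
  intro G _ _ K g T h
  by_cases he : El T
  · exact ab_of_el he
  obtain ⟨R, hR⟩ := nr_of nr h
  obtain ⟨x, hx, hn⟩ := SetLike.not_le_iff_exists.1 hR.lt
  obtain ⟨e⟩ := hR.iso
  exact ab_of_iso e (ab_of_inv ((x2 x1 G _ T R hR he).2 x hx hn))

theorem chN1_of (nr : JobNR.{u}) (x1 : JobX1.{u}) (x2 : JobX2.{u}) (c2 : JobC2.{u}) (ds : JobDS.{u})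
    (di : JobDI.{u}) : H14.NF.ChN1.{u} := by
  intro G _ _ K _ g T h hc
  obtain ⟨R, hR⟩ := nr_of nr h
  have h4 : Four R := syl_four hR.sylR h.four
  obtain ⟨ρ, hρ⟩ : ∃ ρ, Dh R ρ := by
    by_cases he : El T
    · exact c2 G _ T R hR (card_two h.ne hc he) h4
    · obtain ⟨h1, h2⟩ := x2 x1 G _ T R hR he
      exact dh_of_inv hR hc h4 h1 h2
  exact concl_of_dh ds di hR.sylR hρ

end H54.NF
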