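import Cfsg.Agent.H54.NFAb
import Cfsg.Agent.H27.NfC2
import Cfsg.Agent.H13.NFDS
import Cfsg.Agent.H44.NFDI

/-! Tower NF: chapter `ChN1`. -/

set_option autoImplicit false

namespace H54.NF

universe u

theorem chN1 : H14.NF.ChN1.{u} :=
  chN1_of H78.NFNR.jobNR H17.NFX1.jobX H87.NfX2.jobX2 H27.NfC2.jobX H13.NFDS.jobDS H44.NFDI.jobDI

end H54.NF
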