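import Cfsg.Agent.H54.NFAb
import Cfsg.Agent.S0205

/-! Tower NF: chapter `ChRE`. -/

set_option autoImplicit false

namespace H54.NF

open Cfsg Subgroup MulAction H14 H98 H1.Gold H31.S2 H14.GC H14.FE

universe u

section

variable {G : Type u} [Group G] [Finite G] {Q T R : Subgroup G}

/-- The automorphisms of `R` that stabilise `R ⊓ cen T`. -/
def stab (T R : Subgroup G) : Subgroup (MulAut R) where
  carrier := {a | ∀ r : R, (r : G) ∈ cen T ↔ ((a r : R) : G) ∈ cen T}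
  one_mem' := fun _ => Iff.rfl
  mul_mem' := fun {a b} ha hb r => (hb r).trans (ha (b r))
  inv_mem' := fun {a} ha r => by
    have := ha (a⁻¹ r)
    rw [MulAut.apply_inv_self] at this
    exact this.symm

omit [Finite G] in
theorem NR.of_comm (h : NR Q T R) {t r : G} (ht : t ∈ T) (t1 : t ≠ 1) (hr : r ∈ R)
    (e : t * r * t⁻¹ = r) : r ∈ cen T :=
  h.fix t ht t1 ⟨hr, mem_centralizer_singleton_iff.2 (mul_inv_eq_iff_eq_mul.1 e).symm⟩

omit [Finite G] in
theorem NR.cm (h : NR Q T R) (hT : El T) (hR : El R) {t r : G} (ht : t ∈ T) (hr : r ∈ R) :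
    r⁻¹ * (t * r * t⁻¹) ∈ cen T := by
  by_cases t1 : t = 1
  · simp [t1]
  have m : t * r * t⁻¹ ∈ R := (mem_normalizer_iff.1 (h.norR ht) r).1 hr
  refine h.of_comm ht t1 (R.mul_mem (R.inv_mem hr) m) ?_
  have i1 : r⁻¹ = r := inv_eq_of_mul_eq_one_right (hR r hr)
  rw [i1, ab_of_el hR r hr _ m]
  calc t * (t * r * t⁻¹ * r) * t⁻¹ = (t * t) * r * (t * t)⁻¹ * (t * r * t⁻¹) := by group
    _ = t * r * t⁻¹ * r := by rw [hT t ht, one_mul, inv_one, mul_one, ab_of_el hR r hr _ m]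

theorem NR.onto (h : NR Q T R) (hT : El T) (hR : El R) {x : G} (hx : x ∈ R) (hn : x ∉ cen T)
    {z : G} (hz : z ∈ R ⊓ cen T) : ∃ t ∈ T, x⁻¹ * (t * x * t⁻¹) = z := by
  obtain ⟨e⟩ := h.iso
  let φ : T → ↥(R ⊓ cen T) := fun t => ⟨x⁻¹ * (t * x * t⁻¹),
    R.mul_mem (R.inv_mem hx) ((mem_normalizer_iff.1 (h.norR t.2) x).1 hx), h.cm hT hR t.2 hx⟩
  have inj : Function.Injective φ := fun a b hab => by
    have h1 : (a : G) * x * (a : G)⁻¹ = b * x * (b : G)⁻¹ := mul_left_cancel (congrArg Subtype.val hab)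
    by_contra hne
    refine hn (h.of_comm (T.mul_mem (T.inv_mem b.2) a.2)
      (fun e1 => hne (Subtype.ext (inv_mul_eq_one.1 e1).symm)) hx ?_)
    calc (b : G)⁻¹ * a * x * ((b : G)⁻¹ * a)⁻¹ = (b : G)⁻¹ * (a * x * (a : G)⁻¹) * b := by group
      _ = x := by rw [h1]; group
  obtain ⟨t, ht⟩ := (inj.bijective_of_nat_card_le (Nat.card_congr e.toEquiv).le).2 ⟨z, hz⟩
  exact ⟨t, t.2, congrArg Subtype.val ht⟩

theorem jobRE_aux (h : NR Q T R) (h4 : Four T) (hT : El T) (hR : El R) {z : G} (hz : z ∈ R ⊓ cen T)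
    (z1 : z ≠ 1) : cen1 z ⊓ Q ⊓ nor R ≤ cen R := by
  set N0 := cen1 z ⊓ Q ⊓ nor R with hN0
  let f : nor R →* MulAut R := R.normalizerMonoidHom
  have fa : ∀ (n : nor R) (r : R), ((f n r : R) : G) = n * r * (n : G)⁻¹ := fun n r => rfl
  let E : Subgroup (MulAut R) := (N0.subgroupOf (nor R)).map f
  let τ : T → MulAut R := fun t => f ⟨t, h.norR t.2⟩
  have RN : R ≤ N0 := fun r hr =>
    ⟨⟨mem_centralizer_singleton_iff.2 (ab_of_el hR r hr z hz.1), h.sylR.le hr⟩, le_normalizer hr⟩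
  have odd : Odd (Nat.card E) := by
    have s1 : IsSyl 2 R N0 := h.sylR.of_le RN (inf_le_left.trans inf_le_right)
    have s2 := (s1.subgroupOf (K := nor R) inf_le_right).map f
    have e : (R.subgroupOf (nor R)).map f = ⊥ := by
      rw [eq_bot_iff]
      rintro _ ⟨n, hn, rfl⟩
      refine mem_bot.2 (MulEquiv.ext fun r => Subtype.ext ?_)
      rw [fa, ab_of_el hR n hn r r.2, mul_inv_cancel_right]
      rfl
    exact Nat.not_even_iff_odd.1 fun ev => s2.eq_bot_iff.1 e (even_iff_two_dvd.1 ev)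
  have norm : ∀ t : T, ∀ e ∈ E, τ t * e * (τ t)⁻¹ ∈ E := by
    rintro t _ ⟨n, hn, rfl⟩
    refine ⟨⟨t, h.norR t.2⟩ * n * (⟨t, h.norR t.2⟩ : nor R)⁻¹, ?_, by simp only [map_mul, map_inv, τ]⟩
    have hn' : (n : G) ∈ N0 := hn
    have h1 : (t : G) ∈ cen1 z := mem_centralizer_singleton_iff.2 (mem_centralizer_iff.1 hz.2 t t.2)
    have h2 : (n : G) ∈ cen1 z := hn'.1.1
    have h3 : (t : G) * n * (t : G)⁻¹ ∈ N0 :=
      mem_inf.2 ⟨mem_inf.2 ⟨mul_mem (mul_mem h1 h2) (inv_mem h1),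
        (mem_normalizer_iff.1 (h.norQ t.2) _).1 hn'.1.2⟩,
        mul_mem (mul_mem (h.norR t.2) n.2) (inv_mem (h.norR t.2))⟩
    exact h3
  have lemA : ∀ a ∈ E, (∀ r : R, (r : G) ∈ cen T → a r = r) →
      (∀ r : R, ((r⁻¹ * a r : R) : G) ∈ cen T) → a = 1 := fun a ha h1 h2 => by
    refine (ni_of_odd odd).eq_one (P := zpowers a) (isPGroup_zpowers (k := 1) ?_) (mem_zpowers a) ha
    refine MulEquiv.ext fun r => ?_
    have e1 := h1 _ (h2 r)
    rw [map_mul, map_inv, inv_mul_eq_iff_eq_mul] at e1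
    have e2 : a (a r) = r := by
      rw [e1]
      apply Subtype.ext
      have := ab_of_el hR _ (a r).2 _ (r⁻¹).2
      have h3 := hR _ (a r).2
      have h4 : ((r⁻¹ : R) : G) = r := inv_eq_of_mul_eq_one_right (hR _ r.2)
      simp only [coe_mul]
      rw [← mul_assoc, this, mul_assoc, h3, mul_one, h4]
    simpa [pow_two] using e2
  have τ1 : ∀ t : T, τ t = 1 → t = 1 := fun t e => by
    by_contra t1
    refine h.lt fun r hr => h.of_comm t.2 (fun e1 => t1 (Subtype.ext e1)) hr ?_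
    exact (fa ⟨t, h.norR t.2⟩ ⟨r, hr⟩).symm.trans (congrArg (fun a : MulAut R => ((a ⟨r, hr⟩ : R) : G)) e)
  have fixiff : ∀ t : T, t ≠ 1 → ∀ r : R, (r : G) ∈ cen T ↔ τ t r = r := fun t t1 r => by
    constructor
    · intro hr
      apply Subtype.ext
      rw [fa, mem_centralizer_iff.1 hr t t.2, mul_inv_cancel_right]
    · intro e
      exact h.of_comm t.2 (fun e1 => t1 (Subtype.ext e1)) r.2 (congrArg Subtype.val e)
  have hL : E ≤ stab T R := by
    let A : Subgroup (MulAut R) := (T.subgroupOf (nor R)).map f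
    have mA : ∀ a ∈ A, ∃ t : T, a = τ t := by
      rintro _ ⟨n, hn, rfl⟩
      exact ⟨⟨n, hn⟩, rfl⟩
    have τm : ∀ s t : T, τ (s * t) = τ s * τ t := fun s t => by
      simp only [τ, ← map_mul]; rfl
    have cA : 4 ≤ Nat.card A := by
      obtain ⟨V, -, c4, hV⟩ := h4.exists_e4
      refine c4.ge.trans ((card_le_of_le hV).trans ?_)
      refine Nat.card_le_card_of_injective
        (fun t : T => (⟨τ t, ⟨t, h.norR t.2⟩, t.2, rfl⟩ : A)) fun s t e => ?_
      have e1 : τ s = τ t := congrArg Subtype.val e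
      have e2 : τ (t⁻¹ * s) = 1 := by
        apply mul_left_cancel (a := τ t)
        rw [← τm, mul_inv_cancel_left, e1, mul_one]
      exact (inv_mul_eq_one.1 (τ1 _ e2)).symm
    refine OI.le_of_cen1 (A := A) ⟨odd, fun a ha => ?_⟩ ⟨⟨⟨fun a b => ?_⟩⟩, fun a ha => ?_⟩ cA ?_
    · obtain ⟨t, rfl⟩ := mA a ha
      exact mem_normalizer_fintype (norm t)
    · obtain ⟨s, hs⟩ := mA a a.2
      obtain ⟨t, ht⟩ := mA b b.2
      apply Subtype.ext
      rw [coe_mul, coe_mul, hs, ht, ← τm, ← τm]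
      exact congrArg τ (Subtype.ext (ab_of_el hT _ s.2 _ t.2))
    · obtain ⟨t, rfl⟩ := mA a ha
      rw [pow_two, ← τm, show t * t = 1 from Subtype.ext (hT _ t.2)]
      exact map_one f
    · intro a ha a1 e he r
      obtain ⟨t, rfl⟩ := mA a ha
      have t1 : t ≠ 1 := fun e1 => a1 (by rw [e1]; exact map_one f)
      have c : e * τ t = τ t * e := mem_centralizer_singleton_iff.1 he.2
      have c' : τ t (e r) = e (τ t r) := by rw [← MulAut.mul_apply, ← c, MulAut.mul_apply]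
      rw [fixiff t t1, fixiff t t1, c']
      exact e.injective.eq_iff.symm
  have τc : ∀ (t : T) (r : R), ((r⁻¹ * τ t r : R) : G) ∈ cen T := fun t r => h.cm hT hR t.2 r.2
  have τ0 : ∀ (t : T) (r : R), (r : G) ∈ cen T → τ t r = r := fun t r hr => by
    apply Subtype.ext
    rw [fa, mem_centralizer_iff.1 hr t t.2, mul_inv_cancel_right]
  have comm : ∀ e ∈ E, ∀ (t : T) (r : R), e (τ t r) = τ t (e r) := fun e he t r => by
    have hm : e⁻¹ * (τ t * e * (τ t)⁻¹) ∈ E := mul_mem (inv_mem he) (norm t e he)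
    have key : ∀ r : R, (e⁻¹ * (τ t * e * (τ t)⁻¹)) (τ t r) = e⁻¹ (τ t (e r)) := fun r => by
      simp only [MulAut.mul_apply, MulAut.inv_apply_self]
    have := lemA _ hm (fun r hr => ?_) (fun r => ?_)
    · have h1 := key r
      rw [this, MulAut.one_apply] at h1
      rw [h1, MulAut.apply_inv_self]
    · have h1 := key r
      rw [τ0 t r hr] at h1
      rw [h1, τ0 t _ ((hL he r).1 hr), MulAut.inv_apply_self]
    · obtain ⟨r, rfl⟩ := (τ t).surjective r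
      rw [key, (hL he _), map_mul, MulAut.apply_inv_self]
      have h1 := τc t (e r)
      have h2 := (hL he _).1 (τc t r)
      have h3 := mul_mem (inv_mem h2) h1
      simp only [map_mul, map_inv, coe_mul, coe_inv] at h3 ⊢
      convert h3 using 1
      group
  have fin : ∀ e ∈ E, e ⟨z, hz.1⟩ = ⟨z, hz.1⟩ → e = 1 := fun e he ez => by
    have q : ∀ r : R, ((r⁻¹ * e r : R) : G) ∈ cen T := fun r => by
      by_cases hr : (r : G) ∈ cen T
      · exact mul_mem (inv_mem hr) ((hL he r).1 hr)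
      obtain ⟨t, ht, e1⟩ := h.onto hT hR r.2 hr hz
      have t1 : (⟨t, ht⟩ : T) ≠ 1 := fun e2 => z1 (by
        rw [← e1, show t = 1 from congrArg Subtype.val e2]; group)
      have e2 : r⁻¹ * τ ⟨t, ht⟩ r = ⟨z, hz.1⟩ := Subtype.ext e1
      have e3 : (e r)⁻¹ * τ ⟨t, ht⟩ (e r) = r⁻¹ * τ ⟨t, ht⟩ r := by
        rw [← comm e he, ← map_inv, ← map_mul, e2, ez]
      rw [fixiff _ t1, map_mul, map_inv, eq_inv_mul_iff_mul_eq.1 e3.symm |>.symm]
      apply Subtype.ext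
      have a1 := ab_of_el hR _ (τ ⟨t, ht⟩ r).2 _ (e r * r⁻¹).2
      have a2 := ab_of_el hR _ (e r).2 _ (r⁻¹).2
      simp only [coe_mul, coe_inv] at a1 a2 ⊢
      rw [← mul_assoc (e r : G), ← a1, inv_mul_cancel_left, a2]
    refine lemA e he (fun r hr => ?_) q
    obtain ⟨x, hx, hn⟩ := SetLike.not_le_iff_exists.1 h.lt
    obtain ⟨t, ht, e1⟩ := h.onto hT hR hx hn ⟨r.2, hr⟩
    have e2 : (⟨x, hx⟩ : R)⁻¹ * τ ⟨t, ht⟩ ⟨x, hx⟩ = r := Subtype.ext e1
    have e3 := τ0 ⟨t, ht⟩ _ (q ⟨x, hx⟩)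
    rw [map_mul, map_inv, inv_mul_eq_iff_eq_mul] at e3
    rw [← e2, map_mul, map_inv, comm e he, e3]
    apply Subtype.ext
    have a1 := ab_of_el hR _ (τ ⟨t, ht⟩ ⟨x, hx⟩).2 _ ((⟨x, hx⟩ : R)⁻¹).2
    have a2 := ab_of_el hR _ ((⟨x, hx⟩ : R)⁻¹ * τ ⟨t, ht⟩ ⟨x, hx⟩).2 _ (e ⟨x, hx⟩).2
    simp only [coe_mul, coe_inv] at a1 a2 ⊢
    rw [← mul_assoc ((τ ⟨t, ht⟩ ⟨x, hx⟩ : R) : G), a1, a2, inv_mul_cancel_left]
  intro n hn
  have := fin (f ⟨n, hn.2⟩) ⟨_, hn, rfl⟩ (Subtype.ext (by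
    rw [fa]; exact mul_inv_eq_iff_eq_mul.2 (mem_centralizer_singleton_iff.1 hn.1.1)))
  refine mem_centralizer_iff.2 fun r hr => ?_
  have h1 := (fa ⟨n, hn.2⟩ ⟨r, hr⟩).symm.trans
    (congrArg (fun a : MulAut R => ((a ⟨r, hr⟩ : R) : G)) this)
  exact (mul_inv_eq_iff_eq_mul.1 h1).symm

theorem sol_of_burnside {C : Subgroup G} (sy : IsSyl 2 R C) (h : C ⊓ nor R ≤ cen R) :
    Group.IsSolvable C := by
  obtain ⟨P, hP⟩ := sy.exists_sylow
  have hN : normalizer ((P : Subgroup C) : Set C) ≤ centralizer ((P : Subgroup C) : Set C) := by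
    intro n hn x hx
    rw [hP] at hn hx
    have nR : n.1 ∈ nor R := mem_normalizer_fintype fun y hy =>
      (mem_normalizer_iff.1 hn ⟨y, sy.le hy⟩).1 hy
    exact Subtype.ext (mem_centralizer_iff.1 (h ⟨n.2, nR⟩) x.1 hx)
  have s1 : Group.IsSolvable (MonoidHom.transferSylow P hN).ker :=
    Cfsg.Agent.S0205.result (Nat.not_even_iff_odd.1 fun h =>
      MonoidHom.not_dvd_card_ker_transferSylow P hN (even_iff_two_dvd.1 h))
  have s2 : Group.IsSolvable P := by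
    have := P.isPGroup'.isNilpotent
    infer_instance
  exact Group.isSolvable_of_ker_le_range (MonoidHom.transferSylow P hN).ker.subtype
    (MonoidHom.transferSylow P hN) (range_subtype _).ge

end

theorem chRE : H14.NF.ChRE.{u} := by
  intro G _ _ K _ g T h hT h4 hel
  obtain ⟨R, hR⟩ := nr_of_ne h
  have el := hel R hR.sylR
  obtain ⟨e⟩ := hR.iso
  obtain ⟨z, hz, zi⟩ := exists_inv_two (P := R ⊓ cen T) (hR.sylR.isPGroup.to_le inf_le_left)
    fun e1 => hR.ne (by rw [← card_eq_one, ← Nat.card_congr e.toEquiv, e1, card_bot])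
  have RC : R ≤ cen1 z ⊓ cen K := fun r hr =>
    ⟨mem_centralizer_singleton_iff.2 (ab_of_el el r hr z hz.1), hR.sylR.le hr⟩
  refine ⟨z, hR.sylR.le hz.1, inv_iff.1 zi, sol_of_burnside (hR.sylR.of_le RC inf_le_right)
    (jobRE_aux hR h4 hT el hz zi.1), fun S => Or.inl ?_⟩
  obtain ⟨c, -, hc⟩ := (hR.sylR.of_le RC inf_le_right).exists_cj_eq (isSyl_map_subtype S)
  have el' : El ((S : Subgroup ↥(cen1 z ⊓ cen K)).map (cen1 z ⊓ cen K).subtype) := by
    rw [← hc]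
    rintro _ ⟨a, ha, rfl⟩
    rw [← map_mul, el a ha, map_one]
  refine ⟨⟨⟨fun a b => Subtype.ext (Subtype.ext
    (ab_of_el el' _ (mem_map_of_mem _ a.2) _ (mem_map_of_mem _ b.2)))⟩⟩, fun a ha => Subtype.ext ?_⟩
  simpa [pow_two] using el' _ (mem_map_of_mem _ ha)

end H54.NF
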