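import Cfsg.Agent.H54.SpIso

set_option autoImplicit false

/-! The `SL₂` attached to a hyperbolic pair in the symplectic group; transvection subgroups. -/

namespace H54

open Matrix

section Ring

variable {l : Type*} [Fintype l] [DecidableEq l] {R : Type*} [CommRing R]

/-- The linear map acting by `g` on the span of the hyperbolic pair `p, q`. -/
noncomputable def sl2Lin (p q : l ⊕ l → R) (g : Matrix (Fin 2) (Fin 2) R) :
    (l ⊕ l → R) →ₗ[R] (l ⊕ l → R) :=
  LinearMap.id + ((g 0 0 - 1) • (spB l R).flip q - g 0 1 • (spB l R).flip p).smulRight p +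
    (g 1 0 • (spB l R).flip q - (g 1 1 - 1) • (spB l R).flip p).smulRight q

theorem sl2Lin_apply (p q : l ⊕ l → R) (g : Matrix (Fin 2) (Fin 2) R) (v : l ⊕ l → R) :
    sl2Lin p q g v = v + ((g 0 0 - 1) * spB l R v q - g 0 1 * spB l R v p) • p +
      (g 1 0 * spB l R v q - (g 1 1 - 1) * spB l R v p) • q := by
  simp [sl2Lin]

theorem sl2Lin_map {p q : l ⊕ l → R} (h : spB l R p q = 1)
    (g : Matrix.SpecialLinearGroup (Fin 2) R) (u v : l ⊕ l → R) :
    spB l R (sl2Lin p q g.1 u) (sl2Lin p q g.1 v) = spB l R u v := by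
  have hd := g.det_coe
  rw [Matrix.det_fin_two] at hd
  simp only [sl2Lin_apply, map_add, map_smul, LinearMap.add_apply, LinearMap.smul_apply,
    smul_eq_mul, spB_self, h, spB_swap q p, spB_swap p v, spB_swap q v]
  linear_combination (spB l R u p * spB l R v q - spB l R u q * spB l R v p) * hd

/-- The embedding of `SL₂` attached to a hyperbolic pair. -/
noncomputable def sl2Hom {p q : l ⊕ l → R} (h : spB l R p q = 1) :
    Matrix.SpecialLinearGroup (Fin 2) R →* Matrix.symplecticGroup l R :=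
  MonoidHom.mk' (fun g => spOfLin (sl2Lin p q g.1) (sl2Lin_map h g))
    (fun g g' => sp_ext fun v => by
      rw [mul_smul, spOfLin_smul, spOfLin_smul, spOfLin_smul]
      simp only [sl2Lin_apply, map_add, map_smul, spB_self, h, spB_swap q p,
        Matrix.SpecialLinearGroup.coe_mul, Matrix.mul_apply, Fin.sum_univ_two]
      module)

theorem sl2Hom_smul {p q : l ⊕ l → R} (h : spB l R p q = 1)
    (g : Matrix.SpecialLinearGroup (Fin 2) R) (v : l ⊕ l → R) :
    sl2Hom h g • v = v + ((g 0 0 - 1) * spB l R v q - g 0 1 * spB l R v p) • p +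
      (g 1 0 * spB l R v q - (g 1 1 - 1) * spB l R v p) • q := by
  rw [← sl2Lin_apply]; exact spOfLin_smul _ (sl2Lin_map h g) v

theorem sl2Hom_smul_left {p q : l ⊕ l → R} (h : spB l R p q = 1)
    (g : Matrix.SpecialLinearGroup (Fin 2) R) : sl2Hom h g • p = g 0 0 • p + g 1 0 • q := by
  rw [sl2Hom_smul, h, spB_self]; module

theorem sl2Hom_smul_right {p q : l ⊕ l → R} (h : spB l R p q = 1)
    (g : Matrix.SpecialLinearGroup (Fin 2) R) : sl2Hom h g • q = g 0 1 • p + g 1 1 • q := by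
  rw [sl2Hom_smul, spB_swap q p, h, spB_self]; module

theorem sl2Hom_smul_of_ortho {p q : l ⊕ l → R} (h : spB l R p q = 1)
    (g : Matrix.SpecialLinearGroup (Fin 2) R) {v : l ⊕ l → R} (hp : spB l R v p = 0)
    (hq : spB l R v q = 0) : sl2Hom h g • v = v := by
  rw [sl2Hom_smul, hp, hq]; module

theorem sl2Hom_injective {p q : l ⊕ l → R} (h : spB l R p q = 1) :
    Function.Injective (sl2Hom h) := by
  rw [injective_iff_map_eq_one]
  intro g hg
  have h1 := sl2Hom_smul_left h g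
  have h2 := sl2Hom_smul_right h g
  rw [hg, one_smul] at h1 h2
  have a := congrArg (fun v => spB l R v q) h1
  have b := congrArg (fun v => spB l R p v) h1
  have c := congrArg (fun v => spB l R v q) h2
  have d := congrArg (fun v => spB l R p v) h2
  simp only [map_add, map_smul, LinearMap.add_apply, LinearMap.smul_apply, smul_eq_mul, spB_self,
    h, mul_one, mul_zero, add_zero, zero_add] at a b c d
  ext i j
  fin_cases i <;> fin_cases j <;> simp [← a, ← b, ← c, ← d]

theorem sl2Hom_upper {p q : l ⊕ l → R} (h : spB l R p q = 1)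
    {g : Matrix.SpecialLinearGroup (Fin 2) R} (h10 : g 1 0 = 0) (h00 : g 0 0 = 1)
    (h11 : g 1 1 = 1) : sl2Hom h g = tv p (-g 0 1) :=
  sp_ext fun v => by rw [sl2Hom_smul, tv_smul, h10, h00, h11]; module

theorem sl2Hom_lower {p q : l ⊕ l → R} (h : spB l R p q = 1)
    {g : Matrix.SpecialLinearGroup (Fin 2) R} (h01 : g 0 1 = 0) (h00 : g 0 0 = 1)
    (h11 : g 1 1 = 1) : sl2Hom h g = tv q (g 1 0) :=
  sp_ext fun v => by rw [sl2Hom_smul, tv_smul, h01, h00, h11]; module

/-- The group of transvections with centre `v`. -/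
def tvSub (v : l ⊕ l → R) : Subgroup (Matrix.symplecticGroup l R) where
  carrier := {g | ∃ c, g = tv v c}
  one_mem' := ⟨0, (tv_zero v).symm⟩
  mul_mem' := by
    rintro _ _ ⟨c, rfl⟩ ⟨d, rfl⟩
    exact ⟨c + d, tv_mul v c d⟩
  inv_mem' := by
    rintro _ ⟨c, rfl⟩
    exact ⟨-c, tv_inv v c⟩

theorem mem_tvSub {v : l ⊕ l → R} {g : Matrix.symplecticGroup l R} :
    g ∈ tvSub v ↔ ∃ c, g = tv v c := Iff.rfl

theorem tv_mem_tvSub (v : l ⊕ l → R) (c : R) : tv v c ∈ tvSub v := ⟨c, rfl⟩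

theorem tvSub_map_conj (g : Matrix.symplecticGroup l R) (v : l ⊕ l → R) :
    (tvSub v).map (MulAut.conj g).toMonoidHom = tvSub (g • v) := by
  ext x
  constructor
  · rintro ⟨_, ⟨c, rfl⟩, rfl⟩
    exact ⟨c, tv_conj g v c⟩
  · rintro ⟨c, rfl⟩
    exact ⟨tv v c, ⟨c, rfl⟩, tv_conj g v c⟩

theorem tvSub_isMulCommutative (v : l ⊕ l → R) : IsMulCommutative (tvSub v) :=
  ⟨⟨by
    rintro ⟨_, c, rfl⟩ ⟨_, d, rfl⟩
    exact Subtype.ext (tv_commute (spB_self v) c d).eq⟩⟩

theorem closure_eq_tvSub (p : l ⊕ l → R) :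
    Subgroup.closure {g : Matrix.symplecticGroup l R | ∃ c : R, ∀ v : l ⊕ l → R,
      (g : Matrix (l ⊕ l) (l ⊕ l) R) *ᵥ v = v + (c * (v ⬝ᵥ (Matrix.J l R *ᵥ p))) • p} =
      tvSub p := by
  rw [← Subgroup.closure_eq (tvSub p)]
  congr 1
  ext g
  refine exists_congr fun c => ⟨fun h => sp_ext fun v => ?_, ?_⟩
  · rw [tv_smul, spB_apply, ← h v, sp_smul_def]
  · rintro rfl v
    rw [← spB_apply, ← tv_smul, sp_smul_def]

end Ring

section Field

variable {l : Type*} [Fintype l] [DecidableEq l] {F : Type*} [Field F]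

theorem tvSub_smul {a : F} (ha : a ≠ 0) (v : l ⊕ l → F) : tvSub (a • v) = tvSub v := by
  ext x
  constructor
  · rintro ⟨c, rfl⟩
    exact ⟨_, tv_smul_left a v c⟩
  · rintro ⟨c, rfl⟩
    exact ⟨c / a ^ 2, by rw [tv_smul_left, mul_div_cancel₀ _ (pow_ne_zero 2 ha)]⟩

theorem tvSub_ne_bot {v : l ⊕ l → F} (hv : v ≠ 0) : tvSub v ≠ ⊥ := fun h => by
  have : tv v (1 : F) = 1 := Subgroup.mem_bot.1 (h ▸ tv_mem_tvSub v 1)
  rw [tv_eq_one_iff] at this
  simp [hv] at this

/-- The upper unitriangular matrix. -/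
def slUp (c : F) : Matrix.SpecialLinearGroup (Fin 2) F :=
  ⟨!![1, c; 0, 1], by simp [Matrix.det_fin_two]⟩

/-- The lower unitriangular matrix. -/
def slLow (c : F) : Matrix.SpecialLinearGroup (Fin 2) F :=
  ⟨!![1, 0; c, 1], by simp [Matrix.det_fin_two]⟩

theorem sl2_eq_top_of_up_low (H : Subgroup (Matrix.SpecialLinearGroup (Fin 2) F))
    (hu : ∀ c, slUp c ∈ H) (hl : ∀ c, slLow c ∈ H) : H = ⊤ := by
  have key : ∀ g : Matrix.SpecialLinearGroup (Fin 2) F, g 1 0 ≠ 0 → g ∈ H := by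
    intro g hg
    have hd := g.det_coe
    rw [Matrix.det_fin_two] at hd
    have : g = slUp ((g 0 0 - 1) / g 1 0) * slLow (g 1 0) * slUp ((g 1 1 - 1) / g 1 0) := by
      refine Subtype.ext ?_
      rw [Matrix.SpecialLinearGroup.coe_mul, Matrix.SpecialLinearGroup.coe_mul]
      ext i j
      fin_cases i <;> fin_cases j <;>
        simp [slUp, slLow, Matrix.mul_apply, Fin.sum_univ_two] <;> field_simp
      · ring
      · linear_combination -hd
      · ring
    rw [this]
    exact H.mul_mem (H.mul_mem (hu _) (hl _)) (hu _)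
  rw [eq_top_iff]
  intro g _
  by_cases hg : g 1 0 = 0
  · have hd := g.det_coe
    rw [Matrix.det_fin_two] at hd
    have h11 : g 1 1 ≠ 0 := fun h => by simp [h, hg] at hd
    have := key (g * slLow 1) (by
      rw [Matrix.SpecialLinearGroup.coe_mul]
      simpa [slLow, Matrix.mul_apply, Fin.sum_univ_two, hg] using h11)
    simpa using H.mul_mem this (H.inv_mem (hl 1))
  · exact key g hg

theorem sl2Hom_slUp {p q : l ⊕ l → F} (h : spB l F p q = 1) (c : F) :
    sl2Hom h (slUp c) = tv p (-c) := sl2Hom_upper h rfl rfl rfl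

theorem sl2Hom_slLow {p q : l ⊕ l → F} (h : spB l F p q = 1) (c : F) :
    sl2Hom h (slLow c) = tv q c := sl2Hom_lower h rfl rfl rfl

theorem range_sl2Hom {p q : l ⊕ l → F} (h : spB l F p q = 1) :
    (sl2Hom h).range = tvSub p ⊔ tvSub q := by
  apply le_antisymm
  · rw [MonoidHom.range_eq_map, Subgroup.map_le_iff_le_comap, top_le_iff]
    refine sl2_eq_top_of_up_low _ (fun c => ?_) (fun c => ?_)
    · rw [Subgroup.mem_comap, sl2Hom_slUp]; exact Subgroup.mem_sup_left (tv_mem_tvSub _ _)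
    · rw [Subgroup.mem_comap, sl2Hom_slLow]; exact Subgroup.mem_sup_right (tv_mem_tvSub _ _)
  · refine sup_le ?_ ?_
    · rintro _ ⟨c, rfl⟩
      exact ⟨slUp (-c), by rw [sl2Hom_slUp, neg_neg]⟩
    · rintro _ ⟨c, rfl⟩
      exact ⟨slLow c, sl2Hom_slLow h c⟩

end Field

end H54
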