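import Cfsg.Agent.H31.O7K
import Cfsg.Agent.H54.SpSL2
import Cfsg.Agent.H54.SpSimple
import Cfsg.Agent.H96.NatSL

/-! O7, job MS4: the configuration of two commuting `SL₂(3)` in `PSp₄(q)`, `q > 3` odd. -/

set_option autoImplicit false

namespace H54.O7MS4

open Matrix Subgroup H31.O7 Cfsg
open scoped MatrixGroups

section sl2

variable {F : Type*} [Field F]

/-- `SL₂(3)` inside `SL₂(q)`. -/
theorem exists_q8y [Fintype F] (h2 : (2 : F) ≠ 0) :
    ∃ i j y : SL(2, F), i * i = -1 ∧ j * j = -1 ∧ i * j * i⁻¹ = j⁻¹ ∧ y * i * y⁻¹ = j ∧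
      y * j * y⁻¹ = i * j := by
  obtain ⟨p, hp⟩ := CharP.exists F
  have : Fact p.Prime := ⟨CharP.char_is_prime F p⟩
  obtain ⟨a, b, h⟩ := CharP.sq_add_sq F p (-1)
  push_cast at h
  obtain ⟨u, hu⟩ : ∃ u : F, 2 * u = 1 := ⟨2⁻¹, mul_inv_cancel₀ h2⟩
  let i : SL(2, F) := ⟨!![0, 1; -1, 0], by simp [Matrix.det_fin_two]⟩
  let j : SL(2, F) := ⟨!![a, b; b, -a], by rw [Matrix.det_fin_two_of]; linear_combination -h⟩
  let y : SL(2, F) := ⟨!![u * (1 + a + b), u * (1 + b - a); u * (-1 + b - a), u * (1 - a - b)], by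
    rw [Matrix.det_fin_two_of]; linear_combination (-2 * u ^ 2) * h + (2 * u + 1) * hu⟩
  have e1 : j * j = -1 := Subtype.ext (by
    change j.1 * j.1 = -1
    ext s t; fin_cases s <;> fin_cases t <;> simp [j, Matrix.mul_apply, Fin.sum_univ_two] <;>
      first | linear_combination h | ring)
  have e2 : j * i * j = i := Subtype.ext (by
    change j.1 * i.1 * j.1 = i.1
    ext s t; fin_cases s <;> fin_cases t <;> simp [i, j, Matrix.mul_apply, Fin.sum_univ_two] <;>
      first | linear_combination h | linear_combination -h | ring)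
  have e3 : y * i = j * y := Subtype.ext (by
    change y.1 * i.1 = j.1 * y.1
    ext s t; fin_cases s <;> fin_cases t <;> simp [i, j, y, Matrix.mul_apply, Fin.sum_univ_two] <;>
      first | linear_combination u * h | linear_combination -u * h)
  have e4 : y * j = i * j * y := Subtype.ext (by
    change y.1 * j.1 = i.1 * j.1 * y.1
    ext s t; fin_cases s <;> fin_cases t <;> simp [i, j, y, Matrix.mul_apply, Fin.sum_univ_two] <;>
      first | linear_combination u * h | linear_combination -u * h | ring)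
  refine ⟨i, j, y, Subtype.ext ?_, e1, ?_, by rw [e3, mul_inv_cancel_right],
    by rw [e4, mul_inv_cancel_right]⟩
  · change i.1 * i.1 = -1
    ext s t; fin_cases s <;> fin_cases t <;> simp [i, Matrix.mul_apply, Fin.sum_univ_two]
  · rw [mul_inv_eq_iff_eq_mul, eq_inv_mul_iff_mul_eq, ← mul_assoc, e2]

theorem neg_one_ne (h2 : (2 : F) ≠ 0) : (-1 : SL(2, F)) ≠ 1 := fun e => by
  have := congrArg (fun g : SL(2, F) => g 0 0) e
  simp at this
  exact h2 (by linear_combination -this)

theorem closure_conj_eq_top (h2 : (2 : F) ≠ 0) (h : ∃ a : F, a ≠ 0 ∧ a ^ 2 ≠ 1) {i j : SL(2, F)}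
    (hj : j * j = -1) (hij : i * j * i⁻¹ = j⁻¹) (N : Subgroup SL(2, F))
    (hN : ∀ x, x * i * x⁻¹ ∈ N) : N = ⊤ := by
  rcases H96.NS.normal_cases h (normalClosure {i}) with e | e
  · rw [eq_top_iff, ← e, normalClosure, closure_le]
    intro g hg
    obtain ⟨a, ha, c⟩ := Group.mem_conjugatesOfSet_iff.1 hg
    obtain ⟨x, rfl⟩ := isConj_iff.1 c
    rw [Set.mem_singleton_iff.1 ha]
    exact hN x
  · have c := mem_center_iff.1 (e (subset_normalClosure rfl)) j
    rw [← c, mul_inv_cancel_right] at hij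
    exact absurd (by rw [← hj]; nth_rewrite 2 [hij]; exact mul_inv_cancel j) (neg_one_ne h2)

theorem exists_col {a b : F} (h : ¬ (a = 0 ∧ b = 0)) : ∃ x : SL(2, F), x 0 0 = a ∧ x 1 0 = b := by
  by_cases ha : a = 0
  · have hb : b ≠ 0 := fun hb => h ⟨ha, hb⟩
    exact ⟨⟨!![a, -b⁻¹; b, 0], by rw [Matrix.det_fin_two_of]; field_simp; ring⟩, rfl, rfl⟩
  · exact ⟨⟨!![a, 0; b, a⁻¹], by rw [Matrix.det_fin_two_of]; field_simp; ring⟩, rfl, rfl⟩

end sl2

section sp

variable {l : Type*} [Fintype l] [DecidableEq l] {F : Type*} [Field F]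

theorem sl2Hom_conj {p q p' q' : l ⊕ l → F} (h : spB l F p q = 1) (h' : spB l F p' q' = 1)
    {g : Matrix.symplecticGroup l F} (hp : g • p = p') (hq : g • q = q') (x : SL(2, F)) :
    g * sl2Hom h x * g⁻¹ = sl2Hom h' x :=
  sp_ext fun v => by
    rw [mul_smul, mul_smul, sl2Hom_smul, sl2Hom_smul, smul_add, smul_add, smul_inv_smul,
      sp_smul_smul, sp_smul_smul, spB_inv_smul_left, spB_inv_smul_left, hp, hq]

theorem neg_smul_eq {p q : l ⊕ l → F} (h : spB l F p q = 1) (v : l ⊕ l → F) :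
    sl2Hom h (-1) • v = v - (2 * spB l F v q) • p + (2 * spB l F v p) • q := by
  rw [sl2Hom_smul]
  simp
  module

theorem mk_eq {a b : Matrix.symplecticGroup l F}
    (h : QuotientGroup.mk' (center (Matrix.symplecticGroup l F)) a = QuotientGroup.mk' _ b) :
    (∀ v : l ⊕ l → F, b • v = a • v) ∨ ∀ v : l ⊕ l → F, b • v = -(a • v) := by
  obtain ⟨z, hz, rfl⟩ := (QuotientGroup.mk'_eq_mk' _).1 h
  rcases mem_center_sp_iff.1 hz with rfl | rfl
  · exact .inl fun v => by rw [mul_one]
  · exact .inr fun v => by rw [mul_smul, spNegOne_smul, smul_neg]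

/-- A symplectic basis in dimension four. -/
structure H4 (p q r s : l ⊕ l → F) : Prop where
  pq : spB l F p q = 1
  rs : spB l F r s = 1
  pr : spB l F p r = 0
  ps : spB l F p s = 0
  qr : spB l F q r = 0
  qs : spB l F q s = 0
  span : ∀ v, ∃ a b c d : F, v = a • p + b • q + c • r + d • s

namespace H4

variable {p q r s : l ⊕ l → F} (k : H4 p q r s)
include k

theorem qp : spB l F q p = -1 := by rw [spB_swap, k.pq]
theorem sr : spB l F s r = -1 := by rw [spB_swap, k.rs]
theorem rp : spB l F r p = 0 := by rw [spB_swap, k.pr, neg_zero]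
theorem sp : spB l F s p = 0 := by rw [spB_swap, k.ps, neg_zero]
theorem rq : spB l F r q = 0 := by rw [spB_swap, k.qr, neg_zero]
theorem sq : spB l F s q = 0 := by rw [spB_swap, k.qs, neg_zero]

theorem φr (x : SL(2, F)) : sl2Hom k.pq x • r = r := sl2Hom_smul_of_ortho _ _ k.rp k.rq
theorem φs (x : SL(2, F)) : sl2Hom k.pq x • s = s := sl2Hom_smul_of_ortho _ _ k.sp k.sq
theorem ψp (x : SL(2, F)) : sl2Hom k.rs x • p = p := sl2Hom_smul_of_ortho _ _ k.pr k.ps
theorem ψq (x : SL(2, F)) : sl2Hom k.rs x • q = q := sl2Hom_smul_of_ortho _ _ k.qr k.qs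

theorem comm (x y : SL(2, F)) : Commute (sl2Hom k.rs y) (sl2Hom k.pq x) :=
  mul_inv_eq_iff_eq_mul.1 (sl2Hom_conj k.pq k.pq (k.ψp y) (k.ψq y) x)

theorem neg_neg : sl2Hom k.pq (-1) * sl2Hom k.rs (-1) = spNegOne l F :=
  sp_ext fun v => by
    obtain ⟨a, b, c, d, rfl⟩ := k.span v
    simp only [mul_smul, spNegOne_smul, smul_add, sp_smul_smul, k.ψp, k.ψq, sl2Hom_smul_left,
      sl2Hom_smul_right, k.φr, k.φs]
    simp

/-- The two `SL₂` and one more group of transvections generate. -/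
theorem eq_top (H : Subgroup (Matrix.symplecticGroup l F)) (h1 : ∀ x, sl2Hom k.pq x ∈ H)
    (h2 : ∀ x, sl2Hom k.rs x ∈ H) (h3 : ∀ e, tv (p - r) e ∈ H) : H = ⊤ := by
  have mv : ∀ g ∈ H, ∀ v : l ⊕ l → F, (∀ e, tv v e ∈ H) → ∀ e, tv (g • v) e ∈ H :=
    fun g hg v hv e => tv_conj g v e ▸ H.mul_mem (H.mul_mem hg (hv e)) (H.inv_mem hg)
  refine eq_top_of_tv_mem H fun v => ?_
  obtain ⟨a, b, c, d, rfl⟩ := k.span v
  by_cases e1 : a = 0 ∧ b = 0 <;> by_cases e2 : -c = 0 ∧ -d = 0
  · intro e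
    rw [e1.1, e1.2, neg_eq_zero.1 e2.1, neg_eq_zero.1 e2.2]
    simp [tv_zero_left]
  · obtain ⟨y, y0, y1⟩ := exists_col e2
    intro e
    have := mv _ (h2 y) r (fun e => by simpa [sl2Hom_slUp] using h2 (slUp (-e))) e
    rw [sl2Hom_smul_left, y0, y1, ← tv_neg_left] at this
    convert this using 2
    rw [e1.1, e1.2]; module
  · obtain ⟨x, x0, x1⟩ := exists_col e1
    intro e
    have := mv _ (h1 x) p (fun e => by simpa [sl2Hom_slUp] using h1 (slUp (-e))) e
    rw [sl2Hom_smul_left, x0, x1] at this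
    convert this using 2
    rw [neg_eq_zero.1 e2.1, neg_eq_zero.1 e2.2]; module
  · obtain ⟨x, x0, x1⟩ := exists_col e1
    obtain ⟨y, y0, y1⟩ := exists_col e2
    intro e
    have := mv _ (h1 x) _ (mv _ (h2 y) _ h3) e
    rw [smul_sub, k.ψp, sl2Hom_smul_left, y0, y1, smul_sub, sl2Hom_smul_left, x0, x1, smul_add,
      sp_smul_smul, sp_smul_smul, k.φr, k.φs] at this
    convert this using 2
    module

theorem cl [Fintype F] (h2 : (2 : F) ≠ 0) (h4 : ∃ a : F, a ≠ 0 ∧ a ^ 2 ≠ 1) :
    CL (Matrix.symplecticGroup l F ⧸ center (Matrix.symplecticGroup l F)) := by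
  obtain ⟨i, j, y, hi, hj, hij, hyi, hyj⟩ := exists_q8y h2
  obtain ⟨u, hu⟩ : ∃ u : F, 2 * u = 1 := ⟨2⁻¹, mul_inv_cancel₀ h2⟩
  have hd : spB l F (p - r) (u • (q - s)) = 1 := by
    simp only [map_sub, map_smul, LinearMap.sub_apply, k.pq, k.ps, k.rq, k.rs, smul_eq_mul]
    linear_combination hu
  set π := QuotientGroup.mk' (center (Matrix.symplecticGroup l F)) with hπ
  set φ := sl2Hom k.pq with hφ
  set z := sl2Hom hd (-1) with hz
  have zp : z • p = r := by
    rw [neg_smul_eq]
    simp only [map_sub, map_smul, k.pq, k.ps, k.pr, spB_self, smul_eq_mul]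
    linear_combination (norm := module) (-hu) • (p - r)
  have zq : z • q = s := by
    rw [neg_smul_eq]
    simp only [map_sub, map_smul, k.qp, k.qs, k.qr, spB_self, smul_eq_mul]
    linear_combination (norm := module) (-hu) • (q - s)
  have zφ : ∀ x, z * φ x * z⁻¹ = sl2Hom k.rs x := sl2Hom_conj k.pq k.rs zp zq
  obtain ⟨c, cp, cq⟩ := sp_witt_pair (u := p) (v := q) (u' := p - r) (v' := u • (q - s))
    (linearIndependent_pair_of_spB_ne_zero (by rw [k.pq]; exact one_ne_zero))
    (linearIndependent_pair_of_spB_ne_zero (by rw [hd]; exact one_ne_zero)) (by rw [hd, k.pq])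
  have cφ : ∀ x, c * φ x * c⁻¹ = sl2Hom hd x := sl2Hom_conj k.pq hd cp cq
  have ii : π (φ i) * π (φ i) = π (φ (-1)) := by rw [← map_mul, ← map_mul, hi]
  have tp : φ (-1) • p = -p := by rw [sl2Hom_smul_left]; simp
  have zt : π z * π (φ (-1)) * (π z)⁻¹ = π (φ (-1)) := by
    rw [← map_inv, ← map_mul, ← map_mul, zφ]
    have a : π (φ (-1)) * π (sl2Hom k.rs (-1)) = 1 := by
      rw [← map_mul, k.neg_neg]; exact (QuotientGroup.eq_one_iff _).2 spNegOne_mem_center
    have b : π (φ (-1)) * π (φ (-1)) = 1 := by rw [← map_mul, ← map_mul]; simp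
    exact mul_left_cancel (a.trans b.symm)
  have wz : Commute (π z) (π (φ i) * π (φ i)) := by
    rw [ii]; exact mul_inv_eq_iff_eq_mul.1 zt
  have wc : ∀ x, Commute (π z * π (φ i) * (π z)⁻¹) (π (φ x)) := fun x => by
    rw [← map_inv, ← map_mul, ← map_mul, zφ]
    exact (k.comm x i).map π
  have np : ∀ e : F, r ≠ e • p := fun e h => by
    have := congrArg (fun v => spB l F v s) h
    simp [k.rs, k.ps] at this
  refine ⟨π (φ i), π (φ j), π (φ y), π z, π z, ⟨⟨?_, ?_, ?_⟩, ?_, ?_, wz, wc i, wc j, wc y⟩,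
    ?_, ?_, ?_, wz, ?_⟩
  · rw [ii, ← map_mul, ← map_mul, hj]
  · simp only [← map_inv, ← map_mul, hij]
  · rw [ii, ← map_one π]
    intro h
    rcases mk_eq h with e | e
    · have := congrArg (fun v => spB l F v q) (e p)
      simp [tp, k.pq] at this
      exact h2 (by linear_combination this)
    · have := congrArg (fun v => spB l F v s) (e r)
      simp [hφ, k.φr, k.rs] at this
      exact h2 (by linear_combination this)
  · simp only [← map_inv, ← map_mul, hyi]
  · simp only [← map_inv, ← map_mul, hyj]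
  · rw [← map_one π]
    intro h
    rcases mk_eq h.symm with e | e
    · exact np 1 (by simpa [zp] using e p)
    · exact np (-1) (by simpa [zp] using e p)
  · rw [← map_mul, ← map_mul]; simp
  · rw [ii]
    intro h
    rcases mk_eq h.symm with e | e
    · exact np (-1) (by simpa [zp, tp] using e p)
    · exact np 1 (by simpa [zp, tp] using e p)
  · rw [ii]
    generalize hK : Subgroup.closure
      {g : Matrix.symplecticGroup l F ⧸ center (Matrix.symplecticGroup l F) | ∃ c, _} = K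
    have key : ∀ g : Matrix.symplecticGroup l F,
        (π g * π (φ (-1)) * (π g)⁻¹ = π (φ (-1)) ∨ π g * π (φ (-1)) * (π g)⁻¹ = π z) →
        ∀ x, g * φ x * g⁻¹ ∈ K.comap π := fun g hg x => by
      have := closure_conj_eq_top h2 h4 hj hij
        ((K.comap π).comap ((MulAut.conj g).toMonoidHom.comp φ)) fun x => by
          rw [mem_comap, mem_comap, ← hK]
          refine Subgroup.subset_closure ⟨π (g * φ x), ?_, by simp [mul_assoc]⟩
          have e : π (g * φ x) * π (φ (-1)) * (π (g * φ x))⁻¹ = π g * π (φ (-1)) * (π g)⁻¹ := by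
            have : φ x * φ (-1) = φ (-1) * φ x := by rw [← map_mul, ← map_mul]; simp
            simp only [← map_inv, ← map_mul]
            rw [mul_assoc g, this]; group
          rw [e]
          exact hg.imp_right .inl
      exact (this ▸ mem_top x : x ∈ (K.comap π).comap _)
    have := k.eq_top (K.comap π) (fun x => by simpa using key 1 (.inl (by simp)) x)
      (fun x => zφ x ▸ key z (.inl zt) x) fun e => by
        have := key c (.inr (by rw [← map_inv, ← map_mul, ← map_mul, cφ])) (slUp (-e))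
        rwa [cφ, sl2Hom_slUp, _root_.neg_neg] at this
    rw [eq_top_iff]
    intro g _
    obtain ⟨g, rfl⟩ := QuotientGroup.mk'_surjective _ g
    exact (this ▸ mem_top g : g ∈ K.comap π)

end H4

end sp

theorem h4_std (F : Type*) [Field F] :
    H4 (l := Fin 2) (F := F) (Pi.single (.inr 0) 1) (Pi.single (.inl 0) 1) (Pi.single (.inr 1) 1)
      (Pi.single (.inl 1) 1) where
  pq := by simp [spB_single_inr_left]
  rs := by simp [spB_single_inr_left]
  pr := by simp [spB_single_inr_left]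
  ps := by simp [spB_single_inr_left]
  qr := by simp [spB_single_inl_left]
  qs := by simp [spB_single_inl_left]
  span v := ⟨v (.inr 0), v (.inl 0), v (.inr 1), v (.inl 1), by
    ext (a | a) <;> fin_cases a <;> simp⟩

theorem jobMS4 : JobMS4 := fun F _ _ ho h3 =>
  (h4_std F).cl (fun h => Nat.not_even_iff_odd.2 ho (two_eq_zero_iff_even_card.1 h))
    (exists_sq_ne_one_of_four_le (by rw [Nat.card_eq_fintype_card]; omega))

end H54.O7MS4
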