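/- O7, job S3, part a: the integral form on a simply laced system, chains and types. -/
import Cfsg.Agent.H31.O7A

set_option autoImplicit false

namespace H54.O7S

open H56 H31.O7 QuadraticMap Module

universe u

variable {K : Type u} [Field K] {V : Type u} [AddCommGroup V] [Module K V] {Q : QuadraticForm K V}
  {Ψ : Set V} {N : K} {u v w : V}

open Classical in
/-- The integral form. -/
noncomputable def ip (Q : QuadraticForm K V) (N : K) (u v : V) : ℤ :=
  if v = u then 2 else if v = -u then -2 else if polar Q u v = 0 then 0 else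
    if polar Q u v = N then 1 else -1

theorem ne_zero (h : SL Q Ψ N) (hu : u ∈ Ψ) : u ≠ 0 := fun e =>
  h.ne (by rw [← h.norm u hu, e, map_zero])

theorem neg_ne (h : SL Q Ψ N) (hu : u ∈ Ψ) : -u ≠ u := fun e => by
  have : (2 : K) • u = 0 := by rw [two_smul]; nth_rewrite 1 [← e]; simp
  exact ne_zero h hu ((smul_eq_zero.1 this).resolve_left h.two)

theorem neg_mem (h : SL Q Ψ N) (hu : u ∈ Ψ) : -u ∈ Ψ := by
  rw [← refl_apply_self (Q := Q) (by rw [h.norm u hu]; exact h.ne)]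
  exact h.cl u hu u hu

theorem ip_self (u : V) : ip Q N u u = 2 := by simp [ip]

theorem ip_neg_self (h : SL Q Ψ N) (hu : u ∈ Ψ) : ip Q N u (-u) = -2 := by
  simp [ip, neg_ne h hu]

theorem ip_zero (h : SL Q Ψ N) (hu : u ∈ Ψ) : ip Q N u 0 = 0 := by
  have := ne_zero h hu
  simp [ip, this, this.symm]

theorem neg_N_ne (h : SL Q Ψ N) : -N ≠ N := fun e =>
  mul_ne_zero h.two h.ne (by linear_combination -e)

theorem ip_of (h : SL Q Ψ N) (h1 : v ≠ u) (h2 : v ≠ -u) :
    (polar Q u v = 0 → ip Q N u v = 0) ∧ (polar Q u v = N → ip Q N u v = 1) ∧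
      (polar Q u v = -N → ip Q N u v = -1) :=
  ⟨fun e => by simp [ip, h1, h2, e], fun e => by simp [ip, h1, h2, e, h.ne],
    fun e => by simp [ip, h1, h2, e, h.ne, neg_N_ne h]⟩

theorem ip_cases (h : SL Q Ψ N) (hu : u ∈ Ψ) (hv : v ∈ Ψ) :
    (ip Q N u v = 2 ∧ v = u) ∨ (ip Q N u v = -2 ∧ v = -u) ∨ (v ≠ u ∧ v ≠ -u ∧
      ((ip Q N u v = 0 ∧ polar Q u v = 0) ∨ (ip Q N u v = 1 ∧ polar Q u v = N) ∨
        (ip Q N u v = -1 ∧ polar Q u v = -N))) := by
  by_cases h1 : v = u
  · exact Or.inl ⟨by rw [h1, ip_self], h1⟩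
  by_cases h2 : v = -u
  · exact Or.inr (Or.inl ⟨by rw [h2, ip_neg_self h hu], h2⟩)
  obtain ⟨a, b, c⟩ := ip_of h h1 h2
  refine Or.inr (Or.inr ⟨h1, h2, ?_⟩)
  rcases h.val u hu v hv with e | e | e | e | e
  exacts [Or.inl ⟨a e, e⟩, Or.inr (Or.inl ⟨b e, e⟩), Or.inr (Or.inr ⟨c e, e⟩), absurd e h1,
    absurd e h2]

theorem ip_cast (h : SL Q Ψ N) (hu : u ∈ Ψ) (hv : v ∈ Ψ) : polar Q u v = ip Q N u v * N := by
  rcases ip_cases h hu hv with ⟨a, rfl⟩ | ⟨a, rfl⟩ | ⟨-, -, ⟨a, e⟩ | ⟨a, e⟩ | ⟨a, e⟩⟩ <;>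
    rw [a] <;> simp [*, h.norm _ hu]

theorem ip_neg (h : SL Q Ψ N) (hu : u ∈ Ψ) (hv : v ∈ Ψ) : ip Q N u (-v) = -ip Q N u v := by
  rcases ip_cases h hu hv with ⟨a, rfl⟩ | ⟨a, rfl⟩ | ⟨h1, h2, e⟩
  · rw [a, ip_neg_self h hu]
  · rw [a, neg_neg, ip_self]; rfl
  obtain ⟨a, b, c⟩ := ip_of (Q := Q) (u := u) (v := -v) h (fun e => h2 (by rw [← e, neg_neg]))
    (fun e => h1 (neg_injective e))
  rw [polar_neg_right] at a b c
  rcases e with ⟨e, f⟩ | ⟨e, f⟩ | ⟨e, f⟩ <;> rw [e]
  exacts [a (by rw [f, neg_zero]), c (by rw [f]), b (by rw [f, neg_neg])]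

theorem ip_comm (h : SL Q Ψ N) (hu : u ∈ Ψ) (hv : v ∈ Ψ) : ip Q N v u = ip Q N u v := by
  rcases ip_cases h hu hv with ⟨a, rfl⟩ | ⟨a, rfl⟩ | ⟨h1, h2, e⟩
  · rfl
  · rw [a, ← ip_neg_self h hv, neg_neg]
  obtain ⟨a, b, c⟩ := ip_of (Q := Q) (u := v) (v := u) h h1.symm (fun e => h2 (by rw [e, neg_neg]))
  rw [polar_comm] at a b c
  rcases e with ⟨e, f⟩ | ⟨e, f⟩ | ⟨e, f⟩ <;> rw [e]
  exacts [a f, b f, c f]

theorem ip_neg_left (h : SL Q Ψ N) (hu : u ∈ Ψ) (hv : v ∈ Ψ) : ip Q N (-u) v = -ip Q N u v := by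
  rw [ip_comm h hv (neg_mem h hu), ip_neg h hv hu, ip_comm h hu hv]

theorem ip_m1 (h : SL Q Ψ N) (hu : u ∈ Ψ) (hv : v ∈ Ψ) (e : polar Q u v = -N) (h1 : v ≠ u) :
    ip Q N u v = -1 := by
  refine (ip_of h h1 ?_).2.2 e
  rintro rfl
  rw [polar_neg_right, polar_self', h.norm u hu] at e
  exact h.ne (by linear_combination -e)

theorem polar_of_m1 (h : SL Q Ψ N) (hu : u ∈ Ψ) (hv : v ∈ Ψ) (e : ip Q N u v = -1) :
    polar Q u v = -N := by rw [ip_cast h hu hv, e]; simp

theorem add_mem' (h : SL Q Ψ N) (hu : u ∈ Ψ) (hv : v ∈ Ψ) (e : ip Q N u v = -1) : u + v ∈ Ψ := by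
  have := h.cl u hu v hv
  rwa [refl_apply, polar_of_m1 h hu hv e, h.norm u hu, mul_neg, inv_mul_cancel₀ h.ne, neg_smul,
    one_smul, sub_neg_eq_add, add_comm] at this

theorem ip_add_self (h : SL Q Ψ N) (hu : u ∈ Ψ) (hv : v ∈ Ψ) (e : ip Q N u v = -1) :
    ip Q N u (u + v) = 1 := by
  have h1 := ip_m1 h hu (neg_mem h (add_mem' h hu hv e)) (by
    rw [polar_neg_right, polar_add_right, polar_self', h.norm u hu, polar_of_m1 h hu hv e]; ring)
    (fun f => by
      have hv' : v = (-2 : K) • u := by linear_combination (norm := module) -f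
      have h3 := h.norm v hv
      rw [hv', Q_smul, h.norm u hu] at h3
      have h4 : (-2 : K) = 1 := by
        have : (3 : K) * N = 0 := by linear_combination h3
        linear_combination -(mul_eq_zero.1 this).resolve_right h.ne
      rw [h4, one_smul] at hv'
      rw [hv', ip_self] at e
      omega)
  rw [ip_neg h hu (add_mem' h hu hv e)] at h1
  omega

theorem ip_add_le (h : SL Q Ψ N) (ht : Tri Q Ψ N) (hu : u ∈ Ψ) (hv : v ∈ Ψ) (hw : w ∈ Ψ)
    (e : ip Q N u v = -1) : ip Q N w (u + v) ≤ ip Q N w u + ip Q N w v := by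
  have hs := add_mem' h hu hv e
  have e' : ip Q N v u = -1 := by rw [ip_comm h hu hv, e]
  have s1 := ip_add_self h hu hv e
  have s2 := ip_add_self h hv hu e'
  rw [add_comm] at s2
  by_cases c1 : w = u + v
  · rw [c1, ip_self, ip_comm h hu hs, ip_comm h hv hs, s1, s2]; omega
  by_cases c2 : w = -u
  · rw [c2, ip_neg_left h hu hs, ip_neg_left h hu hu, ip_neg_left h hu hv, ip_self, s1, e]; omega
  by_cases c3 : w = -v
  · rw [c3, ip_neg_left h hv hs, ip_neg_left h hv hu, ip_neg_left h hv hv, ip_self, s2, e']; omega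
  have b1 : ip Q N w (u + v) ≤ 1 := by
    rcases ip_cases h hw hs with ⟨-, a⟩ | a | ⟨-, -, a⟩
    exacts [absurd a.symm c1, by omega, by omega]
  have b2 : ∀ z ∈ Ψ, w ≠ -z → -1 ≤ ip Q N w z := fun z hz c => by
    rcases ip_cases h hw hz with a | ⟨-, a⟩ | ⟨-, -, a⟩
    exacts [by omega, absurd (by rw [a, neg_neg]) c, by omega]
  have b3 := b2 u hu c2
  have b4 := b2 v hv c3
  by_contra hcon
  have k : ((ip Q N w (u + v) - ip Q N w u - ip Q N w v : ℤ) : K) = 0 := by
    have := polar_add_right Q w u v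
    rw [ip_cast h hw hs, ip_cast h hw hu, ip_cast h hw hv] at this
    push_cast
    exact mul_right_cancel₀ h.ne (by linear_combination this)
  rcases (show ip Q N w (u + v) - ip Q N w u - ip Q N w v = 1 ∨
      ip Q N w (u + v) - ip Q N w u - ip Q N w v = 2 ∨
      (ip Q N w (u + v) = 1 ∧ ip Q N w u = -1 ∧ ip Q N w v = -1) by omega) with a | a | ⟨a, b, c⟩
  · rw [a] at k; simp at k
  · rw [a] at k; exact h.two (by exact_mod_cast k)
  rcases ht u hu v hv w hw (polar_of_m1 h hu hv e) (by rw [polar_comm, polar_of_m1 h hw hu b])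
    (by rw [polar_comm, polar_of_m1 h hw hv c]) with f | f | f | f
  · rw [f, ip_self] at e; omega
  · rw [f, ip_self] at b; omega
  · rw [f, ip_self] at c; omega
  · rw [eq_neg_of_add_eq_zero_left f, ip_neg_self h hw] at a; omega

theorem ip_add (h : SL Q Ψ N) (ht : Tri Q Ψ N) (hu : u ∈ Ψ) (hv : v ∈ Ψ) (hw : w ∈ Ψ)
    (e : ip Q N u v = -1) : ip Q N w (u + v) = ip Q N w u + ip Q N w v := by
  have a := ip_add_le h ht hu hv hw e
  have b := ip_add_le h ht hu hv (neg_mem h hw) e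
  rw [ip_neg_left h hw hu, ip_neg_left h hw hv, ip_neg_left h hw (add_mem' h hu hv e)] at b
  omega

/-! ### Chains -/

variable {n : ℕ} {x : Fin n → V}

/-- All differences are roots. -/
def Df (Ψ : Set V) (x : Fin n → V) : Prop := ∀ i j, i ≠ j → x i - x j ∈ Ψ

/-- A chain. -/
structure Ch (Ψ : Set V) (x : Fin n → V) : Prop where
  df : Df Ψ x
  ne : ∀ i j k, i ≠ j → j ≠ k → i ≠ k → x j - x k ≠ x i - x j

theorem Df.pol (h : SL Q Ψ N) (hx : Df Ψ x) {i j k : Fin n} (a : i ≠ j) (b : j ≠ k) (c : i ≠ k) :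
    polar Q (x i - x j) (x j - x k) = -N := by
  have := Q_add Q (x i - x j) (x j - x k)
  rw [sub_add_sub_cancel, h.norm _ (hx _ _ a), h.norm _ (hx _ _ b), h.norm _ (hx _ _ c)] at this
  linear_combination -this

theorem Df.ch (h : SL Q Ψ N) (hx : Df Ψ x) (hn : 4 ≤ n) : Ch Ψ x := ⟨hx, fun i j k a b c e => by
  obtain ⟨l, hl⟩ : ∃ l, l ∉ ({i, j, k} : Finset (Fin n)) := by
    by_contra hcon
    push Not at hcon
    have := Finset.card_le_card (fun l _ => hcon l : Finset.univ ⊆ ({i, j, k} : Finset (Fin n)))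
    have := Finset.card_le_three (a := i) (b := j) (c := k)
    simp at *; omega
  simp only [Finset.mem_insert, Finset.mem_singleton, not_or] at hl
  have h1 := hx.pol h a (Ne.symm hl.2.1) (Ne.symm hl.1)
  have h2 := hx.pol h b.symm (Ne.symm hl.2.1) (Ne.symm hl.2.2)
  rw [← neg_sub (x j) (x k), e, polar_neg_left, h1, neg_neg] at h2
  exact neg_N_ne h h2.symm⟩

theorem Ch.comp {m : ℕ} (hx : Ch Ψ x) {f : Fin m → Fin n} (hf : Function.Injective f) :
    Ch Ψ (x ∘ f) := ⟨fun _ _ a => hx.df _ _ (hf.ne a),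
  fun _ _ _ a b c => hx.ne _ _ _ (hf.ne a) (hf.ne b) (hf.ne c)⟩

theorem Ch.ip1 (h : SL Q Ψ N) (hx : Ch Ψ x) {i j k : Fin n} (a : i ≠ j) (b : j ≠ k) (c : i ≠ k) :
    ip Q N (x i - x j) (x j - x k) = -1 :=
  ip_m1 h (hx.df _ _ a) (hx.df _ _ b) (hx.df.pol h a b c) (hx.ne _ _ _ a b c)

theorem Df.swap (h : SL Q Ψ N) (hx : Df Ψ x) (hw : w ∈ Ψ) (i j : Fin n) :
    ip Q N w (x j - x i) = -ip Q N w (x i - x j) := by
  by_cases a : i = j
  · rw [a, sub_self, ip_zero h hw]; rfl
  · rw [← neg_sub, ip_neg h hw (hx _ _ a)]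

theorem Df.cast (h : SL Q Ψ N) (hx : Df Ψ x) (hw : w ∈ Ψ) (i j : Fin n) :
    polar Q w (x i - x j) = ip Q N w (x i - x j) * N := by
  by_cases a : i = j
  · rw [a, sub_self, ip_zero h hw]; simp
  · exact ip_cast h hw (hx _ _ a)

theorem Ch.sub (h : SL Q Ψ N) (ht : Tri Q Ψ N) (hx : Ch Ψ x) (hw : w ∈ Ψ) (i j o : Fin n) :
    ip Q N w (x i - x j) = ip Q N w (x i - x o) - ip Q N w (x j - x o) := by
  by_cases a : i = j
  · rw [a, sub_self, sub_self, ip_zero h hw]
  by_cases b : j = o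
  · rw [b, sub_self, ip_zero h hw, sub_zero]
  by_cases c : i = o
  · rw [c, sub_self, ip_zero h hw, zero_sub, hx.df.swap h hw]
  have := ip_add h ht (hx.df _ _ a) (hx.df _ _ b) hw (hx.ip1 h a b c)
  rw [sub_add_sub_cancel] at this
  omega

/-- The indicator function. -/
def χ (T : Finset (Fin n)) (i : Fin n) : ℤ := if i ∈ T then 1 else 0

theorem Ch.ip_diff (h : SL Q Ψ N) (ht : Tri Q Ψ N) (hx : Ch Ψ x) {i j : Fin n} (a : i ≠ j)
    (k l : Fin n) : ip Q N (x i - x j) (x k - x l) =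
      (χ {i} k - χ {j} k) - (χ {i} l - χ {j} l) := by
  have key : ∀ k, ip Q N (x i - x j) (x k - x j) = 1 + (χ {i} k - χ {j} k) := fun k => by
    by_cases b : k = j
    · rw [b, sub_self, ip_zero h (hx.df _ _ a)]; simp [χ, a.symm]
    by_cases c : k = i
    · rw [c, ip_self]; simp [χ, a]
    rw [hx.df.swap h (hx.df _ _ a), hx.ip1 h a (Ne.symm b) (Ne.symm c)]; simp [χ, b, c]
  rw [hx.sub h ht (hx.df _ _ a) k l j, key, key]; ring

variable (Q N) in
/-- `w` has type `T`. -/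
def Ty (x : Fin n → V) (w : V) (T : Finset (Fin n)) : Prop :=
  ∀ i j, ip Q N w (x i - x j) = χ T i - χ T j

theorem exists_ty (h : SL Q Ψ N) (ht : Tri Q Ψ N) (hx : Ch Ψ x) (hn : 0 < n) (hw : w ∈ Ψ)
    (hw' : w ∉ RA x) : ∃ T, Ty Q N x w T := by
  have : Nonempty (Fin n) := ⟨⟨0, hn⟩⟩
  obtain ⟨m, hm⟩ := Finite.exists_min fun i => ip Q N w (x i - x ⟨0, hn⟩)
  have key : ∀ i, ip Q N w (x i - x m) = χ (Finset.univ.filter fun i => ip Q N w (x i - x m) = 1) i :=
    fun i => by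
      have h0 := hx.sub h ht hw i m ⟨0, hn⟩
      have h1 := hm i
      by_cases a : i = m
      · simp [χ, a, ip_zero h hw]
      rcases ip_cases h hw (hx.df _ _ a) with ⟨-, e⟩ | e | ⟨-, -, e | e | e⟩
      · exact absurd ⟨i, m, a, e.symm⟩ hw'
      · omega
      · simp [χ, e.1]
      · simp [χ, e.1]
      · omega
  exact ⟨_, fun i j => by rw [hx.sub h ht hw i j m, key, key]⟩

theorem Ty.neg (h : SL Q Ψ N) (hx : Df Ψ x) (hw : w ∈ Ψ) {T : Finset (Fin n)} (hT : Ty Q N x w T) :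
    Ty Q N x (-w) Tᶜ := fun i j => by
  by_cases a : i = j
  · rw [a, sub_self, sub_self, ip_zero h (neg_mem h hw)]
  rw [ip_neg_left h hw (hx _ _ a), hT]
  by_cases b : i ∈ T <;> by_cases c : j ∈ T <;> simp [χ, b, c]

theorem Ty.move (h : SL Q Ψ N) (ht : Tri Q Ψ N) (hx : Ch Ψ x) (T' : Finset (Fin n)) (d : ℕ) :
    ∀ (w : V) (T : Finset (Fin n)), w ∈ Ψ → Ty Q N x w T → T.card = T'.card → (T \ T').card = d →
      w + (∑ i ∈ T', x i - ∑ i ∈ T, x i) ∈ Ψ ∧ Ty Q N x (w + (∑ i ∈ T', x i - ∑ i ∈ T, x i)) T' ∧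
      ∀ v ∈ Ψ, ∀ S, Ty Q N x v S → ip Q N v (w + (∑ i ∈ T', x i - ∑ i ∈ T, x i)) =
        ip Q N v w + (∑ i ∈ T', χ S i - ∑ i ∈ T, χ S i) := by
  induction d with
  | zero =>
    intro w T hw hT hc hd
    obtain rfl : T = T' := Finset.eq_of_subset_of_card_le
      (Finset.sdiff_eq_empty_iff_subset.1 (Finset.card_eq_zero.1 hd)) hc.ge
    simpa using ⟨hw, hT⟩
  | succ d ih =>
    intro w T hw hT hc hd
    obtain ⟨i, hi⟩ : (T \ T').Nonempty := Finset.card_pos.1 (by omega)
    obtain ⟨j, hj⟩ : (T' \ T).Nonempty := Finset.card_pos.1 (by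
      rw [← Finset.card_sdiff_comm hc]; omega)
    rw [Finset.mem_sdiff] at hi hj
    have hji : j ≠ i := fun e => hi.2 (e ▸ hj.1)
    have hr := hx.df j i hji
    have e : ip Q N w (x j - x i) = -1 := by rw [hT]; simp [χ, hi.1, hj.2]
    have hj' : j ∉ T.erase i := fun e => hj.2 (Finset.mem_of_mem_erase e)
    have sum : ∀ {M : Type u} [AddCommGroup M] (f : Fin n → M),
        ∑ k ∈ insert j (T.erase i), f k = ∑ k ∈ T, f k + (f j - f i) := fun f => by
      rw [Finset.sum_insert hj', ← Finset.add_sum_erase T f hi.1]; abel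
    have sum' : ∀ f : Fin n → ℤ,
        ∑ k ∈ insert j (T.erase i), f k = ∑ k ∈ T, f k + (f j - f i) := fun f => by
      rw [Finset.sum_insert hj', ← Finset.add_sum_erase T f hi.1]; abel
    have hw1 := add_mem' h hw hr e
    obtain ⟨a, b, c⟩ := ih (w + (x j - x i)) (insert j (T.erase i)) hw1 (fun k l => by
      by_cases hkl : k = l
      · rw [hkl, sub_self, sub_self, ip_zero h hw1]
      have hs := hx.df k l hkl
      rw [ip_comm h hs hw1, ip_add h ht hw hr hs e, ip_comm h hw hs, ip_comm h hr hs, hT,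
        hx.ip_diff h ht hji]
      have key : ∀ k, χ (insert j (T.erase i)) k = χ T k + (χ {j} k - χ {i} k) := fun k => by
        by_cases a : k = j
        · simp [χ, a, hj.2, hji]
        by_cases b : k = i
        · simp [χ, b, hi.1, hji.symm]
        simp [χ, a, b]
      rw [key, key]; ring)
      (by rw [Finset.card_insert_of_notMem hj', Finset.card_erase_add_one hi.1, hc])
      (by
        rw [Finset.insert_sdiff_of_mem _ hj.1, Finset.erase_sdiff_comm,
          Finset.card_erase_of_mem (Finset.mem_sdiff.2 hi), hd]; rfl)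
    have eq : w + (x j - x i) + (∑ k ∈ T', x k - ∑ k ∈ insert j (T.erase i), x k) =
        w + (∑ k ∈ T', x k - ∑ k ∈ T, x k) := by rw [sum]; abel
    rw [eq] at a b c
    refine ⟨a, b, fun v hv S hS => ?_⟩
    rw [c v hv S hS, ip_add h ht hw hr hv e, hS, sum']; ring

/-- A root of type one prolongs the chain. -/
theorem Df.ext (h : SL Q Ψ N) (hx : Df Ψ x) (hn : 3 ≤ n) (hu : u ∈ Ψ) {o : Fin n}
    (e : ∀ j, j ≠ o → ip Q N u (x o - x j) = 1) : ∃ y : Fin (n + 1) → V, Ch Ψ y := by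
  have key : ∀ j, x j - (x o - u) ∈ Ψ := fun j => by
    by_cases a : j = o
    · rwa [a, sub_sub_cancel]
    · have := add_mem' h hu (hx j o a) (by rw [hx.swap h hu, e j a])
      rwa [show x j - (x o - u) = u + (x j - x o) by abel]
  refine ⟨Fin.cons (x o - u) x, Df.ch h (fun i j a => ?_) (by omega)⟩
  induction i using Fin.cases with
  | zero =>
    induction j using Fin.cases with
    | zero => exact absurd rfl a
    | succ j => simpa using neg_mem h (key j)
  | succ i =>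
    induction j using Fin.cases with
    | zero => simpa using key i
    | succ j => simpa using hx i j fun e => a (by rw [e])

theorem exists_ch3 (h : SL Q Ψ N) : ∃ x : Fin 3 → V, Ch Ψ x := by
  obtain ⟨u, hu⟩ := h.nonempty
  obtain ⟨v, hv, e⟩ : ∃ v ∈ Ψ, ip Q N u v = -1 := by
    by_contra hcon
    push Not at hcon
    rcases h.irr (K ∙ u) (fun v hv => by
      rcases ip_cases h hu hv with ⟨-, rfl⟩ | ⟨-, rfl⟩ | ⟨-, -, e | e | e⟩
      · exact Or.inl (Submodule.mem_span_singleton_self _)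
      · exact Or.inl (Submodule.neg_mem _ (Submodule.mem_span_singleton_self _))
      · exact Or.inr (mem_perp_span_singleton.2 e.2)
      · exact absurd (by rw [ip_neg h hu hv, e.1]) (hcon _ (neg_mem h hv))
      · exact absurd e.1 (hcon _ hv)) with e | e
    · exact ne_zero h hu (Submodule.span_singleton_eq_bot.1 e)
    · have := finrank_span_singleton (K := K) (ne_zero h hu)
      rw [e, finrank_top, h.dim] at this
      omega
  have hs := add_mem' h hu hv e
  have s1 := ip_add_self h hu hv e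
  have s2 := ip_add_self h hv hu (by rw [ip_comm h hu hv, e])
  rw [add_comm] at s2
  have n1 : v ≠ u := fun f => by rw [f, ip_self] at e; omega
  have n2 : u + v ≠ -u := fun f => by rw [f, ip_neg_self h hu] at s1; omega
  have n3 : u + v ≠ -v := fun f => by rw [f, ip_neg_self h hv] at s2; omega
  refine ⟨![u, 0, -v], fun i j a => ?_, fun i j k a b c f => ?_⟩
  · fin_cases i <;> fin_cases j <;> first | exact absurd rfl a | skip
    · simpa using hu
    · simpa using hs
    · simpa using neg_mem h hu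
    · simpa using hv
    · simpa [sub_eq_add_neg] using neg_mem h hs
    · simpa using neg_mem h hv
  · fin_cases i <;> fin_cases j <;> fin_cases k <;>
      first | exact absurd rfl a | exact absurd rfl b | exact absurd rfl c | skip
    all_goals simp only [Fin.zero_eta, Fin.mk_one, Fin.reduceFinMk, Matrix.cons_val] at f
    · exact n1 (by linear_combination (norm := module) f)
    · exact n3 (by linear_combination (norm := module) -f)
    · exact n2 (by linear_combination (norm := module) f)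
    · exact n3 (by linear_combination (norm := module) -f)
    · exact n2 (by linear_combination (norm := module) f)
    · exact n1 (by linear_combination (norm := module) f)

end H54.O7S
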