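/- O7, job S3: simply laced systems in dimension seven. -/
import Cfsg.Agent.H54.O7S3a

set_option autoImplicit false
set_option linter.unusedSectionVars false

namespace H54.O7S

open H56 H31.O7 QuadraticMap Module

universe u

variable {K : Type u} [Field K] {V : Type u} [AddCommGroup V] [Module K V] {Q : QuadraticForm K V}
  {Ψ : Set V} {N : K} {u v w : V} {n : ℕ} {x : Fin n → V}

theorem polar_comb {z : V} {f c : Fin n → K} (hf : ∀ i j, polar Q z (x i - x j) = (f i - f j) * N)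
    (hc : ∑ i, c i = 0) : polar Q z (∑ i, c i • x i) = (∑ i, c i * f i) * N := by
  rcases Nat.eq_zero_or_pos n with rfl | hn
  · simp
  let o : Fin n := ⟨0, hn⟩
  have e : ∑ i, c i • x i = ∑ i, c i • (x i - x o) := by
    simp only [smul_sub, Finset.sum_sub_distrib, ← Finset.sum_smul, hc, zero_smul, sub_zero]
  rw [e, ← polarBilin_apply_apply, map_sum]
  simp only [map_smul, polarBilin_apply_apply, hf, smul_eq_mul]
  have : ∑ i, c i * ((f i - f o) * N) = (∑ i, c i * f i) * N - (∑ i, c i) * (f o * N) := by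
    rw [Finset.sum_mul, Finset.sum_mul, ← Finset.sum_sub_distrib]
    exact Finset.sum_congr rfl fun _ _ => by ring
  rw [this, hc, zero_mul, sub_zero]

theorem Ch.comb (h : SL Q Ψ N) (ht : Tri Q Ψ N) (hx : Ch Ψ x) {c : Fin n → K} (hc : ∑ i, c i = 0)
    (a b : Fin n) : polar Q (∑ i, c i • x i) (x a - x b) = (c a - c b) * N := by
  by_cases e : a = b
  · simp [e]
  rw [polar_comm, polar_comb (N := N) (f := fun k => ((χ {a} k - χ {b} k : ℤ) : K)) (fun i j => by
    rw [hx.df.cast h (hx.df _ _ e), hx.ip_diff h ht e]; push_cast; ring) hc]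
  simp [χ, mul_sub, Finset.sum_sub_distrib]

theorem Ty.cast (h : SL Q Ψ N) (hx : Df Ψ x) (hw : w ∈ Ψ) {T : Finset (Fin n)} (hT : Ty Q N x w T)
    (i j : Fin n) : polar Q w (x i - x j) = ((χ T i : K) - χ T j) * N := by
  rw [hx.cast h hw, hT]; push_cast; ring

theorem Ch.indep {s : ℕ} {x : Fin (s + 1) → V} (h : SL Q Ψ N) (ht : Tri Q Ψ N) (hx : Ch Ψ x)
    (hs : (s : K) + 1 ≠ 0) : LinearIndependent K fun i : Fin s => x i.succ - x 0 := by
  rw [Fintype.linearIndependent_iff]
  intro g hg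
  have e : ∑ i, (Fin.cons (-∑ i, g i) g : Fin (s + 1) → K) i • x i = 0 := by
    rw [← hg, Fin.sum_univ_succ]
    simp only [Fin.cons_zero, Fin.cons_succ, smul_sub, Finset.sum_sub_distrib, ← Finset.sum_smul,
      neg_smul]
    abel
  have k : ∀ i, g i = -∑ i, g i := fun i => by
    have := hx.comb h ht (c := Fin.cons (-∑ i, g i) g) (by simp [Fin.sum_univ_succ]) i.succ 0
    rw [e, polar_zero_left] at this
    simpa [add_eq_zero_iff_eq_neg] using (mul_eq_zero.1 this.symm).resolve_right h.ne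
  have k2 : ∑ i, g i = s * -∑ i, g i := by
    conv_lhs => rw [Finset.sum_congr rfl fun i _ => k i]
    simp
  have k3 : ∑ i, g i = 0 := (mul_eq_zero.1 (show ((s : K) + 1) * ∑ i, g i = 0 by
    linear_combination k2)).resolve_left hs
  intro i
  rw [k i, k3, neg_zero]

variable [FiniteDimensional K V]

theorem Ch.le (h : SL Q Ψ N) (ht : Tri Q Ψ N) (hx : Ch Ψ x) {s : ℕ} (hn : s + 1 ≤ n)
    (hs : (s : K) + 1 ≠ 0) : s ≤ 7 := by
  simpa [h.dim] using ((hx.comp (Fin.castLE_injective hn)).indep h ht hs).fintype_card_le_finrank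

theorem Ch.nine (h : SL Q Ψ N) (ht : Tri Q Ψ N) (hx : Ch Ψ x) (hn : 9 ≤ n) :
    (3 : K) = 0 ∧ n = 9 := by
  have h3 : (3 : K) = 0 := by
    by_contra h3
    have := hx.le h ht (s := 8) hn (fun e => mul_ne_zero h3 h3 (by
      push_cast at e; linear_combination e))
    omega
  refine ⟨h3, ?_⟩
  by_contra hcon
  have := hx.le h ht (s := 9) (by omega) (fun e => one_ne_zero (α := K) (by
    push_cast at e; linear_combination e - 3 * h3))
  omega

omit [FiniteDimensional K V] in
theorem eight_ne (h : SL Q Ψ N) : (8 : K) ≠ 0 := fun e =>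
  pow_ne_zero 3 h.two (by linear_combination e)

omit [FiniteDimensional K V] in
theorem Ch.eq_zero (h : SL Q Ψ N) (ht : Tri Q Ψ N) (hx : Ch Ψ x) (hn : 7 + 1 ≤ n) {z : V}
    (hz : ∀ i j, polar Q z (x i - x j) = 0) : z = 0 := by
  have hi := (hx.comp (Fin.castLE_injective hn)).indep h ht (fun e => eight_ne h (by
    push_cast at e; linear_combination e))
  have hs := hi.span_eq_top_of_card_eq_finrank (by simp [h.dim])
  refine eq_zero_of_polar h.nd fun y => ?_
  have hy : z ∈ perp Q (Submodule.span K (Set.range fun i : Fin 7 =>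
      (x ∘ Fin.castLE hn) i.succ - (x ∘ Fin.castLE hn) 0)) :=
    mem_perp_span.2 (by rintro _ ⟨i, rfl⟩; rw [polar_comm]; exact hz _ _)
  exact mem_perp'.1 hy y (by rw [hs]; trivial)

/-- For long chains a root is determined by its type. -/
theorem Ty.formula (h : SL Q Ψ N) (ht : Tri Q Ψ N) (hx : Ch Ψ x) (hn : 8 ≤ n) (hw : w ∈ Ψ)
    {T : Finset (Fin n)} (hT : Ty Q N x w T) (a b : K) (hab : a * T.card = n * b) :
    a • w = ∑ i, (a * χ T i - b) • x i ∧ 2 * a = T.card * (a - b) := by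
  have s1 : ∑ i, (χ T i : K) = T.card := by simp [χ]
  have hc : ∑ i, (a * χ T i - b) = 0 := by
    rw [Finset.sum_sub_distrib, ← Finset.mul_sum, s1, hab]; simp
  have e : a • w = ∑ i, (a * χ T i - b) • x i := sub_eq_zero.1 (hx.eq_zero h ht hn fun i j => by
    rw [polar_sub_left, hx.comb h ht hc, polar_smul_left, hT.cast h hx.df hw, smul_eq_mul]; ring)
  refine ⟨e, mul_right_cancel₀ h.ne ?_⟩
  have := polar_comb (hT.cast h hx.df hw) hc
  rw [← e, polar_smul_right, polar_self', h.norm w hw, smul_eq_mul] at this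
  have s2 : ∑ i, (a * χ T i - b) * (χ T i : K) = (a - b) * ∑ i, (χ T i : K) := by
    rw [Finset.mul_sum]
    exact Finset.sum_congr rfl fun i _ => by by_cases c : i ∈ T <;> simp [χ, c]
  rw [s2, s1] at this
  linear_combination this

omit [FiniteDimensional K V] in
theorem RA_subset (hx : Df Ψ x) : RA x ⊆ Ψ := by
  rintro _ ⟨i, j, a, rfl⟩; exact hx i j a

/-- No longer chain. -/
def Mx (Ψ : Set V) (n : ℕ) : Prop := ∀ y : Fin (n + 1) → V, ¬ Ch Ψ y

omit [FiniteDimensional K V] in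
theorem Ty.not_one (h : SL Q Ψ N) (hx : Df Ψ x) (hn : 3 ≤ n) (hm : Mx Ψ n) (hw : w ∈ Ψ)
    {T : Finset (Fin n)} (hT : Ty Q N x w T) : T.card ≠ 1 ∧ T.card + 1 ≠ n := by
  have key : ∀ w ∈ Ψ, ∀ T, Ty Q N x w T → T.card ≠ 1 := fun w hw T hT e => by
    obtain ⟨o, rfl⟩ := Finset.card_eq_one.1 e
    obtain ⟨y, hy⟩ := hx.ext h hn hw (o := o) fun j a => by rw [hT]; simp [χ, a]
    exact hm y hy
  refine ⟨key w hw T hT, fun e => key _ (neg_mem h hw) _ (hT.neg h hx hw) ?_⟩
  rw [Finset.card_compl, Fintype.card_fin]; omega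

theorem case9 (h : SL Q Ψ N) (ht : Tri Q Ψ N) (hx : Ch Ψ x) (hn : 9 ≤ n) : Ψ = RA x := by
  obtain ⟨h3, rfl⟩ := hx.nine h ht hn
  refine Set.Subset.antisymm (fun w hw => ?_) (RA_subset hx.df)
  by_contra hw'
  obtain ⟨T, hT⟩ := exists_ty h ht hx (by omega) hw hw'
  have a := (hT.formula h ht hx (by omega) hw 9 T.card (by push_cast; ring)).2
  have b : (T.card : K) = 0 := pow_eq_zero_iff (two_ne_zero) |>.1 (by
    linear_combination a + (3 * T.card - 6) * h3)
  have c := (hT.formula h ht hx (by omega) hw 1 0 (by rw [b]; ring)).2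
  exact h.two (by rw [b] at c; linear_combination c)

theorem four_formula {x : Fin 8 → V} (h : SL Q Ψ N) (ht : Tri Q Ψ N) (hx : Ch Ψ x) (hw : w ∈ Ψ)
    {T : Finset (Fin 8)} (hT : Ty Q N x w T) (e : T.card = 4) :
    (2 : K) • w = ∑ i, if i ∈ T then x i else -x i := by
  rw [(hT.formula h ht hx le_rfl hw 2 1 (by rw [e]; norm_num)).1]
  exact Finset.sum_congr rfl fun i _ => by by_cases c : i ∈ T <;> norm_num [χ, c]

theorem case8 {x : Fin 8 → V} (h : SL Q Ψ N) (ht : Tri Q Ψ N) (hx : Ch Ψ x) (hm : Mx Ψ 8) :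
    Ψ = RA x ∨ Ψ = RE (K := K) x := by
  have key : ∀ w ∈ Ψ, w ∉ RA x → ∃ T, Ty Q N x w T ∧ T.card = 4 := fun w hw hw' => by
    obtain ⟨T, hT⟩ := exists_ty h ht hx (by omega) hw hw'
    refine ⟨T, hT, ?_⟩
    have a := (hT.formula h ht hx le_rfl hw 8 T.card (by push_cast; ring)).2
    have b := hT.not_one h hx.df (by omega) hm hw
    have c : T.card ≤ 8 := by simpa using T.card_le_univ
    have h16 : (16 : K) ≠ 0 := fun e => pow_ne_zero 4 h.two (by linear_combination e)
    have h4 : (4 : K) ≠ 0 := fun e => pow_ne_zero 2 h.two (by linear_combination e)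
    generalize T.card = k at a b c
    interval_cases k <;> push_cast at a
    · exact absurd (by linear_combination a) h16
    · omega
    · exact absurd (by linear_combination a) h4
    · exact absurd (by linear_combination a) (one_ne_zero (α := K))
    · rfl
    · exact absurd (by linear_combination a) (one_ne_zero (α := K))
    · exact absurd (by linear_combination a) h4
    · omega
    · exact absurd (by linear_combination a) h16
  by_cases hA : Ψ ⊆ RA x
  · exact Or.inl (Set.Subset.antisymm hA (RA_subset hx.df))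
  obtain ⟨w, hw, hw'⟩ := Set.not_subset.1 hA
  obtain ⟨T, hT, e⟩ := key w hw hw'
  refine Or.inr (Set.Subset.antisymm (fun v hv => ?_) ?_)
  · by_cases hv' : v ∈ RA x
    · exact Or.inl hv'
    obtain ⟨S, hS, f⟩ := key v hv hv'
    exact Or.inr ⟨S, f, four_formula h ht hx hv hS f⟩
  rintro v (hv | ⟨S, f, hv⟩)
  · exact RA_subset hx.df hv
  obtain ⟨a, b, -⟩ := Ty.move h ht hx S _ w T hw hT (e.trans f.symm) rfl
  rwa [smul_right_injective V h.two (hv.trans (four_formula h ht hx a b f).symm)]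

/-- Type two: a `D`-frame. -/
theorem caseD (h : SL Q Ψ N) (ht : Tri Q Ψ N) (hx : Ch Ψ x) (hn : 4 ≤ n) (hn7 : n ≤ 7)
    (hm : Mx Ψ n) (hw : w ∈ Ψ) {T : Finset (Fin n)} (hT : Ty Q N x w T) (e2 : T.card = 2) :
    ∃ e : Fin 7 → V, (∀ i, 2 * Q (e i) = N) ∧ (∀ i j, i ≠ j → polar Q (e i) (e j) = 0) ∧
      Ψ = RD e := by
  let e : Fin n → V := fun i => x i + (2 : K)⁻¹ • (w - ∑ i ∈ T, x i)
  have hd : ∀ i j, e i - e j = x i - x j := fun i j => by simp [e]
  have hp : ∀ i j, i ≠ j → e i + e j ∈ Ψ ∧ Ty Q N x (e i + e j) {i, j} := fun i j a => by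
    obtain ⟨b, c, -⟩ := Ty.move h ht hx {i, j} _ w T hw hT (by rw [e2, Finset.card_pair a]) rfl
    have : w + (∑ k ∈ {i, j}, x k - ∑ k ∈ T, x k) = e i + e j := by
      have h2 : (2 : K)⁻¹ + 2⁻¹ = 1 := by have := h.two; field_simp; ring
      rw [Finset.sum_pair a]
      linear_combination (norm := module) -h2 • (w - ∑ i ∈ T, x i)
    exact this ▸ ⟨b, c⟩
  have hq : ∀ i j, i ≠ j → polar Q (e i) (e j) = 0 ∧ Q (e i) + Q (e j) = N := fun i j a => by
    have a1 := h.norm _ (hp i j a).1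
    have a2 := h.norm _ (hx.df i j a)
    rw [← hd, Q_sub] at a2
    rw [Q_add] at a1
    exact ⟨mul_left_cancel₀ h.two (by linear_combination a1 - a2),
      mul_left_cancel₀ h.two (by linear_combination a1 + a2)⟩
  have two : ∀ i : Fin n, ∃ j k, i ≠ j ∧ i ≠ k ∧ j ≠ k := fun i => by
    obtain ⟨j, hj, k, hk, a⟩ := Finset.one_lt_card.1 (show 1 < (Finset.univ.erase i).card by
      simp; omega)
    exact ⟨j, k, (Finset.ne_of_mem_erase hj).symm, (Finset.ne_of_mem_erase hk).symm, a⟩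
  have hN : ∀ i, 2 * Q (e i) = N := fun i => by
    obtain ⟨j, k, a, b, c⟩ := two i
    linear_combination (hq i j a).2 + (hq i k b).2 - (hq j k c).2
  have orth : ∀ u ∈ Ψ, (∀ i j, i ≠ j → u ≠ e i - e j ∧ u ≠ e i + e j ∧ u ≠ -(e i + e j)) →
      ∀ i, polar Q u (e i) = 0 := by
    have pos : ∀ u ∈ Ψ, (∀ i j, i ≠ j → u ≠ e i - e j ∧ u ≠ e i + e j) → ∀ i j, i ≠ j →
        ip Q N u (x i - x j) + ip Q N u (e i + e j) ≤ 0 := fun u hu hne i j a => by
      by_contra hcon
      have one : ∀ k, k ≠ i → ip Q N u (x i - x k) = 1 ∨ ip Q N u (e i + e k) = 1 := fun k b => by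
        have c : ip Q N u (x i - x k) + ip Q N u (e i + e k) =
            ip Q N u (x i - x j) + ip Q N u (e i + e j) := by
          by_cases d : k = j
          · rw [d]
          have := ip_add h ht (hp i j a).1 (hx.df k j d) hu (by
            rw [(hp i j a).2]; simp [χ, b, d])
          rw [show e i + e j + (x k - x j) = e i + e k by rw [← hd]; abel] at this
          rw [this, hx.sub h ht hu i k j]; ring
        have c1 : ip Q N u (x i - x k) ≤ 1 := by
          rcases ip_cases h hu (hx.df i k b.symm) with ⟨-, f⟩ | f | ⟨-, -, f⟩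
          exacts [absurd (f.symm.trans (hd i k).symm) (hne i k b.symm).1, by omega, by omega]
        have c2 : ip Q N u (e i + e k) ≤ 1 := by
          rcases ip_cases h hu (hp i k b.symm).1 with ⟨-, f⟩ | f | ⟨-, -, f⟩
          exacts [absurd f.symm (hne i k b.symm).2, by omega, by omega]
        omega
      let y : Fin n → V := fun k => if k = i ∨ ip Q N u (x i - x k) = 1 then e k else -e k
      have hy : Df Ψ y := fun k l b => by
        simp only [y]
        split_ifs
        · rw [hd]; exact hx.df k l b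
        · rw [sub_neg_eq_add]; exact (hp k l b).1
        · rw [sub_eq_add_neg, ← neg_add]; exact neg_mem h (hp k l b).1
        · rw [neg_sub_neg, hd]; exact hx.df l k b.symm
      obtain ⟨z, hz⟩ := hy.ext h (by omega) hu (o := i) fun k b => by
        simp only [y, true_or, if_true, b, false_or]
        split_ifs with c
        · rw [hd, c]
        · rw [sub_neg_eq_add]; exact (one k b).resolve_left c
      exact hm z hz
    intro u hu hne i
    obtain ⟨j, -, a, -⟩ := two i
    have b1 := pos u hu (fun i j a => ⟨(hne i j a).1, (hne i j a).2.1⟩) i j a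
    have b2 := pos (-u) (neg_mem h hu) (fun i j a =>
      ⟨fun f => (hne j i a.symm).1 (by rw [← neg_sub, ← f, neg_neg]),
        fun f => (hne i j a).2.2 (by rw [← f, neg_neg])⟩) i j a
    rw [ip_neg_left h hu (hx.df i j a), ip_neg_left h hu (hp i j a).1] at b2
    have b3 : ((ip Q N u (x i - x j) + ip Q N u (e i + e j) : ℤ) : K) = 0 := by
      rw [le_antisymm b1 (by omega), Int.cast_zero]
    have c1 := ip_cast h hu (hx.df i j a)
    have c2 := ip_cast h hu (hp i j a).1
    rw [← hd, polar_sub_right, hd] at c1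
    rw [polar_add_right] at c2
    push_cast at b3
    exact mul_left_cancel₀ h.two (by linear_combination c1 + c2 + N * b3)
  have mem : ∀ i, e i ∈ Submodule.span K (Set.range e) := fun i => Submodule.subset_span ⟨i, rfl⟩
  have top : Submodule.span K (Set.range e) = ⊤ := by
    refine (h.irr _ fun u hu => ?_).resolve_left fun f => ?_
    · by_cases c : ∀ i j, i ≠ j → u ≠ e i - e j ∧ u ≠ e i + e j ∧ u ≠ -(e i + e j)
      · exact Or.inr (mem_perp_span.2 (by
          rintro _ ⟨i, rfl⟩; rw [polar_comm]; exact orth u hu c i))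
      · push Not at c
        obtain ⟨i, j, -, c⟩ := c
        by_cases c1 : u = e i - e j
        · exact Or.inl (c1 ▸ sub_mem (mem i) (mem j))
        by_cases c2 : u = e i + e j
        · exact Or.inl (c2 ▸ add_mem (mem i) (mem j))
        exact Or.inl (c c1 c2 ▸ Submodule.neg_mem _ (add_mem (mem i) (mem j)))
    · have := hN ⟨0, by omega⟩
      rw [show e ⟨0, by omega⟩ = 0 from (Submodule.mem_bot K).1 (f ▸ mem _), map_zero,
        mul_zero] at this
      exact h.ne this.symm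
  obtain rfl : n = 7 := by
    have := finrank_range_le_card (R := K) e
    rw [Set.finrank, top, finrank_top, h.dim, Fintype.card_fin] at this
    omega
  refine ⟨e, hN, fun i j a => (hq i j a).1, Set.Subset.antisymm (fun u hu => ?_) ?_⟩
  · by_contra c
    refine ne_zero h hu (eq_zero_of_polar h.nd fun y => mem_perp'.1 (mem_perp_span.2 ?_) y
      (top ▸ Submodule.mem_top))
    rintro _ ⟨i, rfl⟩
    rw [polar_comm]
    exact orth u hu (fun i j a => ⟨fun f => c ⟨i, j, a, Or.inl f⟩,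
      fun f => c ⟨i, j, a, Or.inr (Or.inl f)⟩, fun f => c ⟨i, j, a, Or.inr (Or.inr f)⟩⟩) i
  · rintro _ ⟨i, j, a, rfl | rfl | rfl⟩
    exacts [hd i j ▸ hx.df i j a, (hp i j a).1, neg_mem h (hp i j a).1]

omit [FiniteDimensional K V] in
theorem no_seven {x : Fin 7 → V} (h : SL Q Ψ N) (ht : Tri Q Ψ N) (hx : Ch Ψ x) (hm : Mx Ψ 7)
    (hw : w ∈ Ψ) {T : Finset (Fin 7)} (hT : Ty Q N x w T) : T.card ≠ 3 := fun e => by
  obtain ⟨a, a', -⟩ := Ty.move h ht hx {0, 1, 2} _ w T hw hT (by rw [e]; rfl) rfl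
  obtain ⟨b, b', c⟩ := Ty.move h ht hx {3, 4, 5} _ _ _ a a' rfl rfl
  have d := c _ a _ a'
  rw [ip_self] at d
  have d' := d.trans (show _ = (-1 : ℤ) by decide)
  have hs := add_mem' h a b d'
  refine (Ty.not_one h hx.df (by omega) hm hs (T := {0, 1, 2, 3, 4, 5}) fun i j => ?_).2 rfl
  by_cases f : i = j
  · rw [f, sub_self, sub_self, ip_zero h hs]
  have hr := hx.df i j f
  rw [ip_comm h hr hs, ip_add h ht a b hr d', ip_comm h a hr, ip_comm h b hr, a', b']
  clear hr f
  revert i j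
  decide

theorem small {s : ℕ} {x : Fin (s + 1) → V} (h : SL Q Ψ N) (hx : Ch Ψ x) (hs : 0 < s) (z : V)
    (hz : s ≤ 5 ∨ s ≤ 6 ∧ z = 0)
    (H : ∀ U : Submodule K V, (∀ i j, x i - x j ∈ U) → z ∈ U → ∀ v ∈ Ψ,
      v ∈ U ∨ (∀ i j, polar Q v (x i - x j) = 0) ∧ polar Q v z = 0) : False := by
  let U₀ := Submodule.span K (Set.range fun i : Fin s => x i.succ - x 0)
  have m0 : ∀ i, x i - x 0 ∈ U₀ := fun i => by
    induction i using Fin.cases with
    | zero => simp
    | succ i => exact Submodule.subset_span ⟨i, rfl⟩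
  have m1 : ∀ i j, x i - x j ∈ U₀ ⊔ K ∙ z := fun i j => Submodule.mem_sup_left (by
    simpa using sub_mem (m0 i) (m0 j))
  have d0 : finrank K U₀ ≤ s := by
    simpa [Set.finrank] using finrank_range_le_card (R := K) fun i : Fin s => x i.succ - x 0
  have d1 : finrank K ↥(U₀ ⊔ K ∙ z) ≤ 6 := by
    rcases hz with a | ⟨a, rfl⟩
    · have := Submodule.finrank_add_le_finrank_add_finrank U₀ (K ∙ z)
      have := finrank_span_le_card (R := K) ({z} : Set V)
      simp at this
      omega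
    · rw [Submodule.span_zero_singleton, sup_bot_eq]; omega
  rcases h.irr (U₀ ⊔ K ∙ z) (fun v hv => (H _ m1 (Submodule.mem_sup_right
    (Submodule.mem_span_singleton_self z)) v hv).imp id fun ⟨a, b⟩ => mem_perp'.2 fun y hy => by
      obtain ⟨p, hp, q, hq, rfl⟩ := Submodule.mem_sup.1 hy
      rw [polar_add_right, mem_perp'.1 (mem_perp_span.2 (by
        rintro _ ⟨i, rfl⟩; rw [polar_comm]; exact a _ _)) p hp,
        mem_perp'.1 (mem_perp_span_singleton.2 (by rw [polar_comm]; exact b)) q hq, add_zero])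
    with e | e
  · exact ne_zero h (hx.df (Fin.succ ⟨0, hs⟩) 0 (Fin.succ_ne_zero _))
      ((Submodule.mem_bot K).1 (e ▸ m1 _ _))
  · rw [e, finrank_top, h.dim] at d1; omega

omit [FiniteDimensional K V] in
theorem Ty.zero (h : SL Q Ψ N) (hx : Df Ψ x) (hw : w ∈ Ψ) {T : Finset (Fin n)} (hT : Ty Q N x w T)
    (e : T.card = 0 ∨ T.card = n) (i j : Fin n) : ip Q N w (x i - x j) = 0 ∧
      polar Q w (x i - x j) = 0 := by
  have : ip Q N w (x i - x j) = 0 := by
    rw [hT]
    rcases e with e | e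
    · simp [χ, Finset.card_eq_zero.1 e]
    · simp [χ, Finset.eq_univ_of_card T (by simpa using e)]
  exact ⟨this, by rw [hx.cast h hw, this]; simp⟩

theorem no_six {x : Fin 6 → V} (h : SL Q Ψ N) (ht : Tri Q Ψ N) (hx : Ch Ψ x) (hw : w ∈ Ψ)
    {T : Finset (Fin 6)} (hT : Ty Q N x w T) (e : T.card = 3)
    (H : ∀ v ∈ Ψ, ∀ S, Ty Q N x v S → S.card = 0 ∨ S.card = 6 ∨ S.card = 3) : False := by
  refine small h hx (by omega) w (by omega) fun U hU hwU => ?_
  have sums : ∀ S S' : Finset (Fin 6), S.card = S'.card → ∑ i ∈ S, x i - ∑ i ∈ S', x i ∈ U :=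
    fun S S' f => by
      have : ∑ i ∈ S, x i - ∑ i ∈ S', x i = ∑ i ∈ S, (x i - x 0) - ∑ i ∈ S', (x i - x 0) := by
        simp [f]
      rw [this]
      exact sub_mem (sum_mem fun _ _ => hU _ _) (sum_mem fun _ _ => hU _ _)
  have three : ∀ v ∈ Ψ, ∀ S, Ty Q N x v S → S.card = 3 → v ∈ U := fun v hv S hS f => by
    have c3 : Tᶜ.card = 3 := by rw [Finset.card_compl, e]; rfl
    obtain ⟨a, a', -⟩ := Ty.move h ht hx T _ v S hv hS (f.trans e.symm) rfl
    obtain ⟨b, -, c⟩ := Ty.move h ht hx Tᶜ _ _ _ a a' (e.trans c3.symm) rfl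
    have d := c w hw T hT
    have s1 : ∑ i ∈ Tᶜ, χ T i = 0 := Finset.sum_eq_zero fun i hi => by
      simp [χ, Finset.mem_compl.1 hi]
    have s2 : ∑ i ∈ T, χ T i = 3 := by
      rw [Finset.sum_congr rfl fun i hi => show χ T i = 1 by simp [χ, hi]]; simp [e]
    rw [s1, s2] at d
    refine (U.add_mem_iff_left (sums T S (e.trans f.symm))).1 ?_
    rcases ip_cases h hw a with ⟨-, g⟩ | g | ⟨-, -, g⟩
    · exact g ▸ hwU
    · have := ip_cases h hw b; omega
    · rcases ip_cases h hw b with g' | ⟨-, g'⟩ | ⟨-, -, g'⟩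
      · omega
      · exact (U.add_mem_iff_left (sums Tᶜ T (c3.trans e.symm))).1 (g' ▸ U.neg_mem hwU)
      · omega
  have zero : ∀ v ∈ Ψ, (∀ i j, ip Q N v (x i - x j) = 0) → ip Q N w v = -1 → v ∈ U :=
    fun v hv f g => by
      have hs := add_mem' h hw hv g
      refine (U.add_mem_iff_right hwU).1 (three _ hs T (fun i j => ?_) e)
      by_cases a : i = j
      · rw [a, sub_self, sub_self, ip_zero h hs]
      have hr := hx.df i j a
      rw [ip_comm h hr hs, ip_add h ht hw hv hr g, ip_comm h hw hr, ip_comm h hv hr, hT, f, add_zero]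
  intro v hv
  by_cases hv' : v ∈ RA x
  · obtain ⟨i, j, -, rfl⟩ := hv'
    exact Or.inl (hU i j)
  obtain ⟨S, hS⟩ := exists_ty h ht hx (by omega) hv hv'
  rcases or_assoc.2 (H v hv S hS) with f | f
  swap
  · exact Or.inl (three v hv S hS f)
  have z := hS.zero h hx.df hv f
  rcases ip_cases h hw hv with ⟨-, rfl⟩ | ⟨-, rfl⟩ | ⟨-, -, g | g | g⟩
  · exact Or.inl hwU
  · exact Or.inl (U.neg_mem hwU)
  · exact Or.inr ⟨fun i j => (z i j).2, by rw [polar_comm, g.2]⟩
  · refine Or.inl (U.neg_mem_iff.1 (zero _ (neg_mem h hv) (fun i j => ?_)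
      (by rw [ip_neg h hw hv, g.1])))
    exact ((hS.neg h hx.df hv).zero h hx.df (neg_mem h hv) (by
      rw [Finset.card_compl, Fintype.card_fin]; omega) i j).1
  · exact Or.inl (zero v hv (fun i j => (z i j).1) g.1)

theorem jobS3 : JobS3.{u} := by
  intro K _ V _ _ _ Q Ψ N h ht
  obtain ⟨n, x, hn, hx, hm⟩ : ∃ (n : ℕ) (x : Fin n → V), 3 ≤ n ∧ Ch Ψ x ∧ Mx Ψ n := by
    by_contra hcon
    have key : ∀ n, 3 ≤ n → ∃ x : Fin n → V, Ch Ψ x := fun n hn => by
      induction n, hn using Nat.le_induction with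
      | base => exact exists_ch3 h
      | succ n hn ih =>
        obtain ⟨x, hx⟩ := ih
        by_contra c
        exact hcon ⟨n, x, hn, hx, fun y hy => c ⟨y, hy⟩⟩
    obtain ⟨x, hx⟩ := key 10 (by omega)
    have := (hx.nine h ht (by omega)).2
    omega
  have sx : Sx Q x N := fun i j a => h.norm _ (hx.df i j a)
  by_cases h9 : 9 ≤ n
  · exact Or.inl ⟨n, x, by omega, sx, case9 h ht hx h9⟩
  by_cases h8 : n = 8
  · subst h8
    rcases case8 h ht hx hm with e | e
    exacts [Or.inl ⟨8, x, le_rfl, sx, e⟩, Or.inr (Or.inl ⟨x, sx, e⟩)]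
  refine Or.inr (Or.inr ?_)
  by_contra hD
  have cc : ∀ T : Finset (Fin n), Tᶜ.card + T.card = n := fun T => by
    simp
  have n2 : ∀ w ∈ Ψ, ∀ T, Ty Q N x w T → T.card ≠ 2 := fun w hw T hT e => by
    have := (hT.not_one h hx.df hn hm hw).2
    have := cc T
    exact hD (caseD h ht hx (by omega) (by omega) hm hw hT e)
  have H : ∀ w ∈ Ψ, ∀ T, Ty Q N x w T → T.card = 0 ∨ T.card = n ∨ n = 6 ∧ T.card = 3 :=
    fun w hw T hT => by
      have a := hT.not_one h hx.df hn hm hw
      have b := n2 w hw T hT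
      have c := n2 _ (neg_mem h hw) _ (hT.neg h hx.df hw)
      have d := cc T
      by_cases h7 : n = 7
      · subst h7
        have e := no_seven h ht hx hm hw hT
        have f := no_seven h ht hx hm (neg_mem h hw) (hT.neg h hx.df hw)
        omega
      · omega
  by_cases h3 : ∃ w ∈ Ψ, ∃ T, Ty Q N x w T ∧ n = 6 ∧ T.card = 3
  · obtain ⟨w, hw, T, hT, rfl, e⟩ := h3
    exact no_six h ht hx hw hT e fun v hv S hS => by have := H v hv S hS; omega
  obtain ⟨s, rfl⟩ : ∃ s, n = s + 1 := ⟨n - 1, by omega⟩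
  refine small h hx (by omega) 0 (Or.inr ⟨by omega, rfl⟩) fun U hU _ v hv => ?_
  by_cases hv' : v ∈ RA x
  · obtain ⟨i, j, -, rfl⟩ := hv'
    exact Or.inl (hU i j)
  obtain ⟨S, hS⟩ := exists_ty h ht hx (by omega) hv hv'
  refine Or.inr ⟨fun i j => (hS.zero h hx.df hv ?_ i j).2, by simp⟩
  rcases H v hv S hS with f | f | f
  exacts [Or.inl f, Or.inr f, absurd ⟨v, hv, S, hS, f⟩ h3]

end H54.O7S
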