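/- FS tower (S1144), chapter O8 (blueprints/O8.md): finite Moufang octagons. Definitions and jobs. -/
import Cfsg.Agent.H7.FSSpec
import Cfsg.Agent.H21.BNQA
import Cfsg.Agent.H54.ParCo

set_option autoImplicit false

namespace H54.O8

open H12.BN H63.Oc H54.Par

section
variable {G : Type} [Group G] (x : MP 8 G)

/-- the central elations in `U i` -/
def V (i : ℤ) : Subgroup G := x.U i ⊓ Subgroup.centralizer (II x.U (i - 4) (i + 4) : Set G)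

/-- `g` normalises all root groups -/
def Nk (g : G) : Prop := ∀ k, ∀ u ∈ x.U k, g⁻¹ * u * g ∈ x.U k ∧ g * u * g⁻¹ ∈ x.U k

/-- the standing hypothesis -/
structure Hy : Prop where
  two : ∀ k, IsPGroup 2 (x.U k)
  cen : ∀ i : ℤ, i % 2 = 0 → ∃ v ∈ V x i, v ≠ 1

/-- equal orders -/
def Cd : Prop := ∀ i j : ℤ, i % 2 = 0 → j % 2 = 1 → Nat.card (V x i) = Nat.card (x.U j)

/-- first consequences -/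
structure A8 : Prop where
  sqV : ∀ i : ℤ, i % 2 = 0 → ∀ v ∈ V x i, v * v = 1
  sqU : ∀ j : ℤ, j % 2 = 1 → ∀ u ∈ x.U j, u * u = 1
  o2 : ∀ i j : ℤ, i % 2 = 0 → (j = i + 5 ∨ j = i - 5) → ∀ v ∈ V x i, v ≠ 1 → ∀ c ∈ x.U j,
    c * x.ka i v = x.ka i v * c → c = 1
  r27 : ∀ i j : ℤ, i % 2 = 0 → (j = i + 5 ∨ j = i - 5) → ∀ v ∈ V x i, ∀ u ∈ x.U j, u ≠ 1 →
    u⁻¹ * v * u = v * ((x.mu j u)⁻¹ * v * x.mu j u)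
  r28 : ∀ i j k : ℤ, i % 2 = 0 → j = i + 6 → k = i + 3 → ∀ v ∈ V x i, v ≠ 1 → ∀ w ∈ V x j, w ≠ 1 →
    ∃ c ∈ x.U k, w⁻¹ * v * w =
      v * ((x.mu i v)⁻¹ * w * x.mu i v) * c * ((x.mu j w)⁻¹ * v * x.mu j w)

/-- the odd root groups -/
structure C8 : Prop where
  c2 : ∀ i j : ℤ, i % 2 = 1 → (j = i + 2 ∨ j = i - 2) → x.Cm i j
  c4 : ∀ i j : ℤ, i % 2 = 1 → (j = i + 4 ∨ j = i - 4) → x.Cm i j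
  c3 : ∀ i j k : ℤ, i % 2 = 1 → (j = i + 3 ∧ k = i + 1 ∨ j = i - 3 ∧ k = i - 1) →
    ∀ a ∈ x.U i, ∀ b ∈ x.U j, a⁻¹ * b⁻¹ * a * b ∈ V x k
  f25 : ∀ u ∈ x.U 2, ∀ w ∈ V x 8, ∃ d ∈ II x.U 3 6, ∃ e ∈ x.U 7, w⁻¹ * u * w = u * d * e ∧
    ∀ v ∈ V x 2, ∀ v4 ∈ V x 4, ∀ c ∈ x.U 5, ∀ v6 ∈ V x 6, w⁻¹ * v * w = v * v4 * c * v6 →
      c⁻¹ * u * c = u * (v⁻¹ * (e⁻¹ * v * e))
  onto : ∀ w ∈ V x 8, w ≠ 1 → ∀ c ∈ x.U 5, ∃ v ∈ V x 2, ∃ v4 ∈ V x 4, ∃ v6 ∈ V x 6,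
    w⁻¹ * v * w = v * v4 * c * v6

/-- the even root groups -/
structure D8 : Prop where
  k4 : ∀ i j : ℤ, i % 2 = 0 → (j = i + 4 ∨ j = i - 4) → ∀ v ∈ V x i, v ≠ 1 → ∀ u ∈ x.U j,
    u * x.ka i v = x.ka i v * u
  nv : ∀ i j : ℤ, i % 2 = 0 → (j = i + 3 ∨ j = i - 3) → ∀ u ∈ x.U i, ∀ c ∈ x.U j, c ≠ 1 →
    u * c = c * u → u ∈ V x i

variable {K : Type} [Field K] (T : TF K)

/-- `g` is the torus element with characters `a` on `X 1` and `b * σ b` on `X 8` -/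
structure Tor (X : ℤ → K → G) (g : G) (a b : K) : Prop where
  nk : Nk x g
  t0 : ∀ t, g⁻¹ * X 0 t * g = X 0 ((b * T.σ b)⁻¹ * t)
  t1 : ∀ t, g⁻¹ * X 1 t * g = X 1 (a * t)
  t2 : ∀ t, g⁻¹ * X 2 t * g = X 2 (a * T.σ a * (b * T.σ b) * t)
  t3 : ∀ t, g⁻¹ * X 3 t * g = X 3 (a * T.σ a * (b ^ 2 * T.σ b) * t)
  t4 : ∀ t, g⁻¹ * X 4 t * g = X 4 (a ^ 2 * T.σ a * (b ^ 3 * T.σ b ^ 2) * t)
  t5 : ∀ t, g⁻¹ * X 5 t * g = X 5 (a * T.σ a * (b ^ 2 * T.σ b ^ 2) * t)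
  t6 : ∀ t, g⁻¹ * X 6 t * g = X 6 (a * T.σ a * (b ^ 3 * T.σ b ^ 2) * t)
  t7 : ∀ t, g⁻¹ * X 7 t * g = X 7 (a * (b ^ 2 * T.σ b) * t)
  t8 : ∀ t, g⁻¹ * X 8 t * g = X 8 (b * T.σ b * t)
  t9 : ∀ t, g⁻¹ * X 9 t * g = X 9 (a⁻¹ * t)

/-- coordinates on `V 0, U 1, V 2, …, V 8, U 9` and the torus -/
structure X8 where
  X : ℤ → K → G
  ev : ∀ k : ℤ, 0 ≤ k → k ≤ 8 → k % 2 = 0 → H21.BN.Co (X k) (V x k)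
  od : ∀ k : ℤ, 1 ≤ k → k ≤ 9 → k % 2 = 1 → H21.BN.Co (X k) (x.U k)
  n1 : ∀ j k : ℤ, j + k = 10 → 1 ≤ j → 1 ≤ k → j ≠ 5 → ∀ t,
    (x.mu 1 (X 1 1))⁻¹ * X j t * x.mu 1 (X 1 1) = X k t
  n8 : ∀ j k : ℤ, j + k = 8 → 0 ≤ j → 0 ≤ k → ∀ t,
    (x.mu 8 (X 8 1))⁻¹ * X j t * x.mu 8 (X 8 1) = X k t
  r27 : ∀ t u, (X 7 u)⁻¹ * X 2 t * X 7 u = X 2 t * X 4 (t * u)
  r28 : ∀ t u, ∃ c ∈ x.U 5,
    (X 8 u)⁻¹ * X 2 t * X 8 u = X 2 t * X 4 (T.σ t * u) * c * X 6 (t * T.σ u)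
  tor_of : ∀ (g : G) (a b : K), a ≠ 0 → b ≠ 0 → Nk x g →
    (∀ t, g⁻¹ * X 4 t * g = X 4 (a ^ 2 * T.σ a * (b ^ 3 * T.σ b ^ 2) * t)) →
    g⁻¹ * X 6 1 * g = X 6 (a * T.σ a * (b ^ 3 * T.σ b ^ 2)) → Tor x T X g a b
  tor_ex : ∀ a b : K, a ≠ 0 → b ≠ 0 → ∃ g ∈ iSup x.U, Tor x T X g a b

/-- coordinates on the even root groups -/
structure Y8 extends X8 x T where
  y : ℤ → K → G
  y_mem : ∀ k : ℤ, 0 ≤ k → k ≤ 8 → k % 2 = 0 → ∀ t, y k t ∈ x.U k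
  y_zero : ∀ k : ℤ, y k 0 = 1
  y64 : ∀ t, (x.mu 1 (X 1 1))⁻¹ * y 6 t * x.mu 1 (X 1 1) = y 4 t
  y62 : ∀ t, (x.mu 8 (X 8 1))⁻¹ * y 6 t * x.mu 8 (X 8 1) = y 2 t
  y28 : ∀ t, (x.mu 1 (X 1 1))⁻¹ * y 2 t * x.mu 1 (X 1 1) = y 8 t
  y80 : ∀ t, (x.mu 8 (X 8 1))⁻¹ * y 8 t * x.mu 8 (X 8 1) = y 0 t
  d6 : ∀ t u, ∃ d ∈ II x.U 2 5, ∃ e ∈ x.U 7,
    (X 1 t)⁻¹ * X 8 u * X 1 t = d * y 6 (t * u) * e * X 8 u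
  y_tor : ∀ (g : G) (a b : K), a ≠ 0 → b ≠ 0 → Tor x T X g a b → ∀ t,
    g⁻¹ * y 2 t * g = y 2 (a * b * t) ∧ g⁻¹ * y 4 t * g = y 4 (T.σ a * (b * T.σ b) * t) ∧
      g⁻¹ * y 6 t * g = y 6 (a * (b * T.σ b) * t) ∧ g⁻¹ * y 8 t * g = y 8 (b * t)
  n15 : ∀ t, (x.mu 1 (X 1 1))⁻¹ * X 5 t * x.mu 1 (X 1 1) = X 5 t
  k3 : ∀ s, (x.ka 8 (X 8 1))⁻¹ * X 3 s * x.ka 8 (X 8 1) = X 2 s * X 3 s
  k5 : ∀ s, (x.ka 8 (X 8 1))⁻¹ * X 5 s * x.ka 8 (X 8 1) = X 2 s * X 3 s * X 4 (T.σ s) * X 5 s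
  s28 : ∀ s, (X 8 1)⁻¹ * X 2 s * X 8 1 = X 2 s * X 4 (T.σ s) * X 5 s * X 6 s

variable {x T}

/-- the normal form -/
def Y8.fm (Y : Y8 x T) (c : Co T) : G :=
  Y.X 1 c.a1 * (Y.y 2 c.b2 * Y.X 2 c.a2) * Y.X 3 c.a3 * (Y.y 4 c.b4 * Y.X 4 c.a4) * Y.X 5 c.a5 *
    (Y.y 6 c.b6 * Y.X 6 c.a6) * Y.X 7 c.a7 * (Y.y 8 c.b8 * Y.X 8 c.a8)

/-- the commutator relations for the parameters `1, 1` -/
def Y8.Tab (Y : Y8 x T) : Prop :=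
  ∀ k < 12, ∀ i < 12, bn i < bn k → Y.fm (gn T k 1 * gn T i 1) = Y.fm (gn T k 1) * Y.fm (gn T i 1)

/-- full coordinates -/
structure Y8.Hom [CharP K 2] (Y : Y8 x T) : Prop where
  mul : ∀ c d, Y.fm (c * d) = Y.fm c * Y.fm d
  inj : Function.Injective Y.fm
  mem : ∀ j : ℕ, 1 ≤ j → j ≤ 8 → ∀ g, g ∈ x.U j ↔ ∃ b a, g = Y.fm (blk T j b a)

end

def JobA : Prop := ∀ (G : Type) [Group G] [Finite G] (x : MP 8 G), Hy x → A8 x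

def JobT : Prop := ∀ (G : Type) [Group G] [Finite G] (x : MP 8 G), Hy x → A8 x →
  ∃ (K : Type) (_ : Field K) (_ : Finite K) (_ : CharP K 2) (T : TF K), Nonempty (X8 x T)

def JobC : Prop := ∀ (G : Type) [Group G] [Finite G] (x : MP 8 G), Hy x → Cd x → C8 x

def JobD : Prop := ∀ (G : Type) [Group G] [Finite G] (x : MP 8 G), Hy x → Cd x → D8 x

def JobY : Prop := ∀ (G : Type) [Group G] [Finite G] (x : MP 8 G), Hy x → A8 x → C8 x → D8 x →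
  ∀ (K : Type) [Field K] [Finite K] [CharP K 2] (T : TF K), Nonempty (X8 x T) → Nonempty (Y8 x T)

def JobE : Prop := ∀ (G : Type) [Group G] [Finite G] (x : MP 8 G), Hy x → A8 x → C8 x → D8 x →
  ∀ (K : Type) [Field K] [Finite K] [CharP K 2] (T : TF K) (Y : Y8 x T), Y.Tab

def JobF : Prop := ∀ (G : Type) [Group G] [Finite G] (x : MP 8 G), Hy x → A8 x → C8 x → D8 x →
  ∀ (K : Type) [Field K] [Finite K] [CharP K 2] (T : TF K) (Y : Y8 x T), Y.Tab → Y.Hom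

def JobG : Prop := ∀ (G : Type) [Group G] [Finite G] (x : MP 8 G), Hy x → A8 x → D8 x →
  ∀ (K : Type) [Field K] [Finite K] [CharP K 2] (T : TF K) (Y : Y8 x T), Y.Hom →
  IsSimpleGroup (iSup x.U : Subgroup G) → ∃ A : AD T G, A.Braid ∧ A.G0 = iSup x.U

end H54.O8
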