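/- FS tower (S1144), chapter O8 (blueprints/O8.md): the kit. -/
import Cfsg.Agent.H54.O8Spec

set_option autoImplicit false
set_option linter.unusedSectionVars false

namespace H54.O8

open H12.BN H59.BN H63.Oc Subgroup
open H21.BN (sh)
open scoped commutatorElement

variable {G : Type} [Group G] [Finite G] {x : MP 8 G} {i j k l m i' j' : ℤ} {a b c d g u v w z : G}

@[simp] theorem cj_eq_one : g⁻¹ * a * g = 1 ↔ a = 1 := by
  simpa using conj_eq_one_iff (a := g⁻¹) (b := a)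

theorem cj_ne (h : a ≠ 1) (g : G) : g⁻¹ * a * g ≠ 1 := mt cj_eq_one.1 h

theorem m8 (x : MP 8 G) : MK x := H21.BN.mk (by decide)

theorem per16 {α : Type} (f : ℤ → α) (h : ∀ k, f (k + 2 * (8 : ℕ)) = f k) (e : (i - j) % 16 = 0) :
    f i = f j := by
  have p : Function.Periodic f 16 := fun k => by simpa using h k
  obtain ⟨t, rfl⟩ : ∃ t, i = j + t * 16 := ⟨(i - j) / 16, by omega⟩
  exact p.int_mul t j

theorem Um (x : MP 8 G) (e : (i - j) % 16 = 0) : x.U i = x.U j := per16 x.U x.per e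
theorem kam (x : MP 8 G) (e : (i - j) % 16 = 0) (a : G) : x.ka i a = x.ka j a :=
  per16 (x.ka · a) (fun k => ((m8 x).per k a).1) e
theorem lam (x : MP 8 G) (e : (i - j) % 16 = 0) (a : G) : x.la i a = x.la j a :=
  per16 (x.la · a) (fun k => ((m8 x).per k a).2.1) e
theorem mum (x : MP 8 G) (e : (i - j) % 16 = 0) (a : G) : x.mu i a = x.mu j a :=
  per16 (x.mu · a) (fun k => ((m8 x).per k a).2.2) e

theorem Im (x : MP 8 G) (e : (i - i') % 16 = 0) (e' : j - i = j' - i') :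
    II x.U i j = II x.U i' j' :=
  le_antisymm (II_le fun k _ _ => (Um x (j := k - i + i') (by omega)).le.trans
    (le_II _ (by omega) (by omega))) (II_le fun k _ _ => (Um x (j := k - i' + i) (by omega)).le.trans
    (le_II _ (by omega) (by omega)))

theorem Vm (x : MP 8 G) (e : (i - j) % 16 = 0) : V x i = V x j := by
  rw [V, V, Um x e, Im x (i' := j - 4) (j' := j + 4) (by omega) (by omega)]

theorem toI (h : g ∈ x.U k) (h1 : i ≤ k := by omega) (h2 : k ≤ j := by omega) : g ∈ II x.U i j :=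
  le_II _ h1 h2 h

theorem mono (h : g ∈ II x.U i j) (h1 : i' ≤ i := by omega) (h2 : j ≤ j' := by omega) :
    g ∈ II x.U i' j' := II_mono _ h1 h2 h

theorem ofI (h : g ∈ II x.U i i) : g ∈ x.U i := II_self x.U i ▸ h

theorem eq_one_I (h : g ∈ II x.U i j) (h1 : j < i := by omega) : g = 1 := by
  rwa [II_bot _ h1, mem_bot] at h

/-- an element that commutes with `U i, …, U j` commutes with `U_[i,j]` -/
theorem cm_I (h : ∀ k, i ≤ k → k ≤ j → ∀ u ∈ x.U k, u * z = z * u) (hg : g ∈ II x.U i j) :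
    g * z = z * g :=
  mem_centralizer_singleton_iff.1 (II_le (H := centralizer {z})
    (fun k h1 h2 u hu => mem_centralizer_singleton_iff.2 (h k h1 h2 u hu)) hg)

theorem mem_V : v ∈ V x i ↔ v ∈ x.U i ∧ ∀ j, i - 4 ≤ j → j ≤ i + 4 → ∀ g ∈ x.U j, g * v = v * g :=
  and_congr_right fun _ => ⟨fun h _ h1 h2 g hg => h g (toI hg), fun h _ hg => cm_I h hg⟩

theorem V.U (h : v ∈ V x i) : v ∈ x.U i := h.1

theorem V.cm (h : v ∈ V x i) (hg : g ∈ x.U j) (h1 : i - 4 ≤ j := by omega)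
    (h2 : j ≤ i + 4 := by omega) : g * v = v * g := h.2 g (toI hg)

theorem V.cmI (h : v ∈ V x i) (hg : g ∈ II x.U j k) (h1 : i - 4 ≤ j := by omega)
    (h2 : k ≤ i + 4 := by omega) : g * v = v * g := h.2 g (mono hg)

theorem adj (ha : a ∈ x.U i) (hb : b ∈ x.U j) (h : j = i + 1 ∨ j = i - 1 := by omega) :
    a * b = b * a := by
  rcases h with rfl | rfl
  · exact (m8 x).adj i a ha b hb
  · exact ((m8 x).adj (i - 1) b hb a (by simpa using ha)).symm

theorem ka_mem (ha : a ∈ x.U i) (h1 : a ≠ 1) (j : ℤ) (e : (j - i - 8) % 16 = 0 := by omega) :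
    x.ka i a ∈ x.U j := Um x (i := i + (8 : ℕ)) (j := j) (by omega) ▸ x.ka_mem ha h1

theorem la_mem (ha : a ∈ x.U i) (h1 : a ≠ 1) (j : ℤ) (e : (j - i - 8) % 16 = 0 := by omega) :
    x.la i a ∈ x.U j := Um x (i := i + (8 : ℕ)) (j := j) (by omega) ▸ x.la_mem ha h1

/-- `m` is a reflection `k ↦ c - k` -/
def Rf (x : MP 8 G) (c : ℤ) (m : G) : Prop :=
  ∀ j k : ℤ, (j + k - c) % 16 = 0 → ∀ g ∈ x.U j, m⁻¹ * g * m ∈ x.U k ∧ m * g * m⁻¹ ∈ x.U k

theorem rf_mu (ha : a ∈ x.U i) (h1 : a ≠ 1) (c : ℤ) (e : (c - 2 * i - 8) % 16 = 0 := by omega) :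
    Rf x c (x.mu i a) := fun j k h g hg =>
  ⟨Um x (i := 2 * i + (8 : ℕ) - j) (j := k) (by omega) ▸ (m8 x).mu_conj' i a ha h1 j g hg,
    Um x (i := 2 * i + (8 : ℕ) - j) (j := k) (by omega) ▸ x.mu_conj ha h1 hg⟩

namespace Rf
variable {s s' : ℤ} {n n' : G}

theorem inv (h : Rf x s n) : Rf x s n⁻¹ := fun j k e g hg => by simpa using (h j k e g hg).symm

theorem U (h : Rf x s n) (hg : g ∈ x.U j) (k : ℤ) (e : (j + k - s) % 16 = 0 := by omega) :
    n⁻¹ * g * n ∈ x.U k := (h j k e g hg).1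

theorem I (h : Rf x s n) (hg : g ∈ II x.U i j) (i' j' : ℤ) (e : (i + j' - s) % 16 = 0 := by omega)
    (e' : j - i = j' - i' := by omega) : n⁻¹ * g * n ∈ II x.U i' j' := by
  have : II x.U i j ≤ (II x.U i' j').comap (MulAut.conj n⁻¹).toMonoidHom := II_le fun k _ _ u hu => by
    simpa using toI (h.U hu (i + j' - k))
  simpa using this hg

theorem V (h : Rf x s n) (hv : v ∈ V x j) (k : ℤ) (e : (j + k - s) % 16 = 0 := by omega) :
    n⁻¹ * v * n ∈ V x k := mem_V.2 ⟨h.U hv.1 k, fun l _ _ g hg => by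
  have := V.cm hv (h.inv.U hg (j + k - l))
  calc _ = n⁻¹ * (n⁻¹⁻¹ * g * n⁻¹ * v) * n := by group
    _ = _ := by rw [this]; group⟩

theorem mul (h : Rf x s n) (h' : Rf x s n') : Nk x (n * n') := fun k g hg => by
  have h1 := h'.U (h.U hg (s - k)) k
  have h2 := h.inv.U (h'.inv.U hg (s - k)) k
  simp only [mul_inv_rev, inv_inv, mul_assoc] at h1 h2 ⊢
  exact ⟨h1, h2⟩

theorem nk (h : Rf x s n) (hg : Nk x g) : Nk x (n⁻¹ * g * n) := fun k u hu => by
  have h1 := h.U (hg _ _ (h.inv.U hu (s - k))).1 k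
  have h2 := h.U (hg _ _ (h.inv.U hu (s - k))).2 k
  simp only [mul_inv_rev, inv_inv, mul_assoc] at h1 h2 ⊢
  exact ⟨h1, h2⟩

theorem iff (h : Rf x s n) (j k : ℤ) (e : (j + k - s) % 16 = 0) (y : G) :
    y ∈ x.U j ↔ n⁻¹ * y * n⁻¹⁻¹ ∈ x.U k :=
  ⟨fun hy => by simpa using h.U hy k, fun hy => by simpa [mul_assoc] using h.inv.U hy j⟩

/-- `κ`, `λ`, `μ` commute with reflections -/
theorem mu (h : Rf x s n) (ha : a ∈ x.U j) (h1 : a ≠ 1) (k : ℤ)
    (e : (j + k - s) % 16 = 0 := by omega) : x.ka k (n⁻¹ * a * n) = n⁻¹ * x.ka j a * n ∧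
      x.la k (n⁻¹ * a * n) = n⁻¹ * x.la j a * n ∧ x.mu k (n⁻¹ * a * n) = n⁻¹ * x.mu j a * n := by
  simpa using (m8 x).conj j k n⁻¹ (h.iff j k e) (h.iff _ _ (by omega)) a ha h1

end Rf

namespace Nk

theorem one : Nk x 1 := fun _ _ h => by simpa using h

theorem inv (h : Nk x g) : Nk x g⁻¹ := fun k u hu => by simpa using (h k u hu).symm

theorem mul {g' : G} (h : Nk x g) (h' : Nk x g') : Nk x (g * g') := fun k u hu => by
  have h1 := (h' k _ (h k u hu).1).1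
  have h2 := (h k _ (h' k u hu).2).2
  simp only [mul_inv_rev, mul_assoc] at h1 h2 ⊢
  exact ⟨h1, h2⟩

theorem U (h : Nk x g) (hu : u ∈ x.U k) : g⁻¹ * u * g ∈ x.U k := (h k u hu).1

theorem I (h : Nk x g) (hu : u ∈ II x.U i j) : g⁻¹ * u * g ∈ II x.U i j := by
  have : II x.U i j ≤ (II x.U i j).comap (MulAut.conj g⁻¹).toMonoidHom := II_le fun k _ _ u hu => by
    simpa using toI (h.U hu)
  simpa using this hu

theorem V (h : Nk x g) (hv : v ∈ V x j) : g⁻¹ * v * g ∈ V x j :=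
  mem_V.2 ⟨h.U hv.1, fun l _ _ u hu => by
    have := V.cm hv (h.inv.U hu)
    calc _ = g⁻¹ * (g⁻¹⁻¹ * u * g⁻¹ * v) * g := by group
      _ = _ := by rw [this]; group⟩

theorem iff (h : Nk x g) (j : ℤ) (y : G) : y ∈ x.U j ↔ g⁻¹ * y * g⁻¹⁻¹ ∈ x.U j :=
  ⟨fun hy => by simpa using h.U hy, fun hy => by simpa [mul_assoc] using h.inv.U hy⟩

theorem mu (h : Nk x g) (ha : a ∈ x.U j) (h1 : a ≠ 1) : x.ka j (g⁻¹ * a * g) = g⁻¹ * x.ka j a * g ∧
    x.la j (g⁻¹ * a * g) = g⁻¹ * x.la j a * g ∧ x.mu j (g⁻¹ * a * g) = g⁻¹ * x.mu j a * g := by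
  simpa using (m8 x).conj j j g⁻¹ (h.iff j) (h.iff _) a ha h1

end Nk

/-- `κ(a) ≠ 1`, `λ(κ(a)) = a`, `μ(κ(a)) = μ(a)` -/
theorem ka_ka (ha : a ∈ x.U i) (h1 : a ≠ 1) (j : ℤ) (e : (j - i - 8) % 16 = 0 := by omega) :
    x.ka i a ≠ 1 ∧ x.la j (x.ka i a) = a ∧ x.mu j (x.ka i a) = x.mu i a := by
  rw [lam x (i := j) (j := i + (8 : ℕ)) (by omega), mum x (i := j) (j := i + (8 : ℕ)) (by omega)]
  exact (m8 x).ka i a ha h1

theorem la_la (ha : a ∈ x.U i) (h1 : a ≠ 1) (j : ℤ) (e : (j - i - 8) % 16 = 0 := by omega) :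
    x.la i a ≠ 1 ∧ x.ka j (x.la i a) = a ∧ x.mu j (x.la i a) = x.mu i a := by
  rw [kam x (i := j) (j := i + (8 : ℕ)) (by omega), mum x (i := j) (j := i + (8 : ℕ)) (by omega)]
  exact (m8 x).la i a ha h1

/-- `b^a = d b` -/
theorem cj_lo (ha : a ∈ x.U i) (hb : b ∈ x.U k) (i' j' : ℤ) (h1 : i < k := by omega)
    (h2 : k ≤ i + 7 := by omega) (h3 : i' ≤ i + 1 := by omega) (h4 : k - 1 ≤ j' := by omega) :
    ∃ d ∈ II x.U i' j', a⁻¹ * b * a = d * b :=
  ⟨_, mono (x.comm i k h1 (by omega) _ (inv_mem ha) b hb), by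
    rw [commutatorElement_def]; group⟩

/-- `a^b = a d` -/
theorem cj_hi (ha : a ∈ x.U i) (hb : b ∈ x.U k) (i' j' : ℤ) (h1 : i < k := by omega)
    (h2 : k ≤ i + 7 := by omega) (h3 : i' ≤ i + 1 := by omega) (h4 : k - 1 ≤ j' := by omega) :
    ∃ d ∈ II x.U i' j', b⁻¹ * a * b = a * d :=
  ⟨_, mono (x.comm i k h1 (by omega) _ (inv_mem ha) _ (inv_mem hb)), by
    rw [commutatorElement_def]; group⟩

/-- `U_[i-1,j+1]` normalises `U_[i,j]` -/
theorem nor (ha : a ∈ II x.U i' j') (hg : g ∈ II x.U i j) (h1 : i - 1 ≤ i' := by omega)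
    (h2 : j' ≤ j + 1 := by omega) (h3 : j ≤ i + 6 := by omega) : a⁻¹ * g * a ∈ II x.U i j := by
  have : II x.U i' j' ≤ normalizer (II x.U i j : Set G) := II_le fun k _ _ => by
    by_cases e : k = i - 1
    · refine le_nor fun a ha g hg => ?_
      have := (m8 x).normL k j (by omega) a ha g
      rw [show k + 1 = i by omega] at this
      exact this hg
    by_cases e' : k = j + 1
    · refine le_nor fun a ha g hg => ?_
      have := (m8 x).normR i k (by omega) a ha g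
      rw [show k - 1 = j by omega] at this
      exact this hg
    · exact (le_II _ (by omega) (by omega)).trans le_normalizer
  simpa using (mem_normalizer_iff.1 (this (inv_mem ha)) g).1 hg

theorem spL (hg : g ∈ II x.U i j) (k : ℤ) (h : j ≤ i + 7 := by omega) (e : k = i + 1 := by omega) :
    ∃ a ∈ x.U i, ∃ b ∈ II x.U k j, g = a * b := e ▸ (m8 x).splitL i j (by omega) g hg

theorem spR (hg : g ∈ II x.U i j) (k : ℤ) (h : j ≤ i + 7 := by omega) (e : k = j - 1 := by omega) :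
    ∃ b ∈ II x.U i k, ∃ c ∈ x.U j, g = b * c := e ▸ (m8 x).splitR i j (by omega) g hg

theorem split (hg : g ∈ II x.U i j) (k l : ℤ) (h : j ≤ i + 7 := by omega)
    (e : l = k + 1 := by omega) (h2 : k ≤ j := by omega) :
    ∃ b ∈ II x.U i k, ∃ c ∈ II x.U l j, g = b * c := by
  subst e
  induction j, h2 using Int.leInduction generalizing g with
  | base => exact ⟨g, hg, 1, one_mem _, (mul_one g).symm⟩
  | succ j h2 ih =>
    obtain ⟨b, hb, c, hc, rfl⟩ := spR hg j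
    obtain ⟨b', hb', c', hc', rfl⟩ := ih hb (by omega)
    exact ⟨b', hb', c' * c, mul_mem (mono hc') (toI hc), mul_assoc ..⟩

theorem inter (h1 : g ∈ II x.U i k) (h2 : g ∈ II x.U l j) (e : i ≤ l := by omega)
    (e1 : k ≤ i + 7 := by omega) (e2 : j ≤ i + 8 := by omega) : g ∈ II x.U l k := by
  have : ∀ m, i ≤ m → m ≤ l → g ∈ II x.U m k := fun m hm => by
    induction m, hm using Int.leInduction with
    | base => exact fun _ => h1
    | succ m hm ih =>
      intro h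
      obtain ⟨a, ha, b, hb, e⟩ := spL (ih (by omega)) (m + 1)
      have : a = 1 := x.disj m a ha (by
        rw [show a = g * b⁻¹ by rw [e]; group]
        exact mul_mem (mono h2 h (by omega)) (inv_mem (mono hb le_rfl (by omega))))
      rwa [e, this, one_mul]
  exact this l e le_rfl

theorem inter0 (h1 : g ∈ II x.U i k) (h2 : g ∈ II x.U l j) (e : k < l := by omega)
    (e0 : i ≤ l := by omega) (e1 : k ≤ i + 7 := by omega) (e2 : j ≤ i + 8 := by omega) : g = 1 :=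
  eq_one_I (inter h1 h2)

/-- uniqueness of block decompositions -/
theorem un {a' b' : G} (ha : a ∈ II x.U i k) (ha' : a' ∈ II x.U i k) (hb : b ∈ II x.U l j)
    (hb' : b' ∈ II x.U l j) (h : a * b = a' * b') (e : k < l := by omega) (e0 : i ≤ l := by omega)
    (e1 : k ≤ i + 7 := by omega) (e2 : j ≤ i + 8 := by omega) : a = a' ∧ b = b' := by
  have : a'⁻¹ * a = 1 := inter0 (mul_mem (inv_mem ha') ha) (l := l) (j := j) (by
    rw [show a'⁻¹ * a = b' * b⁻¹ by rw [← mul_inv_cancel_right a b, h]; group]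
    exact mul_mem hb' (inv_mem hb))
  obtain rfl := inv_mul_eq_one.1 this
  exact ⟨rfl, mul_left_cancel h⟩

/-- the same in reversed order -/
theorem un' {a' b' : G} (ha : a ∈ II x.U i k) (ha' : a' ∈ II x.U i k) (hb : b ∈ II x.U l j)
    (hb' : b' ∈ II x.U l j) (h : b * a = b' * a') (e : k < l := by omega) (e0 : i ≤ l := by omega)
    (e1 : k ≤ i + 7 := by omega) (e2 : j ≤ i + 8 := by omega) : a = a' ∧ b = b' := by
  simpa using un (inv_mem ha) (inv_mem ha') (inv_mem hb) (inv_mem hb')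
    (by rw [← mul_inv_rev, h, mul_inv_rev])

theorem key (ha : a ∈ x.U i) (h1 : a ≠ 1) (hb : b ∈ x.U j) (k l : ℤ) (e : j = i + 7 := by omega)
    (e1 : k = i + 2 := by omega) (e2 : l = i + 6 := by omega) :
    ∃ d ∈ II x.U k l, a⁻¹ * b * a = (x.mu i a)⁻¹ * b * x.mu i a * d * b := by
  obtain ⟨d, hd, h⟩ := (m8 x).key i a ha h1 b (Um x (i := j) (j := i + (8 : ℕ) - 1) (by omega) ▸ hb)
  exact ⟨d, mono hd, h⟩

theorem key' (ha : a ∈ x.U i) (h1 : a ≠ 1) (hb : b ∈ x.U j) (k l : ℤ) (e : j = i - 7 := by omega)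
    (e1 : k = i - 6 := by omega) (e2 : l = i - 2 := by omega) :
    ∃ d ∈ II x.U k l, a⁻¹ * b * a = b * d * ((x.mu i a)⁻¹ * b * x.mu i a) := by
  obtain ⟨d, hd, h⟩ := (m8 x).key' i a ha h1 b (Um x (i := j) (j := i - (8 : ℕ) + 1) (by omega) ▸ hb)
  exact ⟨d, mono hd, h⟩

/-- if `c` commutes with `κ(a)` then `c^a = (c^μ)^(λ⁻¹)` -/
theorem lemR (h : c * x.ka i a = x.ka i a * c) :
    a⁻¹ * c * a = (x.la i a)⁻¹⁻¹ * ((x.mu i a)⁻¹ * c * x.mu i a) * (x.la i a)⁻¹ := by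
  calc _ = a⁻¹ * ((x.ka i a)⁻¹ * (c * x.ka i a)) * a := by rw [h]; group
    _ = _ := by rw [MP.mu]; group

/-- Lemma C -/
theorem lemC (hg : g ∈ x.U i) (h1 : g ≠ 1) (hz : z ∈ II x.U i j) (h : z * g = g * z) (k : ℤ)
    (e : j ≤ i + 7 := by omega) (e' : k = i + 4 := by omega) : z ∈ II x.U i k := by
  by_cases h0 : j ≤ k
  · exact mono hz
  have : ∀ m, m ≤ j → k ≤ m → z ∈ II x.U i m := fun m hm => by
    induction m, hm using Int.leInductionDown with
    | base => exact fun _ => hz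
    | pred m hm ih =>
      intro hk
      obtain ⟨y, hy, a, ha, rfl⟩ := spR (ih (by omega)) (m - 1)
      by_cases a1 : a = 1
      · rwa [a1, mul_one]
      have r := rf_mu ha a1 (2 * m - 8)
      obtain ⟨p, hp, q, hq, e⟩ := split (i := m - 8) (j := m - 1)
        (mul_mem (mono hy) (inv_mem (toI (ka_mem ha a1 (m - 8))))) (2 * m - i - 9) (2 * m - i - 8)
      have q1 := r.I hq (m - 7) i
      have q2 := r.I (nor hp (toI hg : g ∈ II x.U (m - 7) (2 * m - i - 9))) (i + 1) (m - 1)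
      have q3 := nor (toI (la_mem ha a1 (m - 8)) : _ ∈ II x.U (m - 8) (m - 8))
        (toI hg : g ∈ II x.U (m - 7) i)
      have e2 : p = y * (x.ka m a)⁻¹ * q⁻¹ := by rw [e]; group
      have e3 : (y * a)⁻¹ * g * (y * a) = g := by rw [mul_assoc, ← h]; group
      have q4 := inter0 (mul_mem (mul_mem q1 q3) (inv_mem q1)) (l := i + 1) (j := m - 1) (by
        convert q2 using 1
        rw [e2]
        conv_lhs => rw [← e3]
        rw [MP.mu]; group)
      exact absurd (cj_eq_one.1 (conj_eq_one_iff.1 q4)) h1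
  exact this k (by omega) le_rfl

/-! ### shift and mirror -/

theorem ka_congr {y : MP 8 G} (e : y.U k = x.U i) (e' : y.U (k + (8 : ℕ)) = x.U (i + (8 : ℕ)))
    (a : G) : y.ka k a = x.ka i a ∧ y.la k a = x.la i a ∧ y.mu k a = x.mu i a := by
  have : y.ka k a = x.ka i a ∧ y.la k a = x.la i a := by
    by_cases h : a ∈ x.U i ∧ a ≠ 1
    · have h' : a ∈ y.U k := e ▸ h.1
      exact (m8 x).uniq i a h.1 h.2 _ (e' ▸ y.ka_mem h' h.2) _ (e' ▸ y.la_mem h' h.2)
        (e ▸ e' ▸ (m8 y).sw k a h' h.2)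
    · rw [MP.ka, MP.ka, MP.la, MP.la, dif_neg h, dif_neg h, dif_neg (e ▸ h), dif_neg (e ▸ h)]
      exact ⟨rfl, rfl⟩
  exact ⟨this.1, this.2, by rw [MP.mu, MP.mu, this.1, this.2]⟩

variable (x) (s : ℤ)

@[simp] theorem sh_U (k : ℤ) : (sh x s).U k = x.U (k + s) := rfl
@[simp] theorem sh_II (i j : ℤ) : II (sh x s).U i j = II x.U (i + s) (j + s) :=
  le_antisymm (II_le fun _ _ _ => le_II x.U (by omega) (by omega)) (II_le fun k _ _ => by
    simpa using le_II (sh x s).U (k := k - s) (i := i) (j := j) (by omega) (by omega))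
@[simp] theorem sh_V (k : ℤ) : V (sh x s) k = V x (k + s) := by
  rw [V, V, sh_U, sh_II]; congr 4 <;> ring
@[simp] theorem sh_ka (k : ℤ) (a : G) : (sh x s).ka k a = x.ka (k + s) a :=
  (ka_congr (sh_U x s k) ((sh_U ..).trans (Um x (by omega))) a).1
@[simp] theorem sh_la (k : ℤ) (a : G) : (sh x s).la k a = x.la (k + s) a :=
  (ka_congr (sh_U x s k) ((sh_U ..).trans (Um x (by omega))) a).2.1
@[simp] theorem sh_mu (k : ℤ) (a : G) : (sh x s).mu k a = x.mu (k + s) a :=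
  (ka_congr (sh_U x s k) ((sh_U ..).trans (Um x (by omega))) a).2.2

/-- `U k` becomes `U (s - k)` -/
def mir : MP 8 G := sh x.rev (9 - s)

@[simp] theorem mir_U (k : ℤ) : (mir x s).U k = x.U (s - k) := Um x (by omega)
@[simp] theorem mir_II (i j : ℤ) : II (mir x s).U i j = II x.U (s - j) (s - i) := by
  rw [show (mir x s).U = fun k => x.U (s - k) from funext (mir_U x s), II_neg]
@[simp] theorem mir_V (k : ℤ) : V (mir x s) k = V x (s - k) := by
  rw [V, V, mir_U, mir_II]; congr 4 <;> ring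
@[simp] theorem mir_ka (k : ℤ) (a : G) : (mir x s).ka k a = x.ka (s - k) a :=
  (ka_congr (mir_U ..) ((mir_U ..).trans (Um x (by omega))) a).1
@[simp] theorem mir_la (k : ℤ) (a : G) : (mir x s).la k a = x.la (s - k) a :=
  (ka_congr (mir_U ..) ((mir_U ..).trans (Um x (by omega))) a).2.1
@[simp] theorem mir_mu (k : ℤ) (a : G) : (mir x s).mu k a = x.mu (s - k) a :=
  (ka_congr (mir_U ..) ((mir_U ..).trans (Um x (by omega))) a).2.2

variable {x s}

theorem Hy.sh (h : Hy x) (s : ℤ) (e : s % 2 = 0 := by omega) : Hy (sh x s) :=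
  ⟨fun _ => h.two _, fun i _ => sh_V x s i ▸ h.cen _ (by omega)⟩
theorem Hy.mir (h : Hy x) (s : ℤ) (e : s % 2 = 0 := by omega) : Hy (mir x s) :=
  ⟨fun k => mir_U x s k ▸ h.two _, fun i _ => mir_V x s i ▸ h.cen _ (by omega)⟩
theorem Cd.sh (h : Cd x) (s : ℤ) (e : s % 2 = 0 := by omega) : Cd (sh x s) := fun i j _ _ => by
  rw [sh_V, sh_U]; exact h _ _ (by omega) (by omega)
theorem Cd.mir (h : Cd x) (s : ℤ) (e : s % 2 = 0 := by omega) : Cd (mir x s) := fun i j _ _ => by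
  rw [mir_V, mir_U]; exact h _ _ (by omega) (by omega)

/-- Lemma C, mirror image -/
theorem lemC' (hg : g ∈ x.U i) (h1 : g ≠ 1) (hz : z ∈ II x.U j i) (h : z * g = g * z) (k : ℤ)
    (e : i - 7 ≤ j := by omega) (e' : k = i - 4 := by omega) : z ∈ II x.U k i := by
  have := lemC (x := mir x 0) (i := -i) (j := -j) (by simpa using hg) h1 (by simpa using hz) h (-k)
  simpa using this

/-! ### consequences of `A8` -/

theorem inv_of_sq (h : a * a = 1) : a⁻¹ = a := inv_eq_of_mul_eq_one_right h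

theorem mu_of_sq (ha : a ∈ x.U i) (h1 : a ≠ 1) (h : a * a = 1) :
    x.la i a = (x.ka i a)⁻¹ ∧ (x.mu i a)⁻¹ = x.mu i a ∧ x.mu i a * x.mu i a = 1 := by
  have := (m8 x).inv i a ha h1
  rw [inv_of_sq h] at this
  exact ⟨this.2.1, this.2.2.symm, by nth_rw 1 [this.2.2]; exact inv_mul_cancel _⟩

theorem A8.ab (A : A8 x) (ha : a ∈ x.U j) (hb : b ∈ x.U j) (e : j % 2 = 1 := by omega) :
    a * b = b * a := by
  rw [← inv_of_sq (A.sqU j e _ (mul_mem ha hb)), mul_inv_rev, inv_of_sq (A.sqU j e _ ha),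
    inv_of_sq (A.sqU j e _ hb)]

theorem A8.muU (A : A8 x) (ha : a ∈ x.U j) (h1 : a ≠ 1) (e : j % 2 = 1 := by omega) :
    x.la j a = (x.ka j a)⁻¹ ∧ (x.mu j a)⁻¹ = x.mu j a ∧ x.mu j a * x.mu j a = 1 :=
  mu_of_sq ha h1 (A.sqU j e a ha)

theorem A8.muV (A : A8 x) (ha : a ∈ V x j) (h1 : a ≠ 1) (e : j % 2 = 0 := by omega) :
    x.la j a = (x.ka j a)⁻¹ ∧ (x.mu j a)⁻¹ = x.mu j a ∧ x.mu j a * x.mu j a = 1 :=
  mu_of_sq ha.1 h1 (A.sqV j e a ha)

/-- `(g^κ)^a = (g^μ)^κ` for an involution `a` -/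
theorem cj_ka (ha : a ∈ x.U i) (h1 : a ≠ 1) (h : a * a = 1) (g : G) :
    a⁻¹ * ((x.ka i a)⁻¹ * g * x.ka i a) * a =
      (x.ka i a)⁻¹ * ((x.mu i a)⁻¹ * g * x.mu i a) * x.ka i a := by
  rw [MP.mu, (mu_of_sq ha h1 h).1]; group

/-- `μ(v)` centralises `V (i ± 4)` for all `v ∈ U i` -/
theorem mu_cmV (ha : a ∈ x.U i) (h1 : a ≠ 1) (hv : v ∈ V x j)
    (e : j = i + 4 ∨ j = i - 4 := by omega) : (x.mu i a)⁻¹ * v * x.mu i a = v := by
  have h2 := V.cm hv (ka_mem ha h1 (2 * j - i))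
  have h3 := V.cm hv (la_mem ha h1 (2 * j - i))
  have h4 := V.cm hv ha
  have : x.mu i a * v = v * x.mu i a := by
    rw [MP.mu, mul_assoc, h3, ← mul_assoc, mul_assoc _ a, h4, ← mul_assoc, h2]; group
  rw [mul_assoc, ← this]; group

/-- induction along the two reflections -/
theorem ind2 {P : ℤ → Prop} (h1 : ∀ j k, j + k = 10 → P j → P k) (h8 : ∀ j k, j + k = 8 → P j → P k)
    (h : P j) (k : ℤ) (e : (k - j) % 2 = 0 := by omega) : P k := by
  obtain ⟨t, rfl⟩ : ∃ t, k = j + 2 * t := ⟨(k - j) / 2, by omega⟩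
  clear e
  induction t using Int.induction_on with
  | zero => simpa using h
  | succ n ih => exact h1 _ _ (by omega) (h8 _ (8 - (j + 2 * n)) (by omega) ih)
  | pred n ih => exact h8 _ _ (by omega) (h1 _ (10 - (j + 2 * -n)) (by omega) ih)

theorem Hy.of_cen8 (h : H7.FS.Cen8 x) : Hy x := by
  obtain ⟨h2, z, hz, z1, h⟩ := h
  obtain ⟨a, ha, a1⟩ := x.nontriv 1
  obtain ⟨b, hb, b1⟩ := x.nontriv 8
  refine ⟨h2, fun i _ => ind2 (P := fun i => ∃ v ∈ V x i, v ≠ 1) (j := 4) ?_ ?_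
    ⟨z, mem_V.2 ⟨hz, fun j _ _ g hg => (h j (by omega) (by omega) g hg).symm⟩, z1⟩ i⟩
  · rintro j k _ ⟨v, hv, v1⟩
    exact ⟨_, (rf_mu ha a1 10).V hv k, cj_ne v1 _⟩
  · rintro j k _ ⟨v, hv, v1⟩
    exact ⟨_, (rf_mu hb b1 8).V hv k, cj_ne v1 _⟩

theorem card_V (x : MP 8 G) (e : (i - j) % 2 = 0) : Nat.card (V x i) = Nat.card (V x j) := by
  obtain ⟨a, ha, a1⟩ := x.nontriv (j + (i - j) / 2 - 4)
  have r := rf_mu ha a1 (i + j)
  exact le_antisymm (card_le (m := (x.mu _ a)⁻¹) fun g hg => by simpa using r.V hg j)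
    (card_le (m := (x.mu _ a)⁻¹) fun g hg => by simpa using r.V hg i)

theorem card_U (x : MP 8 G) (e : (i - j) % 2 = 0) : Nat.card (x.U i) = Nat.card (x.U j) := by
  obtain ⟨a, ha, a1⟩ := x.nontriv (j + (i - j) / 2 - 4)
  have r := rf_mu ha a1 (i + j)
  exact le_antisymm (card_le (m := (x.mu _ a)⁻¹) fun g hg => by simpa using r.U hg j)
    (card_le (m := (x.mu _ a)⁻¹) fun g hg => by simpa using r.U hg i)

end H54.O8
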