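/- FS tower (S1144), chapter O8: first consequences. -/
import Cfsg.Agent.H54.O8Kit

set_option autoImplicit false
set_option linter.unusedSectionVars false

namespace H54.O8

open H12.BN H59.BN Subgroup
open H21.BN (sh)

variable {G : Type} [Group G] [Finite G] {x : MP 8 G} {c u v w : G}

theorem o2_base (hv : v ∈ V x 8) (v1 : v ≠ 1) (hc : c ∈ x.U 3)
    (h : c * x.ka 8 v = x.ka 8 v * c) : c = 1 := by
  have h5 := (rf_mu hv.1 v1 8).U hc 5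
  obtain ⟨d, hd, e⟩ := cj_lo (inv_mem (la_mem hv.1 v1 0)) h5 1 4
  rw [← lemR h] at e
  obtain ⟨z, hz, e'⟩ := cj_hi hc hv.1 4 7
  obtain ⟨g, hg, g1⟩ := x.nontriv 10
  have h1 := V.cmI hv (nor (toI (inv_mem hc) : _ ∈ II x.U 3 3) (toI hg : g ∈ II x.U 4 10))
  have h2 := V.cm hv hg
  have hz' : z * g = g * z := by
    rw [show z = c⁻¹ * (v⁻¹ * c * v) by rw [e']; group]
    calc _ = c⁻¹ * v⁻¹ * c * (v * g) := by group
      _ = c⁻¹ * v⁻¹ * (c⁻¹⁻¹ * g * c⁻¹ * v) * (v⁻¹ * c * v) := by rw [← h2]; group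
      _ = _ := by rw [h1]; group
  have z2 := inter hz (lemC' hg g1 (mono hz : z ∈ II x.U 4 10) hz' 6)
  have := un (i := 1) (k := 5) (l := 6) (j := 7) (mul_mem (mono hd) (toI h5)) (toI hc) (one_mem _) z2
    (by rw [mul_one, ← e, e'])
  have := un (i := 1) (k := 4) (l := 5) (j := 5) hd (toI hc) (toI h5) (one_mem _)
    (by rw [mul_one, this.1])
  exact cj_eq_one.1 this.2

theorem r27_base (H : Hy x) (hv : v ∈ V x 2) (hu : u ∈ x.U 7) (u1 : u ≠ 1) :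
    u⁻¹ * v * u = v * ((x.mu 7 u)⁻¹ * v * x.mu 7 u) := by
  have h4 := (rf_mu hu u1 6).V hv 4
  obtain ⟨d, hd, e⟩ := cj_lo (inv_mem (la_mem hu u1 (-1))) h4.1 0 3
  rw [← lemR (V.cm hv (ka_mem hu u1 (-1))).symm] at e
  obtain ⟨z, hz, e'⟩ := cj_hi hv.1 hu 3 6
  obtain ⟨w, hw, w1⟩ := H.cen 8 (by omega)
  have k := ka_mem hw.1 w1 0
  set m := (x.mu 7 u)⁻¹ * v * x.mu 7 u
  have e1 : v⁻¹ * d = z * m⁻¹ := by rw [show z = v⁻¹ * (d * m) by rw [← e, e']; group]; group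
  have h3 : v⁻¹ * d ∈ x.U 3 := ofI (inter (i := 0) (j := 6) (mul_mem (inv_mem (toI hv.1)) hd)
    (e1 ▸ mul_mem hz (inv_mem (toI h4.1))))
  have h1 := V.cmI hv (nor (toI (inv_mem hu) : _ ∈ II x.U 7 7) (toI k : _ ∈ II x.U 0 6))
  have h2 := V.cm hv k
  have h5 := V.cm h4 k
  have := o2_base hw w1 h3 (by
    rw [show v⁻¹ * d = v⁻¹ * (u⁻¹ * v * u) * m⁻¹ by rw [e]; group]
    calc _ = v⁻¹ * (u⁻¹ * v * u) * (m⁻¹ * (x.ka 8 w * m)) * m⁻¹ := by group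
      _ = v⁻¹ * u⁻¹ * (v * (u⁻¹⁻¹ * x.ka 8 w * u⁻¹)) * u * m⁻¹ := by rw [h5]; group
      _ = v⁻¹ * (x.ka 8 w * v) * (v⁻¹ * (u⁻¹ * v * u) * m⁻¹) := by rw [← h1]; group
      _ = _ := by rw [h2]; group)
  rw [e, ← inv_mul_eq_one.1 this]

theorem r28_base (hv : v ∈ V x 2) (v1 : v ≠ 1) (hw : w ∈ V x 8) (w1 : w ≠ 1)
    (w2 : w * w = 1) : ∃ c ∈ x.U 5, w⁻¹ * v * w =
      v * ((x.mu 2 v)⁻¹ * w * x.mu 2 v) * c * ((x.mu 8 w)⁻¹ * v * x.mu 8 w) := by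
  have h6 := (rf_mu hw.1 w1 8).U hv.1 6
  have h4 := (rf_mu hv.1 v1 12).U hw.1 4
  obtain ⟨d, hd, e⟩ := cj_lo (inv_mem (la_mem hw.1 w1 0)) h6 1 5
  rw [← lemR (V.cm hv (ka_mem hw.1 w1 0)).symm] at e
  obtain ⟨d', hd', e'⟩ := cj_hi h4 (inv_mem (la_mem hv.1 v1 10)) 5 9
  rw [← lemR (V.cm hw (ka_mem hv.1 v1 10)).symm] at e'
  set m := (x.mu 8 w)⁻¹ * v * x.mu 8 w
  set n := (x.mu 2 v)⁻¹ * w * x.mu 2 v
  have e1 : n⁻¹ * v⁻¹ * d = d' * w * m⁻¹ := by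
    rw [show d = w⁻¹ * v * w * m⁻¹ by rw [e]; group, show d' = n⁻¹ * (v⁻¹ * w * v) by rw [e']; group,
      inv_of_sq w2]
    group
  refine ⟨n⁻¹ * v⁻¹ * d, ofI (inter (i := 1) (j := 9)
    (mul_mem (mul_mem (inv_mem (toI h4)) (inv_mem (toI hv.1))) hd)
    (e1 ▸ mul_mem (mul_mem hd' (toI hw.1)) (inv_mem (toI h6)))), ?_⟩
  rw [e]; group

theorem r27 (H : Hy x) (i j : ℤ) (hi : i % 2 = 0) (hj : j = i + 5 ∨ j = i - 5) (v : G)
    (hv : v ∈ V x i) (u : G) (hu : u ∈ x.U j) (u1 : u ≠ 1) :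
    u⁻¹ * v * u = v * ((x.mu j u)⁻¹ * v * x.mu j u) := by
  rcases hj with hj | hj
  · obtain ⟨s, rfl⟩ : ∃ s, i = 2 + s := ⟨i - 2, by omega⟩
    obtain rfl : j = 7 + s := by omega
    simpa only [sh_mu] using r27_base (H.sh s) (by rwa [sh_V]) hu u1
  · obtain ⟨s, rfl⟩ : ∃ s, i = s - 2 := ⟨i + 2, by omega⟩
    obtain rfl : j = s - 7 := by omega
    simpa only [mir_mu] using r27_base (H.mir s) (by rwa [mir_V]) (by rwa [mir_U]) u1

theorem r27_sq (H : Hy x) {i j : ℤ} (hi : i % 2 = 0) (hj : j = i + 5) (hv : v ∈ V x i)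
    (hu : u ∈ x.U j) (u1 : u ≠ 1) : (u * u)⁻¹ * v * (u * u) =
      v * ((x.mu j u)⁻¹ * (v * v) * x.mu j u) := by
  have e := r27 H i j hi (.inl hj) v hv u hu u1
  have h := V.cm ((rf_mu hu u1 (2 * i + 2)).V hv (i + 2)) hu
  set m := (x.mu j u)⁻¹ * v * x.mu j u with hm
  calc _ = u⁻¹ * (u⁻¹ * v * u) * u := by group
    _ = u⁻¹ * v * (m * u) := by rw [e]; group
    _ = u⁻¹ * v * u * m := by rw [← h]; group
    _ = _ := by rw [e, hm]; group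

theorem sqU (H : Hy x) (j : ℤ) (hj : j % 2 = 1) (u : G) (hu : u ∈ x.U j) : u * u = 1 := by
  obtain ⟨v, hv, v1, v2⟩ : ∃ v ∈ V x (j - 5), v ≠ 1 ∧ v * v = 1 := by
    obtain ⟨v, hv, v1⟩ := H.cen (j - 5) (by omega)
    obtain ⟨k, hk⟩ := H.two _ ⟨v, hv.1⟩
    have hk' : v ^ 2 ^ k = 1 := by simpa using congrArg Subtype.val hk
    clear hk
    induction k generalizing v with
    | zero => exact absurd (by simpa using hk') v1
    | succ k ih =>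
      by_cases h : v * v = 1
      · exact ⟨v, hv, v1, h⟩
      · exact ih _ (mul_mem hv hv) h (by rwa [← sq, ← pow_mul, ← pow_succ'])
  by_contra h
  have u1 : u ≠ 1 := by rintro rfl; simp at h
  have e := r27_sq H (by omega) (by omega) hv hu u1
  rw [r27 H _ j (by omega) (by omega) v hv _ (mul_mem hu hu) h, v2] at e
  exact v1 (by simpa using e)

theorem sqV (H : Hy x) (i : ℤ) (hi : i % 2 = 0) (v : G) (hv : v ∈ V x i) : v * v = 1 := by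
  obtain ⟨u, hu, u1⟩ := x.nontriv (i + 5)
  have e := r27_sq H hi rfl hv hu u1
  rw [sqU H _ (by omega) u hu] at e
  simpa using e

theorem jobA : JobA := fun G _ _ x H =>
  { sqV := sqV H
    sqU := sqU H
    r27 := r27 H
    o2 := fun i j _ hj v hv v1 c hc h => by
      rcases hj with hj | hj
      · obtain ⟨s, rfl⟩ : ∃ s, i = s - 8 := ⟨i + 8, by omega⟩
        obtain rfl : j = s - 3 := by omega
        exact o2_base (x := mir x s) (by rwa [mir_V]) v1 (by rwa [mir_U]) (by rwa [mir_ka])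
      · obtain ⟨s, rfl⟩ : ∃ s, i = 8 + s := ⟨i - 8, by omega⟩
        obtain rfl : j = 3 + s := by omega
        exact o2_base (x := sh x s) (by rwa [sh_V]) v1 hc (by rwa [sh_ka])
    r28 := fun i j k hi hj hk v hv v1 w hw w1 => by
      have w2 := sqV H j (by omega) w hw
      obtain ⟨s, rfl⟩ : ∃ s, i = 2 + s := ⟨i - 2, by omega⟩
      obtain rfl : j = 8 + s := by omega
      obtain rfl : k = 5 + s := by omega
      simpa only [sh_mu, sh_U] using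
        r28_base (x := sh x s) (by rwa [sh_V]) v1 (by rwa [sh_V]) w1 w2 }

end H54.O8
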