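/- FS tower (S1144), chapter O8: the even root groups. -/
import Cfsg.Agent.H54.O8A

set_option autoImplicit false
set_option linter.unusedSectionVars false

namespace H54.O8

open H12.BN H59.BN Subgroup
open H21.BN (sh)

variable {G : Type} [Group G] [Finite G] {x : MP 8 G} {c u v w y n : G} {i j k s : ℤ}

theorem Rf.cm (r : Rf x s n) (h : ∀ g ∈ x.U j, g * y = y * g) (k : ℤ)
    (e : (j + k - s) % 16 = 0 := by omega) :
    ∀ g ∈ x.U k, g * (n⁻¹ * y * n) = n⁻¹ * y * n * g := fun g hg => by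
  calc _ = n⁻¹ * (n⁻¹⁻¹ * g * n⁻¹ * y) * n := by group
    _ = _ := by rw [h _ (r.inv.U hg j)]; group

theorem k4_base (hw : w ∈ V x 8) (w1 : w ≠ 1) (w2 : w * w = 1) (hu : u ∈ x.U 4) :
    u * x.ka 8 w = x.ka 8 w * u := by
  obtain ⟨d, hd, e⟩ := cj_lo (inv_mem (ka_mem hw.1 w1 0)) hu 1 3
  have r := rf_mu hw.1 w1 8
  have h := cj_ka hw.1 w1 w2 (d * u)
  have h1 := V.cm hw hu
  have e1 : (x.mu 8 w)⁻¹ * d * x.mu 8 w = d * u * ((x.mu 8 w)⁻¹ * u * x.mu 8 w)⁻¹ := by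
    calc _ = x.ka 8 w * ((x.ka 8 w)⁻¹ * ((x.mu 8 w)⁻¹ * (d * u) * x.mu 8 w) * x.ka 8 w) *
          (x.ka 8 w)⁻¹ * ((x.mu 8 w)⁻¹ * u * x.mu 8 w)⁻¹ := by group
      _ = x.ka 8 w * (w⁻¹ * (u * w)) * (x.ka 8 w)⁻¹ * ((x.mu 8 w)⁻¹ * u * x.mu 8 w)⁻¹ := by
          rw [← h, ← e]; group
      _ = _ := by rw [h1, ← e]; group
  have := inter0 (i := 1) (k := 4) (e1 ▸ mul_mem (mul_mem (mono hd) (toI hu))
    (inv_mem (toI (r.U hu 4)))) (r.I hd 5 7)
  rw [cj_eq_one.1 this, one_mul] at e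
  calc _ = (x.ka 8 w)⁻¹⁻¹ * u * (x.ka 8 w)⁻¹ * x.ka 8 w := by rw [e]
    _ = _ := by group

theorem k4 (H : Hy x) (i j : ℤ) (hi : i % 2 = 0) (hj : j = i + 4 ∨ j = i - 4) (v : G)
    (hv : v ∈ V x i) (v1 : v ≠ 1) (u : G) (hu : u ∈ x.U j) : u * x.ka i v = x.ka i v * u := by
  have v2 := sqV H i hi v hv
  rcases hj with hj | hj
  · obtain ⟨s, rfl⟩ : ∃ s, i = s - 8 := ⟨i + 8, by omega⟩
    obtain rfl : j = s - 4 := by omega
    simpa only [mir_ka] using k4_base (x := mir x s) (by rwa [mir_V]) v1 v2 (by rwa [mir_U])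
  · obtain ⟨s, rfl⟩ : ∃ s, i = 8 + s := ⟨i - 8, by omega⟩
    obtain rfl : j = 4 + s := by omega
    simpa only [sh_ka] using k4_base (x := sh x s) (by rwa [sh_V]) v1 v2 hu

/-- `μ(v)` centralises `U (i ± 4)` for `v ∈ V i` -/
theorem mu_cm (H : Hy x) (hv : v ∈ V x i) (v1 : v ≠ 1) (hu : u ∈ x.U j) (hi : i % 2 = 0 := by omega)
    (hj : j = i + 4 ∨ j = i - 4 := by omega) : (x.mu i v)⁻¹ * u * x.mu i v = u := by
  have h1 := k4 H i j hi hj v hv v1 u hu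
  have h2 := V.cm hv hu
  rw [MP.mu, (mu_of_sq hv.1 v1 (sqV H i hi v hv)).1]
  calc _ = x.ka i v * v⁻¹ * (x.ka i v)⁻¹ * (u * x.ka i v) * v * (x.ka i v)⁻¹ := by group
    _ = x.ka i v * v⁻¹ * (u * v) * (x.ka i v)⁻¹ := by rw [h1]; group
    _ = (x.ka i v * u) * (x.ka i v)⁻¹ := by rw [h2]; group
    _ = _ := by rw [← h1]; group

theorem cm_sym (H : Hy x) (hy : y ∈ x.U i) (h : ∀ g ∈ x.U j, g * y = y * g) (k : ℤ)
    (hi : i % 2 = 0 := by omega) (e : j + k = 2 * i := by omega) : ∀ g ∈ x.U k, g * y = y * g := by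
  obtain ⟨v, hv, v1⟩ := H.cen (i + 4) (by omega)
  have := (rf_mu hv.1 v1 (2 * i)).cm h k
  rwa [mu_cm H hv v1 hy] at this

theorem nv_base (H : Hy x) (C : C8 x) (hy : y ∈ x.U 2) (hc : c ∈ x.U 5) (c1 : c ≠ 1)
    (h : y * c = c * y) : y ∈ V x 2 := by
  have A := jobA G x H
  obtain ⟨w, hw, w1⟩ := H.cen 8 (by omega)
  have h5 : ∀ g ∈ x.U 5, g * y = y * g := fun g hg => by
    obtain ⟨d, -, e, he, -, f⟩ := C.f25 y hy w hw
    obtain ⟨v, hv, v4, h4, v6, h6, q⟩ := C.onto w hw w1 c hc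
    have e1 : e = 1 := by
      by_contra e1
      have f1 := f v hv v4 h4 c hc v6 h6 q
      rw [A.r27 2 7 (by omega) (by omega) v hv e he e1, mul_assoc, h] at f1
      obtain rfl : v = 1 := by simpa using f1
      have q1 := un (i := 4) (k := 5) (l := 6) (j := 6) (one_mem _) (mul_mem (toI h4.1) (toI hc))
        (one_mem _) (toI h6.1) (by simpa using q)
      exact c1 (un (i := 4) (k := 4) (l := 5) (j := 5) (one_mem _) (toI h4.1) (one_mem _) (toI hc)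
        (by simpa using q1.1)).2.symm
    obtain ⟨v, hv, v4, h4, v6, h6, q⟩ := C.onto w hw w1 g hg
    have f1 := f v hv v4 h4 g hg v6 h6 q
    rw [e1] at f1
    calc _ = g * (y * (v⁻¹ * (1⁻¹ * v * 1))) := by group
      _ = _ := by rw [← f1]; group
  have h1 := cm_sym H hy h5 (-1)
  obtain ⟨v, hv, v1⟩ := H.cen (-2) (by omega)
  have k6 := ka_mem hv.1 v1 6
  have ky := k4 H (-2) 2 (by omega) (by omega) v hv v1 y hy
  have o3 := A.o2 (-2) 3 (by omega) (by omega) v hv v1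
  generalize x.ka (-2) v = κ at k6 ky o3
  have h4 : ∀ u ∈ x.U 4, u * y = y * u := fun u hu => by
    obtain ⟨z, hz, e⟩ := cj_hi hy hu 3 3
    obtain ⟨f, hf, e'⟩ := cj_hi hu k6 5 5
    have q1 := h5 f (ofI hf)
    have q2 := C.c2 3 5 (by omega) (by omega) z (ofI hz) f (ofI hf)
    have := o3 z (ofI hz) (by
      calc _ = y⁻¹ * (u⁻¹ * y * u) * κ := by rw [e]; group
        _ = y⁻¹ * κ * (κ⁻¹ * u * κ)⁻¹ * κ⁻¹ * (y * κ) * (κ⁻¹ * u * κ) := by group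
        _ = y⁻¹ * κ * f⁻¹ * (u⁻¹ * y * u) * f := by rw [e', ky]; group
        _ = y⁻¹ * κ * f⁻¹ * y * (z * f) := by rw [e]; group
        _ = y⁻¹ * κ * f⁻¹ * (y * f) * z := by rw [q2]; group
        _ = y⁻¹ * (κ * y) * z := by rw [← q1]; group
        _ = _ := by rw [← ky]; group)
    rw [this, mul_one] at e
    calc _ = u * (u⁻¹ * y * u) := by rw [e]
      _ = _ := by group
  have h0 := cm_sym H hy h4 0
  have h2 : ∀ u ∈ x.U 2, u * y = y * u := by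
    obtain ⟨a, ha, a1⟩ := x.nontriv 7
    have r := rf_mu ha a1 6
    have m4 := r.U hy 4
    obtain ⟨d, hd, e⟩ := cj_lo (inv_mem (la_mem ha a1 (-1))) m4 0 3
    rw [← lemR (h1 _ (ka_mem ha a1 (-1))).symm] at e
    obtain ⟨z, hz, e'⟩ := cj_hi hy ha 3 6
    have q1 := r.cm h0 6 (by omega) κ k6
    have q2 := adj k6 ha
    set m := (x.mu 7 a)⁻¹ * y * x.mu 7 a with hm
    have e1 : y⁻¹ * d = z * m⁻¹ := by rw [show z = y⁻¹ * (d * m) by rw [← e, e']; group]; group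
    have h3 : y⁻¹ * d ∈ x.U 3 := ofI (inter (i := 0) (j := 6) (mul_mem (inv_mem (toI hy)) hd)
      (e1 ▸ mul_mem hz (inv_mem (toI m4))))
    have := o3 _ h3 (by
      rw [show y⁻¹ * d = y⁻¹ * (a⁻¹ * y * a) * m⁻¹ by rw [e]; group]
      calc _ = y⁻¹ * (a⁻¹ * y * a) * (m⁻¹ * (κ * m)) * m⁻¹ := by group
        _ = y⁻¹ * a⁻¹ * y * (a * κ) * m⁻¹ := by rw [q1]; group
        _ = y⁻¹ * a⁻¹ * (y * κ) * a * m⁻¹ := by rw [← q2]; group
        _ = y⁻¹ * a⁻¹ * (κ * a) * (a⁻¹ * y * a * m⁻¹) := by rw [ky]; group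
        _ = y⁻¹ * (κ * y) * (y⁻¹ * (a⁻¹ * y * a) * m⁻¹) := by rw [q2]; group
        _ = _ := by rw [← ky]; group)
    rw [← inv_mul_eq_one.1 this] at e
    have : ∀ u ∈ x.U 4, u * m = m * u := fun u hu => by
      have f6 := C.c3 7 4 6 (by omega) (by omega) a ha u⁻¹ (inv_mem hu)
      set f := a⁻¹ * u⁻¹⁻¹ * a * u⁻¹ with hf
      have p1 := V.cm f6 hy
      have p2 := V.cm f6 m4
      have p3 := h4 u hu
      calc _ = f⁻¹ * (a⁻¹ * u * a) * y⁻¹ * (y * m) := by rw [hf]; group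
        _ = f⁻¹ * (f * u) * y⁻¹ * (a⁻¹ * y * a) := by rw [e, hf]; group
        _ = y⁻¹ * (y * u) * y⁻¹ * (a⁻¹ * y * a) := by group
        _ = y⁻¹ * f⁻¹ * (f * u) * (a⁻¹ * y * a) := by rw [← p3]; group
        _ = y⁻¹ * f⁻¹ * a⁻¹ * (u * y) * a := by rw [hf]; group
        _ = y⁻¹ * f⁻¹ * (a⁻¹ * y * a) * (f * u) := by rw [p3, hf]; group
        _ = y⁻¹ * f⁻¹ * y * (m * f) * u := by rw [e]; group
        _ = y⁻¹ * f⁻¹ * (y * f) * m * u := by rw [p2]; group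
        _ = _ := by rw [p1]; group
    have := r.inv.cm this 2
    simpa [hm, mul_assoc] using this
  have hI : ∀ g ∈ II x.U (-1) 5, g * y = y * g := fun g hg => cm_I (fun k _ _ => by
    have h3 : ∀ g ∈ x.U 3, g * y = y * g := fun g hg => adj hg hy
    have h1' : ∀ g ∈ x.U 1, g * y = y * g := fun g hg => adj hg hy
    interval_cases k <;> assumption) hg
  have h6 : ∀ u ∈ x.U 6, u * y = y * u := fun u hu => by
    obtain ⟨z, hz, e⟩ := cj_hi hy hu 3 5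
    have q : ∀ g ∈ II x.U (-1) 5, z * g = g * z := fun g hg => by
      have q1 := hI _ (nor (toI (inv_mem hu) : _ ∈ II x.U 6 6) hg)
      rw [show z = y⁻¹ * (u⁻¹ * y * u) by rw [e]; group]
      calc _ = y⁻¹ * u⁻¹ * (y * (u⁻¹⁻¹ * g * u⁻¹)) * u := by group
        _ = y⁻¹ * (g * y) * (y⁻¹ * (u⁻¹ * y * u)) := by rw [← q1]; group
        _ = _ := by rw [hI g hg]; group
    obtain ⟨g, hg, g1⟩ := x.nontriv (-1)
    have z3 := ofI (inter (lemC hg g1 (mono hz : z ∈ II x.U (-1) 5) (q g (toI hg)) 3) hz)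
    rw [A.o2 8 3 (by omega) (by omega) w hw w1 z z3 (q _ (toI (ka_mem hw.1 w1 0))), mul_one] at e
    calc _ = u * (u⁻¹ * y * u) := by rw [e]
      _ = _ := by group
  refine mem_V.2 ⟨hy, fun j _ _ g hg => ?_⟩
  by_cases e : j = -2
  · exact cm_sym H hy h6 j (by omega) (by omega) g hg
  by_cases e' : j = 6
  · exact h6 g (e' ▸ hg)
  exact hI g (toI hg)

theorem jobD (hC : JobC) : JobD := fun G _ _ x H D =>
  { k4 := k4 H
    nv := fun i j _ hj u hu c hc c1 h => by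
      rcases hj with hj | hj
      · obtain ⟨s, rfl⟩ : ∃ s, i = 2 + s := ⟨i - 2, by omega⟩
        obtain rfl : j = 5 + s := by omega
        simpa only [sh_V] using nv_base (H.sh s) (hC G _ (H.sh s) (D.sh s)) hu hc c1 h
      · obtain ⟨s, rfl⟩ : ∃ s, i = s - 2 := ⟨i + 2, by omega⟩
        obtain rfl : j = s - 5 := by omega
        simpa only [mir_V] using nv_base (H.mir s) (hC G _ (H.mir s) (D.mir s)) (by rwa [mir_U])
          (by rwa [mir_U]) c1 h }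

end H54.O8
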