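/- FS tower (S1144), chapter O8 (blueprints/O8.md): the kit for coordinates. -/
import Cfsg.Agent.H54.O8Kit

set_option autoImplicit false
set_option linter.unusedSectionVars false

namespace H54.O8

open H12.BN H59.BN H63.Oc Subgroup

variable {G : Type} [Group G] [Finite G] {x : MP 8 G} {K : Type} [Field K] [CharP K 2] {T : TF K}

theorem cj_mul (n a b : G) : n⁻¹ * (a * b) * n = n⁻¹ * a * n * (n⁻¹ * b * n) := by group
theorem cj_inv (n a : G) : n⁻¹ * a⁻¹ * n = (n⁻¹ * a * n)⁻¹ := by group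
theorem cj_cj (n a b : G) : n⁻¹ * (b⁻¹ * a * b) * n = (n⁻¹ * b * n)⁻¹ * (n⁻¹ * a * n) * (n⁻¹ * b * n) := by
  group
theorem cj_mul' (g g' a : G) : (g * g')⁻¹ * a * (g * g') = g'⁻¹ * (g⁻¹ * a * g) * g' := by group

theorem sg_ne {a : K} (h : a ≠ 0) : T.σ a ≠ 0 := (map_ne_zero _).2 h

namespace X8
variable (R : X8 x T)

/-- `n₁` -/
noncomputable abbrev N1 : G := x.mu 1 (R.X 1 1)
/-- `n₈` -/
noncomputable abbrev N8 : G := x.mu 8 (R.X 8 1)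

theorem mV (k : ℤ) (t : K) (h : 0 ≤ k ∧ k ≤ 8 ∧ k % 2 = 0 := by omega) : R.X k t ∈ V x k :=
  (R.ev k h.1 h.2.1 h.2.2).mem' t

theorem mU (k : ℤ) (t : K) (h : 0 ≤ k ∧ k ≤ 9 := by omega) : R.X k t ∈ x.U k := by
  by_cases e : k % 2 = 0
  · exact (R.mV k t).1
  · exact (R.od k (by omega) h.2 (by omega)).mem' t

theorem add (k : ℤ) (s t : K) (h : 0 ≤ k ∧ k ≤ 9 := by omega) : R.X k (s + t) = R.X k s * R.X k t := by
  by_cases e : k % 2 = 0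
  · exact (R.ev k h.1 (by omega) e).add s t
  · exact (R.od k (by omega) h.2 (by omega)).add s t

theorem inj (k : ℤ) (h : 0 ≤ k ∧ k ≤ 9 := by omega) : Function.Injective (R.X k) := by
  by_cases e : k % 2 = 0
  · exact (R.ev k h.1 (by omega) e).inj
  · exact (R.od k (by omega) h.2 (by omega)).inj

theorem zero (k : ℤ) (h : 0 ≤ k ∧ k ≤ 9 := by omega) : R.X k 0 = 1 := by
  simpa using R.add k 0 0

theorem sq (k : ℤ) (t : K) (h : 0 ≤ k ∧ k ≤ 9 := by omega) : R.X k t * R.X k t = 1 := by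
  rw [← R.add k, CharTwo.add_self_eq_zero, R.zero k]

theorem inv (k : ℤ) (t : K) (h : 0 ≤ k ∧ k ≤ 9 := by omega) : (R.X k t)⁻¹ = R.X k t :=
  inv_of_sq (R.sq k t)

theorem ne (k : ℤ) {t : K} (ht : t ≠ 0) (h : 0 ≤ k ∧ k ≤ 9 := by omega) : R.X k t ≠ 1 :=
  fun e => ht (R.inj k h (e.trans (R.zero k).symm))

theorem exV (k : ℤ) {g : G} (hg : g ∈ V x k) (h : 0 ≤ k ∧ k ≤ 8 ∧ k % 2 = 0 := by omega) :
    ∃ t, g = R.X k t := ((R.ev k h.1 h.2.1 h.2.2).mem g).1 hg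

theorem exU (k : ℤ) {g : G} (hg : g ∈ x.U k) (h : 1 ≤ k ∧ k ≤ 9 ∧ k % 2 = 1 := by omega) :
    ∃ t, g = R.X k t := ((R.od k h.1 h.2.1 h.2.2).mem g).1 hg

theorem rf1 : Rf x 10 R.N1 := rf_mu (R.mU 1 1) (R.ne 1 one_ne_zero) 10
theorem rf8 : Rf x 8 R.N8 := rf_mu (R.mU 8 1) (R.ne 8 one_ne_zero) 8

theorem N1_inv : R.N1⁻¹ = R.N1 := (mu_of_sq (R.mU 1 1) (R.ne 1 one_ne_zero) (R.sq 1 1)).2.1
theorem N8_inv : R.N8⁻¹ = R.N8 := (mu_of_sq (R.mU 8 1) (R.ne 8 one_ne_zero) (R.sq 8 1)).2.1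
theorem N1_sq : R.N1 * R.N1 = 1 := (mu_of_sq (R.mU 1 1) (R.ne 1 one_ne_zero) (R.sq 1 1)).2.2
theorem N8_sq : R.N8 * R.N8 = 1 := (mu_of_sq (R.mU 8 1) (R.ne 8 one_ne_zero) (R.sq 8 1)).2.2

theorem c1 (j k : ℤ) (t : K) (h : j + k = 10 ∧ 1 ≤ j ∧ 1 ≤ k ∧ j ≠ 5 := by omega) :
    R.N1⁻¹ * R.X j t * R.N1 = R.X k t := R.n1 j k h.1 h.2.1 h.2.2.1 h.2.2.2 t

theorem c8 (j k : ℤ) (t : K) (h : j + k = 8 ∧ 0 ≤ j ∧ 0 ≤ k := by omega) :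
    R.N8⁻¹ * R.X j t * R.N8 = R.X k t := R.n8 j k h.1 h.2.1 h.2.2 t

/-- `a^{n} = b` implies `b^{n} = a` -/
theorem back1 {a b : G} (h : R.N1⁻¹ * a * R.N1 = b) : R.N1⁻¹ * b * R.N1 = a := by
  rw [← h, ← cj_mul', R.N1_sq]; simp
theorem back8 {a b : G} (h : R.N8⁻¹ * a * R.N8 = b) : R.N8⁻¹ * b * R.N8 = a := by
  rw [← h, ← cj_mul', R.N8_sq]; simp

theorem r61 (t u : K) : (R.X 1 u)⁻¹ * R.X 6 t * R.X 1 u = R.X 6 t * R.X 4 (t * u) := by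
  have := congrArg (fun g => R.N8⁻¹ * g * R.N8) (R.r27 t u)
  simpa only [cj_inv, cj_mul, R.c8 7 1, R.c8 2 6, R.c8 4 4] using this

theorem r83 (t u : K) : (R.X 3 u)⁻¹ * R.X 8 t * R.X 3 u = R.X 8 t * R.X 6 (t * u) := by
  have := congrArg (fun g => R.N1⁻¹ * g * R.N1) (R.r27 t u)
  simpa only [cj_inv, cj_mul, R.c1 7 3, R.c1 2 8, R.c1 4 6] using this

theorem r05 (t u : K) : (R.X 5 u)⁻¹ * R.X 0 t * R.X 5 u = R.X 0 t * R.X 2 (t * u) := by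
  have := congrArg (fun g => R.N8⁻¹ * g * R.N8) (R.r83 t u)
  simpa only [cj_inv, cj_mul, R.c8 3 5, R.c8 8 0, R.c8 6 2] using this

theorem r49 (t u : K) : (R.X 9 u)⁻¹ * R.X 4 t * R.X 9 u = R.X 4 t * R.X 6 (t * u) := by
  have := congrArg (fun g => R.N1⁻¹ * g * R.N1) (R.r61 t u)
  simpa only [cj_inv, cj_mul, R.c1 1 9, R.c1 6 4, R.c1 4 6] using this

include R in
theorem cd : Cd x := fun i j _ _ => by
  rw [card_V x (j := 2) (by omega), card_U x (j := 1) (by omega),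
    (R.ev 2 (by omega) (by omega) (by omega)).card, (R.od 1 (by omega) (by omega) (by omega)).card]

/-- `κ(X 1 1) = X 9 1` -/
theorem ka1 (A : A8 x) : x.ka 1 (R.X 1 1) = R.X 9 1 ∧ R.N1 = R.X 9 1 * R.X 1 1 * R.X 9 1 ∧
    R.N1 = R.X 1 1 * R.X 9 1 * R.X 1 1 := by
  have h := R.mU 1 1
  have h1 := R.ne 1 (one_ne_zero (α := K))
  have k := ka_mem h h1 9
  obtain ⟨k1, k2, k3⟩ := ka_ka h h1 9
  have e1 : R.N1 = x.ka 1 (R.X 1 1) * R.X 1 1 * x.ka 1 (R.X 1 1) := by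
    rw [N1, MP.mu, (A.muU h h1).1, inv_of_sq (A.sqU 9 (by omega) _ k)]
  have e2 : R.N1 = R.X 1 1 * x.ka 1 (R.X 1 1) * R.X 1 1 := by
    have := (A.muU k k1).1
    rw [k2] at this
    rw [N1, ← k3, MP.mu, k2, ← inv_inv (x.ka 9 _), ← this, R.inv 1]
  have e3 : x.ka 1 (R.X 1 1) = R.X 9 1 := by
    rw [← R.c1 1 9, R.N1_inv]
    nth_rw 1 [e1]
    rw [e2]
    calc _ = x.ka 1 (R.X 1 1) * R.X 1 1 * (x.ka 1 (R.X 1 1) * x.ka 1 (R.X 1 1)) * R.X 1 1 := by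
          rw [A.sqU 9 (by omega) _ k, mul_one, mul_assoc, R.sq 1, mul_one]
      _ = x.ka 1 (R.X 1 1) * R.X 1 1 * (x.ka 1 (R.X 1 1) * (R.X 1 1 * R.X 1 1) *
          x.ka 1 (R.X 1 1)) * R.X 1 1 := by rw [R.sq 1, mul_one]
      _ = _ := by group
  exact ⟨e3, e3 ▸ e1, e3 ▸ e2⟩

variable {R} {g g' : G} {a b a' b' : K}

theorem tor_mul (ha : a ≠ 0) (hb : b ≠ 0) (ha' : a' ≠ 0) (hb' : b' ≠ 0) (h : Tor x T R.X g a b)
    (h' : Tor x T R.X g' a' b') : Tor x T R.X (g * g') (a * a') (b * b') :=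
  R.tor_of _ _ _ (mul_ne_zero ha ha') (mul_ne_zero hb hb') (h.nk.mul h'.nk)
    (fun t => by rw [cj_mul', h.t4, h'.t4, map_mul, map_mul]; congr 1; ring)
    (by rw [cj_mul', h.t6, h'.t6, map_mul, map_mul]; congr 1; ring)

theorem tor_inv (ha : a ≠ 0) (hb : b ≠ 0) (h : Tor x T R.X g a b) : Tor x T R.X g⁻¹ a⁻¹ b⁻¹ := by
  have h1 := sg_ne (T := T) ha
  have h2 := sg_ne (T := T) hb
  refine R.tor_of _ _ _ (inv_ne_zero ha) (inv_ne_zero hb) h.nk.inv (fun t => ?_) ?_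
  · rw [eq_comm, ← mul_inv_eq_iff_eq_mul, ← inv_mul_eq_iff_eq_mul, inv_inv, inv_inv, ← mul_assoc, h.t4,
      map_inv₀, map_inv₀]
    congr 1; field_simp
  · rw [eq_comm, ← mul_inv_eq_iff_eq_mul, ← inv_mul_eq_iff_eq_mul, inv_inv, inv_inv, ← mul_assoc, h.t6,
      map_inv₀, map_inv₀]
    congr 1; field_simp

theorem tor_n1 (ha : a ≠ 0) (hb : b ≠ 0) (h : Tor x T R.X g a b) :
    Tor x T R.X (R.N1⁻¹ * g * R.N1) a⁻¹ (a * b) := by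
  have h1 := sg_ne (T := T) ha
  refine R.tor_of _ _ _ (inv_ne_zero ha) (mul_ne_zero ha hb) (R.rf1.nk h.nk) (fun t => ?_) ?_
  · rw [← R.c1 6 4, ← cj_cj, h.t6, R.c1 6 4, map_inv₀, map_mul]
    congr 1; field_simp
  · rw [← R.c1 4 6, ← cj_cj, h.t4, R.c1 4 6, map_inv₀, map_mul]
    congr 1; field_simp

theorem tor_n8 (ha : a ≠ 0) (hb : b ≠ 0) (h : Tor x T R.X g a b) :
    Tor x T R.X (R.N8⁻¹ * g * R.N8) (a * (b ^ 2 * T.σ b)) b⁻¹ := by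
  have h2 := sg_ne (T := T) hb
  refine R.tor_of _ _ _ (by positivity) (inv_ne_zero hb) (R.rf8.nk h.nk) (fun t => ?_) ?_
  · rw [← R.c8 4 4, ← cj_cj, h.t4, R.c8 4 4]
    simp only [map_inv₀, map_mul, map_pow, T.sq]
    congr 1; field_simp
  · rw [← R.c8 2 6, ← cj_cj, h.t2, R.c8 2 6]
    simp only [map_inv₀, map_mul, map_pow, T.sq]
    congr 1; field_simp

end X8

namespace Y8
variable (Y : Y8 x T)

theorem mY (k : ℤ) (t : K) (h : 0 ≤ k ∧ k ≤ 8 ∧ k % 2 = 0 := by omega) : Y.y k t ∈ x.U k :=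
  Y.y_mem k h.1 h.2.1 h.2.2 t

/-- the torus acts on the normal form by `dg` -/
theorem fm_tor {g : G} {a b : K} (ha : a ≠ 0) (hb : b ≠ 0) (h : Tor x T Y.X g a b) (c : Co T) :
    g⁻¹ * Y.fm c * g = Y.fm (dg T a b c) := by
  have := Y.y_tor g a b ha hb h
  simp only [fm, dg, cj_mul, h.t1, h.t2, h.t3, h.t4, h.t5, h.t6, h.t7, h.t8, this]

end Y8

end H54.O8
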