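import Cfsg.Agent.H54.YSFin

/-! The symplectic model `Sp_(2k)(q) ≤ Sp_(2k)(q²)` without a condition on `q` (`k = 3`, `q = 2` allowed). -/

set_option autoImplicit false
set_option linter.unusedSectionVars false

namespace H54.Y6S

open H64.SG (O2 Syl Cz Cs Ns cjs Is2 Inv2 IsO2 fx mem_Cz mem_Cs mem_fx)
open Subgroup H67.SP H64.YE H54.YS Matrix H54
open H67.UA hiding Par Base FV FW
open H67.SA (cm St la)
open H54.SPI (BB BB_apply BB_nd hf_sr)
open H54.SPF (v1 v2 m1 m2 hf_evv li_ev li_iff)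
open H86.SPI (hf_comm)

/-- `n + 1 = 2 k ≥ 6` -/
class P0 (n : ℕ) : Prop where
  odd : Odd n
  five : 5 ≤ n

section Kit

variable {n : ℕ} {F : Type} [Field F] [StarRing F] [TrivialStar F] [CharP F 2] [Finite F] [p : P0 n]

theorem hf_split (x y : Vn n F) : hf x y =
    (∑ i with i.val < kk n, x i * y i.rev) + ∑ i with i.val < kk n, y i * x i.rev := by
  obtain ⟨m, hm⟩ := p.odd
  rw [hf, ← Finset.sum_filter_add_sum_filter_not Finset.univ fun i : Fin (n + 1) => i.val < kk n]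
  simp only [star_trivial]
  congr 1
  have h : ∀ i : Fin (n + 1), ¬ i.val < kk n ↔ i.rev.val < kk n := fun i => by
    have := i.2
    simp only [Fin.val_rev, kk]
    omega
  refine Finset.sum_nbij' Fin.rev Fin.rev (fun i hi => ?_) (fun i hi => ?_) (by simp) (by simp)
    fun i _ => by simp [mul_comm]
  · exact Finset.mem_filter.2 ⟨Finset.mem_univ _, (h i).1 (Finset.mem_filter.1 hi).2⟩
  · exact Finset.mem_filter.2 ⟨Finset.mem_univ _, (h _).2 (by
      rw [Fin.rev_rev]; exact (Finset.mem_filter.1 hi).2)⟩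

theorem hf_self (x : Vn n F) : hf x x = 0 := by
  rw [hf_split, CharTwo.add_self_eq_zero]

theorem ok {u x : Vn n F} (h : hf x u = 0) (c : F) : Ok u x c :=
  ⟨hf_self u, h, by rw [hf_self, tr_eq_zero.2 (star_trivial c)]⟩

theorem pp {u x : Vn n F} (h : hf u x = 0) : Pp u x := ⟨hf_self u, hf_self x, h⟩

theorem BB_alt : (BB n F).IsAlt := hf_self

theorem ac_T (c : F) (u y : Vn n F) : ac (Tc c u) y = y + (c * hf y u) • u :=
  ac_Tc (hf_self u) (star_trivial c) y

variable (n F) in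
/-- `X` acts by isometries -/
noncomputable def lin : XU n F →* Isom (BB n F) where
  toFun g := isomOfLin BB_nd (Matrix.mulVecLin (mt g)) (hf_ac g)
  map_one' := Isom_ext fun v => ac_one v
  map_mul' g h := Isom_ext fun v => ac_mul g h v

theorem lin_smul (g : XU n F) (v : Vn n F) : lin n F g • v = ac g v := rfl

theorem lin_bij : Function.Bijective (lin n F) :=
  ⟨fun g h e => ac_ext fun v => by rw [← lin_smul, e, lin_smul],
    MonoidHom.range_eq_top.1 (isom_eq_top_of_tvV_mem BB_nd BB_alt _ fun v c =>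
      ⟨Tc c v, Isom_ext fun w => by rw [lin_smul, ac_T, tvV_smul]; rfl⟩)⟩

variable (n) in
include p in
theorem two_kk : n + 1 = 2 * kk n := by
  obtain ⟨m, hm⟩ := p.odd
  rw [kk]; omega

omit p in
/-- the hyperbolic numbering of the basis -/
noncomputable def eps (n : ℕ) [P0 n] : Fin (kk n) ⊕ Fin (kk n) ≃ Fin (n + 1) :=
  Equiv.ofBijective (Sum.elim (fun i => ⟨i, by have := two_kk n; omega⟩)
    fun i => ⟨n - i, by omega⟩) ((Fintype.bijective_iff_injective_and_card _).2 ⟨by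
      have := two_kk n
      rintro (i | i) (j | j) e <;> simp only [Sum.elim_inl, Sum.elim_inr, Fin.mk.injEq] at e
      · rw [Fin.ext e]
      · omega
      · omega
      · rw [show i = j from Fin.ext (by omega)], by
      have := two_kk n
      simp only [Fintype.card_sum, Fintype.card_fin]; omega⟩)

theorem eps_inr (i : Fin (kk n)) : eps n (Sum.inr i) = (eps n (Sum.inl i)).rev :=
  Fin.ext (by simp [eps, Fin.val_rev])

theorem sum_eps (f : Fin (n + 1) → F) :
    ∑ i : Fin (kk n), f (eps n (Sum.inl i)) = ∑ i with i.val < kk n, f i := by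
  refine Finset.sum_bij (fun i _ => eps n (Sum.inl i)) (fun i _ => ?_) (fun i _ j _ e => ?_)
    (fun j hj => ?_) fun _ _ => rfl
  · exact Finset.mem_filter.2 ⟨Finset.mem_univ _, i.2⟩
  · exact Sum.inl_injective ((eps n).injective e)
  · exact ⟨⟨j, (Finset.mem_filter.1 hj).2⟩, Finset.mem_univ _, rfl⟩

theorem tr : ∃ (φ : XU n F ≃* symplecticGroup (Fin (kk n)) F)
    (A : Vn n F ≃ₗ[F] (Fin (kk n) ⊕ Fin (kk n) → F)), (∀ g v, φ g • A v = A (ac g v)) ∧
      (∀ x y, H54.spB (Fin (kk n)) F (A x) (A y) = hf x y) ∧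
      ∀ σ : RingAut F, ∀ v i, A (fun j => σ (v j)) i = σ (A v i) := by
  have h : ∀ x y : Vn n F, H54.spB (Fin (kk n)) F (LinearEquiv.funCongrLeft F F (eps n) x)
      (LinearEquiv.funCongrLeft F F (eps n) y) = BB n F x y := fun x y => by
    rw [BB_apply, hf_split, spB_eq_sum, ← sum_eps, ← sum_eps, ← Finset.sum_add_distrib]
    refine Finset.sum_congr rfl fun i _ => ?_
    simp only [LinearEquiv.funCongrLeft_apply, LinearMap.funLeft_apply, eps_inr, CharTwo.sub_eq_add]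
    ring
  exact ⟨(MulEquiv.ofBijective _ lin_bij).trans (isomEquivSp _ h), _,
    fun g v => isomEquivSp_smul _ h _ v, h, fun _ _ _ => rfl⟩

theorem witt {ι : Type} (v w : ι → Vn n F) (hv : LinearIndependent F v)
    (hw : LinearIndependent F w) (h : ∀ i j, hf (v i) (v j) = hf (w i) (w j)) :
    ∃ g : XU n F, ∀ i, ac g (v i) = w i := by
  obtain ⟨k, hk⟩ := isom_witt BB_nd BB_alt v w hv hw h
  obtain ⟨g, rfl⟩ := lin_bij.2 k
  exact ⟨g, hk⟩

theorem w1 (v : Vn n F) (h0 : v ≠ 0) : ∃ g : XU n F, ac g (ev 0) = v := by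
  obtain ⟨g, hg⟩ := witt (fun _ : Unit => ev 0) (fun _ => v) (linearIndependent_unique_iff.2 (ev_ne 0))
    (linearIndependent_unique_iff.2 h0) fun _ _ => by rw [hf_self, hf_self]
  exact ⟨g, hg ()⟩

theorem w2 (u v : Vn n F) (h : hf u v = 0) (hl : Li u v) :
    ∃ g : XU n F, ac g (ev 0) = u ∧ ac g (ev 1) = v := by
  have := p.five
  have h1 := m1 p.five
  have hf' : Function.Injective ![(0 : Fin (n + 1)), 1] := fun i j e => by
    fin_cases i <;> fin_cases j <;> simp_all [Fin.ext_iff]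
  obtain ⟨g, hg⟩ := witt _ _ (li_ev hf') (li_iff.1 hl) fun i j => by
    fin_cases i <;> fin_cases j <;> simp [hf_evv, h1, hf_self, h, hf_symm h] <;> omega
  exact ⟨g, hg 0, hg 1⟩

theorem tr' : ∃ φ : XU n F ≃* symplecticGroup (Fin (kk n)) F,
    (∀ k, Module.finrank F (spMov (φ k)) = rk k) ∧ ∀ k, IsAltType (φ k) ↔ Alt k := by
  obtain ⟨φ, A, h1, h2, -⟩ := tr (n := n) (F := F)
  refine ⟨φ, fun k => ?_, fun k => ⟨fun a v => by rw [hf_comm, ← h2, ← h1]; exact a _, fun a v => by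
      obtain ⟨v, rfl⟩ := A.surjective v
      rw [h1, h2, hf_comm]; exact a v⟩⟩
  have : spMov (φ k) = (LinearMap.range (mt k - 1).mulVecLin).map A.toLinearMap := by
    ext w
    constructor
    · rintro ⟨v, rfl⟩
      obtain ⟨v, rfl⟩ := A.surjective v
      exact ⟨_, ⟨v, rfl⟩, by
        rw [spN_apply, h1, mulVecLin_apply, sub_mulVec, one_mulVec, map_sub]; rfl⟩
    · rintro ⟨_, ⟨v, rfl⟩, rfl⟩
      exact ⟨A v, by rw [spN_apply, h1, mulVecLin_apply, sub_mulVec, one_mulVec, map_sub]; rfl⟩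
  rw [this, LinearEquiv.finrank_map_eq]; rfl

theorem li0 {v : Vn n F} (i : Fin (n + 1)) (hi : i ≠ 0) (h : v i ≠ 0) : Li (ev 0) v := fun a b e => by
  have h1 := congrFun e i
  simp only [Pi.add_apply, Pi.smul_apply, smul_eq_mul, ev_apply, if_neg hi, mul_zero, zero_add,
    Pi.zero_apply] at h1
  have hb : b = 0 := (mul_eq_zero.1 h1).resolve_right h
  rw [hb, zero_smul, add_zero] at e
  exact ⟨(smul_eq_zero.1 e).resolve_right (ev_ne 0), hb⟩

end Kit

section Two

variable {n : ℕ} {F : Type} [Field F] [StarRing F] [TrivialStar F] [CharP F 2] [Finite F]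
  {K : Type} [Field K] [StarRing K] [TrivialStar K] [CharP K 2] [Finite K] [p : Par n K]
  [Base n K] (x : Qx F K)

include p in
theorem p0 : P0 n := ⟨p.odd, p.five⟩

theorem iT_EE {u y : Vn n F} (h : hf y u = 0) (c : F) :
    iT n x (EE u y c) = EE (vx n x u) (vx n x y) (x.φ c) :=
  have := p0 (n := n) (K := K)
  X_ext (Matrix.ext fun i j => by
    rw [← ac_ev, ← ac_ev, ← vx_ev n x j, ac_iT, ac_EE (ok h c),
      ac_EE (FV.ok _ _ _ (by rw [hf_vx, h, map_zero]))]
    simp only [vx_add, vx_smul, hf_vx, map_mul])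

theorem iT_TT (u : Vn n F) : iT n x (TT u) = TT (vx n x u) := by
  rw [TT, Tc, iT_EE x (hf_zero_left u), vx_zero, map_one]

theorem t2 : tT n x * tT n x = 1 := by rw [← FA.fs_mul, sg_sq, H54.SPF.fs_one]

theorem fix (y : XU n K) : tT n x y = y ↔ y ∈ (iT n x).range := by
  refine ⟨fun h => ?_, fun ⟨g, e⟩ => e ▸ tT_iT n x g⟩
  have h1 : ∀ i j, ∃ a, x.φ a = mt y i j := fun i j =>
    (x.fix _).1 (congrFun (congrFun (congrArg H67.UA.mt h) i) j)
  choose M hM using h1
  have h2 : ∀ v : Vn n F, vx n x (Matrix.mulVec M v) = ac y (vx n x v) := fun v => funext fun i => by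
    simp [vx, ac, Matrix.mulVec, dotProduct, hM]
  obtain ⟨g, e⟩ := H59.SPV.isom M fun v w => x.φ.injective (by
    rw [← hf_vx n x, h2, h2, hf_ac, hf_vx])
  exact ⟨g, X_ext (Matrix.ext fun i j => by rw [mt_bc, e]; exact hM i j)⟩

theorem m1' (h : ∃ a u, a * (tT n x a)⁻¹ = iT n x u ∧ (iT n x).range ⊔ cjs a (iT n x).range = ⊤) :
    M1 (iT n x) (tT n x) (UU n K) := by
  refine ⟨t2 x, fix x, FW.sylU, H67.SA.mem_St_of_finite fun g hg => ?_, fun h' => ?_, h⟩
  · refine (FV.mem_U _).2 fun j v hv i hi => ?_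
    obtain ⟨w, rfl⟩ := H54.SPF.map_surj x.σ v
    have := (FV.mem_U _).1 hg j w (fun k hk => by simpa using hv k hk) i hi
    rw [FA.fs_ac, Pi.add_apply, ← map_add, ← Pi.add_apply, this, map_zero]
  · obtain ⟨o, ho⟩ := FA.out (n := n) (F := K)
    exact sg_ne x (by rw [← ho 1 x.σ, map_one, one_mul]; exact out_comm h')

/-- Hilbert 90. -/
theorem h90 [FO n K] (v : XU n K) (h : v * tT n x v = 1) : ∃ g, v = g * (tT n x g)⁻¹ := by
  obtain ⟨o, ho⟩ := FA.out (n := n) (F := K)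
  have h1 : ∀ g, o (MulAut.conj g) = 1 := fun g => by
    simpa [H54.SPF.fs_one] using ho g 1
  obtain ⟨g, σ, -, -, e⟩ := FO.std (MulAut.conj v * tT n x) (by
    rw [H54.SPF.semi_mul, h, sg_sq, H54.SPF.fs_one, map_one, mul_one]) fun g e =>
      sg_ne x (by rw [← ho v x.σ, e, h1])
  have h2 : x.σ = σ := by
    rw [← ho v x.σ, e, map_mul, ho, map_inv, h1, inv_one, mul_one]
  refine ⟨g, FA.ns.conj_inj (mul_right_cancel (b := tT n x) ?_)⟩
  rw [e, ← h2]
  ext1 y
  simp [mul_assoc]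

theorem m2' [FO n K] :
    M2 (iT n x) (tT n x) (fun _ => True) ∧ M3 (iT n x) (tT n x) fun _ => True := by
  refine ⟨⟨fun u h _ => h90 x _ (by rw [tT_iT, ← map_mul, h, map_one]), fun v h => ?_⟩,
    fun β h _ h1 h2 => ?_⟩
  · obtain ⟨g, e⟩ := h90 x v h
    exact ⟨g, 1, mul_one 1, by rw [map_one, mul_one, e]⟩
  · obtain ⟨o, ho⟩ := FA.out (n := n) (F := K)
    have := H57.isCyclic_ringAut (F := K)
    have h3 := H64.SG.eq_of_cyclic (R := ⊤) inferInstance (mem_top x.σ) (mem_top (o β))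
      ⟨sg_sq x, sg_ne x⟩ (by rw [← map_mul, h, map_one])
    rcases h3 with h3 | h3
    · obtain ⟨g, e⟩ := H54.SPF.inn_of ho h3
      exact absurd e (h1 g)
    · obtain ⟨g, e⟩ := H54.SPF.inn_of ho (α := β * tT n x) (by
        rw [map_mul, h3, ← one_mul (tT n x), ← map_one MulAut.conj, ho, sg_sq])
      exact absurd e (h2 g)

theorem ep : EP n x := fun B hB =>
  have := p0 (n := n) (K := K)
  gP1 _ fun v hv l => by
    obtain ⟨g, hg, e⟩ := tp _ _ (hy1 (K := K)).1 hv (li _ hy1 (ev_ne _)) l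
    have h : iT n x (TT (ev 1)) = TT (ev 1) := by rw [iT_TT, vx_ev]
    exact subset_closure ⟨g, hB hg, TT (ev 1), Tc_mul_self (hf_self _) (star_one F), trivial,
      h ▸ hB (TT_mem hy1.1), by rw [h, H86.SPI.TT_conj, e]⟩

open H76.YSGN (cj step2 TT_TT tri dec exists_c) in
open H86.SPI (hf_smul_right' TT_add_smul) in
theorem gen {c : K} (hc : x.σ c ≠ c) {A : Subgroup (XU n K)} (hA : ∀ g, iT n x g ∈ A)
    (h : TT (ev 1 + c • ev 0) ∈ A) : A = ⊤ := by
  have five := p.five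
  have := p0 (n := n) (K := K)
  have m1 := H54.SPF.m1 five
  have m2 := H54.SPF.m2 five
  have r0 : ∀ v, TT (vx n x v) ∈ A := fun v => iT_TT x v ▸ hA _
  have r1 : ∀ u v : Vn n F, hf u v = 0 → Li u v → TT (vx n x v + c • vx n x u) ∈ A := by
    intro u v h0 hl
    obtain ⟨g, g0, g1⟩ := w2 u v h0 hl
    have := cj (hA g) h
    rwa [ac_add, ac_smul, ← vx_ev n x 0, ← vx_ev n x 1, ac_iT, ac_iT, g0, g1] at this
  have r2 : ∀ v : Vn n F, hf (ev 0) v = 0 → Li (ev 0) v → EE (c • ev 0) (vx n x v) 1 ∈ A := by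
    intro v h0 hl
    have := A.mul_mem (r0 v) (r1 _ v h0 hl)
    rwa [TT_TT (by rw [hf_smul_right', hf_vx, hf_symm h0, map_zero, mul_zero]), vx_ev] at this
  have e1 : hf (ev 0 : Vn n F) (ev 1) = 0 := by rw [H54.SPF.hf_evv, if_neg (by simp; omega)]
  have e2 : hf (ev 0 : Vn n F) (ev 2) = 0 := by rw [H54.SPF.hf_evv, if_neg (by simp; omega)]
  have e3 : hf (ev 2 : Vn n F) (ev 1) = 0 := by
    rw [H54.SPF.hf_evv, if_neg (by simp [m1, m2]; omega)]
  have n1 : (1 : Fin (n + 1)) ≠ 0 := fun e => by simp [Fin.ext_iff, m1] at e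
  have n2 : (2 : Fin (n + 1)) ≠ 0 := fun e => by simp [Fin.ext_iff, m2] at e
  have n3 : (1 : Fin (n + 1)) ≠ 2 := fun e => by simp [Fin.ext_iff, m1, m2] at e
  have pz : ∀ v : Vn n F, hf (ev 0) v = 0 → hf (vx n x v) (c • ev 0) = 0 := fun v h0 => by
    rw [hf_smul_right', ← vx_ev n x 0, hf_vx, hf_symm h0, map_zero, mul_zero]
  have r3 : TT (c • ev 0) ∈ A :=
    tri (pz _ e1) (pz _ e2) (by rw [hf_vx, e3, map_zero])
      (r2 _ e1 (li0 1 n1 (by simp [ev_apply]))) (r2 _ e2 (li0 2 n2 (by simp [ev_apply])))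
      (vx_add n x _ _ ▸ r2 _ (by rw [hf_add_right, e1, e2, add_zero])
        (li0 1 n1 (by simp [ev_apply, n3])))
  have r4 : ∀ u : Vn n F, TT (c • vx n x u) ∈ A := by
    intro u
    by_cases hu : u = 0
    · rw [hu, vx_zero, smul_zero, H86.SPI.TT_zero]; exact A.one_mem
    · obtain ⟨g, g0⟩ := w1 u hu
      have := cj (hA g) r3
      rwa [ac_smul, ← vx_ev n x 0, ac_iT, g0] at this
  have r5 : ∀ (u : Vn n F) (s : K), TT (s • vx n x u) ∈ A := by
    intro u s
    obtain ⟨a, b, rfl⟩ := dec x hc s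
    have := A.mul_mem (r0 (a • u)) (r4 (b • u))
    rwa [vx_smul, vx_smul, smul_smul, TT_add_smul, mul_comm c] at this
  refine FW.genT A fun y => ?_
  by_cases hy : y = 0
  · rw [hy, H86.SPI.TT_zero]; exact A.one_mem
  obtain ⟨i, hi⟩ := Function.ne_iff.1 hy
  choose α β hαβ using fun j => dec x hc (y j)
  have st : ∀ (w : Vn n F) (z : Vn n K) (s : K), w i = 0 → TT z ∈ A → z i ≠ 0 →
      TT (z + s • vx n x w) ∈ A := fun w z s hw hz hz' =>
    step2 (r := vx n x (ev i.rev)) (r5 w) (r5 _) (vx_add n x _ _ ▸ r5 _)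
      (by rw [hf_vx, hf_ev_right, Fin.rev_rev, hw, map_zero]) hz
      (by rwa [vx_ev, hf_ev_right, Fin.rev_rev]) s
  have a0 := r5 (ev i) (y i)
  have a1 := st (Function.update α i 0) _ 1 (by simp) a0 (by simpa [vx, ev_apply] using hi)
  have a2 := st (Function.update β i 0) _ c (by simp) a1 (by simpa [vx, ev_apply] using hi)
  convert a2 using 2
  ext j
  by_cases hj : j = i
  · subst hj; simp [vx, ev_apply]
  · simp [vx, ev_apply, hj, hαβ j, mul_comm c]

open H76.YSGN (exists_c) in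
open H86.SPI (hf_smul_right' EE_sq EE_mul' TT_conj) in
theorem gn : ∃ a u, a * (tT n x a)⁻¹ = iT n x u ∧ (iT n x).range ⊔ cjs a (iT n x).range = ⊤ := by
  have five := p.five
  have m1 := H54.SPF.m1 five
  obtain ⟨c, hc⟩ := exists_c x
  obtain ⟨d, hd⟩ := (x.fix (c + x.σ c)).1 (by rw [map_add, x.sq, add_comm])
  have e0 : ∀ (L : Type) [Field L] [StarRing L] [TrivialStar L] (s : L),
      hf (s • ev (1 : Fin (n + 1)).rev : Vn n L) (ev 0) = 0 := fun L _ _ _ s => by
    rw [hf_smul_left, hf_ev, if_neg, mul_zero]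
    rw [Fin.rev_rev]; intro e; simp [Fin.ext_iff, m1] at e
  refine ⟨EE (ev 0) (c • ev (1 : Fin (n + 1)).rev) 0, EE (ev 0) (d • ev (1 : Fin (n + 1)).rev) 0,
    ?_, gen x hc (fun g => mem_sup_left ⟨g, rfl⟩) ?_⟩
  · have s0 : ∀ i : Fin (n + 1), (fun j => x.σ ((ev i : Vn n K) j)) = ev i := fun i => funext fun j => by
      simp only [ev_apply]; split_ifs <;> simp
    have s1 : (fun j => x.σ ((c • ev (1 : Fin (n + 1)).rev : Vn n K) j)) =
        x.σ c • ev (1 : Fin (n + 1)).rev := funext fun j => by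
      simp only [Pi.smul_apply, smul_eq_mul, map_mul, ev_apply]; split_ifs <;> simp
    rw [FA.fs_EE _ _ _ _ (e0 K c), s0, s1, map_zero, inv_eq_of_mul_eq_one_right (EE_sq (e0 K _) 0),
      EE_mul' (e0 K _) (e0 K _), iT_EE x (e0 F d), vx_ev, vx_smul, vx_ev, hd, map_zero,
      hf_smul_left, hf_smul_right', H86.SPI.hf_self, add_smul]
    simp
  · have h1 : hf (ev 1 : Vn n K) (ev 0) = 0 := by rw [H54.SPF.hf_evv, if_neg (by simp; omega)]
    have := mem_sup_right (S := (iT n x).range) (mem_map_of_mem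
      (MulAut.conj (EE (ev 0) (c • ev (1 : Fin (n + 1)).rev) 0)).toMonoidHom
      (K := (iT n x).range) ⟨TT (ev 1), rfl⟩)
    simp only [MulEquiv.toMonoidHom_eq_coe, MonoidHom.coe_coe, MulAut.conj_apply] at this
    rwa [iT_TT, vx_ev, TT_conj, ac_EE_perp (H86.SPI.ok (e0 K c) 0) h1, hf_smul_right', hf_ev, if_pos rfl,
      mul_one] at this

open H96.YS (rank_map alt_of_ev) in
theorem mi : MIa (iT n x) := by
  intro y hy
  have := p0 (n := n) (K := K)
  obtain ⟨φ, r1, a1⟩ := tr' (n := n) (F := F)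
  obtain ⟨ψ, r2, a2⟩ := H96.YS.tr' (n := n) (F := K)
  have h2 : ψ y ^ 2 = 1 := by rw [pow_two, ← map_mul, hy, map_one]
  have hle := (sqZero_iff_sq.2 h2).finrank_le
  obtain ⟨g, g2, gr, ga⟩ : ∃ g : symplecticGroup (Fin (kk n)) F, g ^ 2 = 1 ∧
      Module.finrank F (spMov g) = rk y ∧ (IsAltType g ↔ Alt y) := by
    by_cases ha : Alt y
    · obtain ⟨j, hj⟩ := ((a2 y).2 ha).even_finrank
      obtain ⟨g, b1, b2, b3⟩ := exists_inv_alt (l := Fin (kk n)) (F := F) (k := j) (by omega)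
      exact ⟨g, b1, by rw [b2, ← r2]; omega, iff_of_true b3 ha⟩
    · have h0 : 1 ≤ Module.finrank K (spMov (ψ y)) := by
        refine Nat.pos_of_ne_zero fun e => ha ((a2 y).1 fun v => ?_)
        have h3 := spN_mem (ψ y) v
        rw [Submodule.finrank_eq_zero.1 e, Submodule.mem_bot, spN_apply, sub_eq_zero] at h3
        rw [h3]
        exact spB_isAlt v
      obtain ⟨g, b1, b2, b3⟩ := exists_inv_not_alt (l := Fin (kk n)) (F := F) h0 hle
      exact ⟨g, b1, by rw [b2, r2], iff_of_false b3 ha⟩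
  obtain ⟨u, rfl⟩ := φ.surjective g
  have hu : u * u = 1 := φ.injective (by rw [map_mul, ← pow_two, g2, map_one])
  have hu' : iT n x u * iT n x u = 1 := by rw [← map_mul, hu, map_one]
  have e1 : rk (iT n x u) = rk u := by
    rw [rk, rk, ← rank_map x.φ (mt u - 1), mt_bc, Matrix.map_sub _ (map_sub x.φ),
      Matrix.map_one _ (map_zero _) (map_one _)]
  have e2 : Alt (iT n x u) ↔ Alt u := by
    refine ⟨fun a v => x.φ.injective ?_, fun a => alt_of_ev hu' fun i => ?_⟩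
    · rw [← hf_vx, ← ac_iT, a, map_zero]
    · rw [← vx_ev n x, ac_iT, hf_vx, a, map_zero]
  obtain ⟨w, hw⟩ := isConj_iff.1 ((FW.rkc _ _ hu' hy).2
    ⟨by rw [e1, ← r1, gr], by rw [e2, ← a1, ga]⟩)
  exact ⟨w, u, hw.symm⟩

include x in
theorem bi : BigI n F (XU n K) := by
  intro y hy
  obtain ⟨ψ, -, -⟩ := H96.YS.tr' (n := n) (F := K)
  have h2 : ψ y ^ 2 = 1 := by rw [pow_two, ← map_mul, hy.1, map_one]
  have hle := (sqZero_iff_sq.2 h2).finrank_le
  have hc := (sqZero_iff_sq.2 h2).card_centralizer rfl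
  rw [Fintype.card_fin] at hle hc
  generalize Module.finrank K (spMov (ψ y)) = s at hle hc
  obtain ⟨d, hd⟩ := Nat.exists_eq_add_of_le hle
  have h3 : 3 ≤ s + d := by have := p.five; rw [← hd, kk]; omega
  rw [show kk n - s = d by omega, spOrder] at hc
  letI := Fintype.ofFinite F
  obtain ⟨f, -, hf⟩ := FiniteField.card F 2
  rw [← Nat.card_eq_fintype_card] at hf
  obtain ⟨a, ha⟩ : ∃ a, s * (s + 1) = 2 * a := (Nat.even_mul_succ_self s).two_dvd
  rw [ha, Nat.mul_div_cancel_left _ two_pos, x.card, hf] at hc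
  have hdv : 2 ^ (f * (2 * (a + 2 * s * d + d ^ 2))) ∣ Nat.card (centralizer {ψ y}) := by
    rw [hc]
    refine Dvd.dvd.mul_right ?_ _
    rw [pow_mul, pow_mul, pow_add, ← mul_assoc]
    exact Dvd.intro _ rfl
  haveI : Fact (Nat.Prime 2) := ⟨Nat.prime_two⟩
  obtain ⟨P, hP⟩ := Sylow.exists_subgroup_card_pow_prime 2 hdv
  have inj : Function.Injective (ψ.symm.toMonoidHom.comp (centralizer {ψ y}).subtype) :=
    ψ.symm.injective.comp Subtype.val_injective
  have hc' := (card_map_of_injective (K := P) inj).trans hP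
  refine ⟨P.map (ψ.symm.toMonoidHom.comp (centralizer {ψ y}).subtype), ?_, IsPGroup.of_card hc', ?_⟩
  · rintro _ ⟨c, -, rfl⟩
    refine mem_fx.2 (ψ.injective ?_)
    have := mem_centralizer_singleton_iff.1 c.2
    simp only [MulAut.conj_apply, map_mul, map_inv, MonoidHom.comp_apply, MulEquiv.coe_toMonoidHom,
      MulEquiv.apply_symm_apply, coe_subtype]
    rw [← this, mul_inv_cancel_right]
  · rw [hc', bq, hf, ← pow_mul, hd]
    refine Nat.pow_lt_pow_right one_lt_two (Nat.mul_lt_mul_of_pos_left ?_ f.2)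
    rcases Nat.lt_or_ge d 2 with h | h
    · interval_cases d <;> nlinarith
    · nlinarith [Nat.zero_le s, Nat.zero_le (s * d)]

open H38.YS (good1 good2) in
open H59.S2FX (pl_wk w0 w1) in
theorem mc [FC n K] [KT n K] (e : EP n x) :
    MC (iT n x) (tT n x) (fun _ => True) (UU n K) (QQ n K) := by
  have := p.five
  have h1 := e _ (KT.nq (n := n) (K := K))
  refine ⟨good1 _, (KT.up.trans h1).trans le_sup_left, _, good2 _, ?_⟩
  have a : ∀ (L : Type) [Field L] [StarRing L] [TrivialStar L] [CharP L 2] [Finite L],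
      hf (ev 1 : Vn n L) (ev (Fin.rev 0)) = 0 := fun L _ _ _ _ _ => by
    rw [hf_ev, if_neg fun h => H59.S2FX.ne01 (F := K) (Fin.rev_injective h)]
  have hq : (qq (ev 1) (ev (Fin.rev 0)) : XU n F) * qq (ev 1) (ev (Fin.rev 0)) = 1 := by
    have := p0 (n := n) (K := K)
    rw [EE_mul (ok (a F) 0) (ok (a F) 0), v_add_self, hf_self, add_zero, add_zero, EE_zero]
  have b : iT n x (qq (ev 1) (ev (Fin.rev 0))) = qq (ev 1) (ev (Fin.rev 0)) := by
    rw [iT_EE x (a F), vx_ev, vx_ev, map_zero]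
  have c0 : ac (qq (ev 1) (ev (Fin.rev 0)) : XU n K) (ev 0) = ev 0 + ev 1 := by
    rw [H78.S2.ac_qq' (a K), H59.S2FX.h01, zero_smul, add_zero, hf_ev, if_pos rfl, one_smul]
  have c1 : ac (qq (ev 1) (ev (Fin.rev 0)) : XU n K) (ev 1) = ev 1 := by
    rw [H78.S2.ac_qq' (a K), H86.SPI.hf_self, a, zero_smul, zero_smul, add_zero, add_zero]
  refine KT.gP2 _ (h1.trans (le_sup_left.trans le_sup_left)) (qq (ev 1) (ev (Fin.rev 0)))
    (mem_sup_left (mem_sup_right (subset_closure ⟨1, one_mem _, _, hq, trivial,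
      ?_, by rw [b]; simp⟩))) ?_ fun r s h => ?_
  · rw [b]
    exact (H59.S2FX.nrm _ (by rw [c0]; exact H59.S2FX.w0.add H59.S2FX.w1)
      (by rw [c1]; exact H59.S2FX.w1)).1
  · rw [c0]
    exact (pl_wk (H59.S2FX.w0.add H59.S2FX.w1)).1
  · rw [c0, smul_add, ← add_assoc, ← add_smul] at h
    obtain ⟨h2, rfl⟩ := H59.S2FX.li01 _ _ h
    exact ⟨by simpa using h2, rfl⟩

open H57.YSRD (lr_xb xb_mem zq q_sq stZ stQ coQ map_ev) in
theorem rd [FC n K] [KT n K] (ep : EP n x) :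
    RD (iT n x) (tT n x) (fun _ => True) (UU n K) (xb n K) (ZL n K) (QQ n K) := by
  have cz : Cs (ZL n K) = PP n K := KT.cz
  refine ⟨((FR.rk _).1.1 lr_xb).1, ?_, xb_mem, zq, KT.qu, cz ▸ KT.up, fun z hz => q_sq (zq hz),
    fun y hy => by rw [q_sq hy]; exact one_mem _, fun z hz h1 => ?_,
    fun α => (FR.lr _).1 ((FA.cls α _).1 lr_xb), fun α h => stZ (h.symm ▸ xb_mem),
    fun α h => stQ ((h _).1 xb_mem), coQ, fun u hu h => FR.cE u (KT.up hu) h, ?_⟩
  · rw [H54.SPF.fs_TT, map_ev]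
  · obtain ⟨c, rfl⟩ := (FV.mem_Zl _ _).1 hz
    refine (FR.lr _).1 ⟨rt c • ev 0, fun h0 => h1 ?_, H54.SPI.Tc_eq c _⟩
    rw [H54.SPI.Tc_eq, h0]
    exact EE_zero_left _ _
  · rw [cz]
    exact (KT.qu.trans KT.up).trans (ep _ le_rfl)

end Two

theorem fact_ge (m : ℕ) (h : 20 ≤ m) : 2 * 8 ^ (m - 2) ≤ m.factorial := by
  induction m, h using Nat.le_induction with
  | base => decide
  | succ k hk ih =>
    rw [show k + 1 - 2 = k - 2 + 1 by omega, pow_succ, Nat.factorial_succ, ← mul_assoc, mul_comm]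
    exact Nat.mul_le_mul (by omega) ih

/-- Row S2363 with the bound `2 ^ 18`. -/
theorem na (Y : Type) [Group Y] [Finite Y] (P : Subgroup Y) (hY : Cfsg.IsLieTypeChar 2 Y)
    (hP : IsPGroup 2 P) (h20 : 2 ^ 18 ≤ Nat.card P) (m : ℕ) :
    IsEmpty (Y ≃* alternatingGroup (Fin m)) := by
  refine ⟨fun e => ?_⟩
  have : Fact (Nat.Prime 2) := ⟨Nat.prime_two⟩
  have h1 := (Cfsg.Agent.S2363.result 2 Nat.prime_two hY).1
  obtain ⟨j, hj⟩ := hP.exists_card_eq
  have c0 : Nat.card Y ≠ 0 := Nat.card_pos.ne'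
  have hd : 2 ^ j ∣ Nat.card Y := hj ▸ card_subgroup_dvd_card P
  have hk : 18 ≤ (Nat.card Y).factorization 2 :=
    ((Nat.pow_le_pow_iff_right one_lt_two).1 (hj ▸ h20)).trans
      ((Nat.prime_two.pow_dvd_iff_le_factorization c0).1 hd)
  have cY : Nat.card Y = Nat.card (alternatingGroup (Fin m)) := Nat.card_congr e.toEquiv
  have m2 : 2 ≤ m := by
    by_contra hlt
    have a : Nat.card Y ≤ m.factorial := by
      rw [cY]
      refine (card_le_card_group _).trans ?_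
      rw [Nat.card_perm, Nat.card_fin]
    have b := Nat.le_of_dvd Nat.card_pos hd
    have : m.factorial ≤ 1 := by
      have : m ≤ 1 := by omega
      interval_cases m <;> simp
    omega
  have : Nontrivial (Fin m) := Fin.nontrivial_iff_two_le.2 m2
  have c2 : 2 * Nat.card Y = m.factorial := by
    rw [cY, two_mul_nat_card_alternatingGroup, Nat.card_perm, Nat.card_fin]
  have v := padicValNat_factorial_lt_of_ne_zero 2 (n := m) (by omega)
  rw [← Nat.factorization_def _ Nat.prime_two, ← c2, Nat.factorization_mul two_ne_zero c0,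
    Finsupp.add_apply, Nat.prime_two.factorization_self] at v
  have f := fact_ge m (by omega)
  have : 2 ^ (3 * (Nat.card Y).factorization 2) ≤ 8 ^ (m - 2) := by
    rw [pow_mul]
    exact Nat.pow_le_pow_right (by norm_num) (by omega)
  omega

theorem ny {n : ℕ} {K : Type} [Field K] [StarRing K] [TrivialStar K] [CharP K 2] [Finite K]
    [p : Par n K] [Base n K] (h4 : 4 ≤ Nat.card K) : NA (XU n K) := fun m => by
  have := Fintype.ofFinite K
  have h5 := p.five
  have hk := H54.SPF.two_kk (n := n) (F := K)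
  refine ⟨fun e => (na (XU n K) (UU n K) (Or.inr (Or.inl ⟨K, _, this, inferInstance, kk n, by omega,
    fun h => by omega, FA.psp⟩)) FW.sylU.2.1 ?_ m).false
      ((((QuotientGroup.quotientMulEquivOfEq cen_bot).trans QuotientGroup.quotientBot).symm).trans e)⟩
  rw [FW.cardU]
  calc 2 ^ 18 = 4 ^ (3 ^ 2) := by norm_num
    _ ≤ 4 ^ (kk n ^ 2) := Nat.pow_le_pow_right (by norm_num) (Nat.pow_le_pow_left (by omega) _)
    _ ≤ _ := Nat.pow_le_pow_left h4 _

/-- All facts on the symplectic model, for all `k ≥ 3` and all `q`. -/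
theorem ms {n : ℕ} (ho : Odd n) (h5 : 5 ≤ n) {F : Type} [Field F] [StarRing F] [TrivialStar F]
    [CharP F 2] [Finite F] {K : Type} [Field K] [StarRing K] [CharP K 2] [Finite K] (x : Qx F K)
    (h : ∀ a : K, star a = a) : Mod (iS n x h) (tS n x h) fun _ => True := by
  have : TrivialStar K := ⟨h⟩
  have h4 : 4 ≤ Nat.card K := by
    have : 1 < Nat.card F := Finite.one_lt_card
    rw [x.card]; nlinarith
  have : Par n K := ⟨ho, h5, fun _ => h4⟩
  obtain ⟨b', c', o'⟩ := facts n K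
  have k' := jobKT n K b' c' o'
  obtain ⟨r1, r2, r3, r4⟩ := H94.YS.jobRB n K b' c' o' k'
  obtain ⟨s2, s3⟩ := m2' (n := n) x
  refine ⟨UU n K, ⟨m1' x (gn x), s2, jobQS n K b' c' o' k', s3⟩, Or.inl ⟨bi x, ny h4, mi x, xb n K,
    ZL n K, QQ n K, mc x (ep x), rd x (ep x), H60.YRS.jobRS n K b' c' o' k' _, ?_,
    H37.YSRNZ.jobRN n K b' c' o' k', H37.YSRNZ.jobRZ n K b' c' o' k' _⟩⟩
  refine ⟨?_, ?_, r2, ?_, r4, ?_⟩ <;> rw [k'.cz]
  exacts [r1, jobNB n K b' c' o' k', r3, H49.YSHQ.jobHQ n K b' c' o' k']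

end H54.Y6S
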