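import Cfsg.Agent.H81.YLAsm
import Cfsg.Agent.H54.Y6S

/-! The linear models `Sp_(2k)(2) ≤ SL_(2k)(2), SL_(2k+1)(2)`, `k ≥ 3`. -/

set_option autoImplicit false
set_option linter.unusedSectionVars false

namespace H54.Y6L

open H64.SG (O2 Syl Cz Cs Ns cjs Is2 Inv2 fx)
open Matrix H57 Subgroup H64.YE H67.UA H81.YL
open H67.SP (Alt kk xb fs ins mid)
open H67.SA (SLn Au la x gam out cm UU)
open H64.SF (Outer)
open H54.Y6S (P0 ok hf_self)
open H72.SPF (hs hr ex1)

theorem small : ∀ m < 20, ∀ k < 20, 9 ≤ k → 2 ^ (k + 1) ∣ m.factorial →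
    2 * 2 ^ (3 * k) ≤ m.factorial := by decide +kernel

/-- Row S2363 with the bound `2 ^ 9`. -/
theorem na (Y : Type) [Group Y] [Finite Y] (P : Subgroup Y) (hY : Cfsg.IsLieTypeChar 2 Y)
    (hP : IsPGroup 2 P) (h20 : 2 ^ 9 ≤ Nat.card P) (m : ℕ) :
    IsEmpty (Y ≃* alternatingGroup (Fin m)) := by
  refine ⟨fun e => ?_⟩
  have : Fact (Nat.Prime 2) := ⟨Nat.prime_two⟩
  have h1 := (Cfsg.Agent.S2363.result 2 Nat.prime_two hY).1
  obtain ⟨j, hj⟩ := hP.exists_card_eq
  have c0 : Nat.card Y ≠ 0 := Nat.card_pos.ne'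
  have hd : 2 ^ j ∣ Nat.card Y := hj ▸ card_subgroup_dvd_card P
  have hk : 9 ≤ (Nat.card Y).factorization 2 :=
    ((Nat.pow_le_pow_iff_right one_lt_two).1 (hj ▸ h20)).trans
      ((Nat.prime_two.pow_dvd_iff_le_factorization c0).1 hd)
  have cY : Nat.card Y = Nat.card (alternatingGroup (Fin m)) := Nat.card_congr e.toEquiv
  have m2 : 2 ≤ m := by
    by_contra hlt
    have a : Nat.card Y ≤ m.factorial := by
      rw [cY]
      refine (card_le_card_group _).trans ?_
      rw [Nat.card_perm, Nat.card_fin]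
    have b := Nat.le_of_dvd Nat.card_pos hd
    have : m.factorial ≤ 1 := by
      have : m ≤ 1 := by omega
      interval_cases m <;> simp
    omega
  have : Nontrivial (Fin m) := Fin.nontrivial_iff_two_le.2 m2
  have c2 : 2 * Nat.card Y = m.factorial := by
    rw [cY, two_mul_nat_card_alternatingGroup, Nat.card_perm, Nat.card_fin]
  have v := padicValNat_factorial_lt_of_ne_zero 2 (n := m) (by omega)
  rw [← Nat.factorization_def _ Nat.prime_two, ← c2, Nat.factorization_mul two_ne_zero c0,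
    Finsupp.add_apply, Nat.prime_two.factorization_self] at v
  by_cases h : m < 20
  · have := small m h _ (by omega) hk (by
      rw [← c2, pow_succ']
      exact Nat.mul_dvd_mul_left 2 (Nat.ordProj_dvd _ 2))
    omega
  have f := H54.Y6S.fact_ge m (by omega)
  have : 2 ^ (3 * (Nat.card Y).factorization 2) ≤ 8 ^ (m - 2) := by
    rw [pow_mul]
    exact Nat.pow_le_pow_right (by norm_num) (by omega)
  omega

variable {n m : ℕ} {F : Type} [Field F] [StarRing F] [TrivialStar F] [CharP F 2] [Finite F]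

theorem nl (h5 : 5 ≤ m) : NA (SLn m F) := by
  intro k
  let i := Fintype.ofFinite F
  let π := QuotientGroup.mk' (center (SLn m F))
  refine na _ ((H67.SA.UU m F).map π) (Or.inl ⟨F, _, i, inferInstance, m + 1, by omega,
    fun h => by omega, ⟨MulEquiv.refl _⟩⟩) (H67.SA.isP_UU.map π) ?_ k
  have hinj : Function.Injective (π.comp (H67.SA.UU m F).subtype) := by
    rw [injective_iff_map_eq_one]
    intro a ha
    exact Subtype.ext (H67.SA.eq_one_of_center ((QuotientGroup.eq_one_iff _).1 ha)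
      (H67.SA.is2_of_UU a.2))
  have hc : Nat.card ((H67.SA.UU m F).map π) = Nat.card (H67.SA.UU m F) := by
    rw [show (H67.SA.UU m F).map π = (π.comp (H67.SA.UU m F).subtype).range by
      rw [MonoidHom.range_comp, range_subtype]]
    exact (Nat.card_congr (MonoidHom.ofInjective hinj).toEquiv).symm
  rw [hc, H67.SA.card_UU]
  have h1 : 9 ≤ H67.SA.NN m := by
    unfold H67.SA.NN
    rw [Nat.le_div_iff_mul_le (by norm_num)]
    nlinarith
  exact (Nat.pow_le_pow_right (by norm_num) h1).trans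
    (Nat.pow_le_pow_left (H67.SA.one_lt_card (F := F)) _)

/-- What the two models share. -/
theorem model (q : Nat.card F = 2) (h : 5 ≤ m) (hk : (m + 1) / 2 = kk n)
    {ι : XU n F →* SLn m F} {Gd : XU n F → Prop} (fix : ∀ y, tau m F y = y ↔ y ∈ ι.range)
    (s : HS ι Gd) (m2 : M2 ι (tau m F) Gd) :
    MB ι (tau m F) Gd (UU m F) ∧ RtL ι (tau m F) Gd (UU m F) := by
  have r : ι.range = fx (tau m F) := Subgroup.ext fun y => (fix y).symm
  have bi : BigI n F (SLn m F) := fun y hy => by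
    have := H3.YL.jobBI m F h y hy
    rwa [hk] at this
  refine ⟨⟨⟨tau_mul_self, fix, H67.SA.syl_UU, tau_eq (m := m) (F := F) ▸ H67.SA.gam_UU,
    tne h, ?_⟩, m2, qs h, fun β h1 h2 h3 h4 => (out_ne h h1 h2 h3 h4 (RingEquiv.ext fun a => ?_)).elim⟩,
    bi, nl h, mia h fix, _, _, _, _, _, mc h s, rd h s q, H20.YLLD.jobLD m F h q⟩
  · obtain ⟨a, h1, h2⟩ := (Nat.even_or_odd m).elim (gen1 (F := F) h) (gen0 h)
    rw [← r] at h1 h2
    obtain ⟨u, hu⟩ := h1
    exact ⟨a, u, hu.symm, h2⟩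
  · by_cases a0 : a = 0
    · simp [a0]
    · simp [eq_one q a0]

section

variable [P0 n]

theorem sqE {u y : Vn n F} (h : hf y u = 0) (c : F) : EE u y c * EE u y c = 1 := by
  rw [EE_mul (ok h c) (ok h c), v_add_self, hf_self, add_zero, CharTwo.add_self_eq_zero, EE_zero]

theorem altE {u y : Vn n F} (hu : u ≠ 0) (h : hf y u = 0) (c : F) : Alt (EE u y c) ↔ c = 0 := by
  have k : ∀ v, hf (ac (EE u y c) v) v = c * hf v u ^ 2 := fun v => by
    rw [ac_EE (ok h c)]
    simp only [hf_add_left, hf_smul_left, hf_self, hs u v, hs y v]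
    linear_combination (hf v y * hf v u) * two0 F
  refine ⟨fun a => ?_, fun e v => by rw [k, e, zero_mul]⟩
  obtain ⟨z, hz⟩ := ex1 hu
  simpa [k, hz] using a z

end

theorem ml0' (ho : Odd n) (h : 5 ≤ n) (q : Nat.card F = 2) :
    (MB (io n F) (tau n F) Alt (UU n F) ∧ RtL (io n F) (tau n F) Alt (UU n F)) ∧
      NAl (io n F) (tau n F) := by
  have : P0 n := ⟨ho, h⟩
  have sy := H20.YLSY.jobSY n F h
  have tf : ∀ u : XU n F, tau n F (io n F u) = io n F u := fun u => u.2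
  have tw : ∀ u : XU n F, u * u = 1 → io n F u * tau n F (io n F u) = 1 := fun u hu => by
    rw [tf, ← map_mul, hu, map_one]
  have a1 : Al (1 : SLn n F) := fun y => by rw [H67.SA.val_one, one_mulVec, hf_self]
  have b2 : xb n F * xb n F = 1 := sqE (hf_zero_left _) 1
  have b3 : ¬ Alt (xb n F) := fun k => one_ne_zero ((altE (ev_ne 0) (hf_zero_left _) 1).1 k)
  refine ⟨model q h rfl (fun y => ?_)
    (fun i j c hi hj ij _ => ?_) ⟨fun u hu k => ?_, fun v hv => ?_⟩,
    fun u hu k => (sy _ (tw u hu.1)).2 _ (tw _ b2) (iff_of_false k b3)⟩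
  · rw [range_subtype]; rfl
  · have o : hf (c • ev i : Vn n F) (ev j.rev) = 0 := by
      rw [hf_smul_left, hf_ev, if_neg (by simpa using ij.symm), mul_zero]
    refine ⟨ss i j c, sqE o 0, (altE (ev_ne _) o 0).2 rfl, Subtype.ext ?_⟩
    change mt (ss i j c) = _
    have k : op (ev j.rev : Vn n F) (ev i) = single j.rev i.rev 1 := by rw [← op_ev, Fin.rev_rev]
    rw [mt_EE (ok o 0), mE, sx, H67.SA.val_mul, H67.SA.x_coe ij,
      H67.SA.x_coe (by simpa using ij.symm), op_smul_left, op_smul_right, star_trivial, op_ev, k]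
    simp only [add_mul, mul_add, one_mul, mul_one, smul_single, smul_eq_mul, zero_smul, add_zero]
    rw [single_mul_single_of_ne _ _ _ _ hj, add_zero]
    abel
  · simpa using (sy _ (tw u hu)).2 1 (by simp) (iff_of_true k a1)
  · by_cases k : Al v
    · obtain ⟨g, e⟩ := (sy v hv).2 1 (by simp) (iff_of_true k a1)
      exact ⟨g, 1, one_mul 1, by rwa [map_one]⟩
    · obtain ⟨g, e⟩ := (sy v hv).2 _ (tw _ b2) (iff_of_false k b3)
      exact ⟨g, _, b2, e⟩

theorem ml1' (hn : Odd n) (h5 : 5 ≤ n) (q : Nat.card F = 2) :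
    MB (iL n F) (tau (n + 1) F) (fun _ => True) (UU (n + 1) F) ∧
      RtL (iL n F) (tau (n + 1) F) (fun _ => True) (UU (n + 1) F) := by
  have : P0 n := ⟨hn, h5⟩
  have h : 5 ≤ n + 1 := by omega
  have ev' : Even (n + 1) := hn.add_one
  have sy := H20.YLSY.jobSY (n + 1) F h
  have hk : (n + 1 + 1) / 2 = kk n := by rw [kk]; obtain ⟨k, hk⟩ := hn; omega
  have tf : ∀ u : XU n F, tau (n + 1) F (iL n F u) = iL n F u := fun u => (ins n F u).2
  have one : ∀ v : SLn (n + 1) F, v * tau (n + 1) F v = 1 → ∃ g, v = g * (tau (n + 1) F g)⁻¹ :=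
    fun v hv => by
      simpa using (sy v hv).2 1 (by simp) (iff_of_false ((sy v hv).1 ev') ((sy 1 (by simp)).1 ev'))
  have fix : ∀ y, tau (n + 1) F y = y ↔ y ∈ (iL n F).range := fun y => by
    refine ⟨fun e => ?_, fun ⟨u, e⟩ => e ▸ tf u⟩
    have k : ∀ z : Vn (n + 1) F, hf z z = hf z (ev (mid n)) ^ 2 := fun z => by
      rw [H59.S3MU1.hf_mid hn z z, hf_self, add_zero, H59.S3MU1.hf_m hn, star_trivial, sq]
    obtain ⟨u, hu⟩ := H59.S3MU1.ins_rng hn (⟨y, e⟩ : XU (n + 1) F) (eq_of_hf fun z => by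
      rw [hf_ac_left, hs, hs _ z]
      exact sq_inj (by rw [← k, ← k, hf_ac]))
    exact ⟨u, congrArg Subtype.val hu⟩
  refine model q h hk fix (fun i j c hi hj _ _ => ?_)
    ⟨fun u hu _ => one _ (by rw [tf, ← map_mul, hu, map_one]), fun v hv => ?_⟩
  · obtain ⟨u, hu⟩ := (fix _).1 (tau_sx hi hj c)
    exact ⟨u, (subtype_injective _).comp (H59.S3MU1.ins_inj hn) (show iL n F _ = iL n F _ by
      rw [map_mul, hu, sx_sq hi hj, map_one]), trivial, hu⟩
  · obtain ⟨g, e⟩ := one v hv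
    exact ⟨g, 1, one_mul 1, by rwa [map_one, mul_one]⟩

/-- The model `SL_(2k)(2)`. -/
theorem ml0 (ho : Odd n) (h : 5 ≤ n) (q : Nat.card F = 2) :
    Mod (io n F) (tau n F) Alt ∧ NAl (io n F) (tau n F) :=
  have k := ml0' ho h q
  ⟨⟨_, k.1.1, Or.inr (Or.inr (Or.inl k.1.2))⟩, k.2⟩

/-- The model `SL_(2k+1)(2)`. -/
theorem ml1 (ho : Odd n) (h : 5 ≤ n) (q : Nat.card F = 2) :
    Mod (iL n F) (tau (n + 1) F) fun _ => True :=
  have k := ml1' ho h q
  ⟨_, k.1, Or.inr (Or.inr (Or.inl k.2))⟩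

end H54.Y6L
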