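/- RF tower (row S5262), job B8: automorphisms of `Q` that fix two points of the ovoid. -/
import Cfsg.Agent.H90.RFKit2

set_option autoImplicit false
set_option linter.unusedSectionVars false
set_option linter.unusedSimpArgs false

open Subgroup H63.Oc H19.ParTY H90.RF

namespace H54.RF

universe v

variable {K : Type*} [Field K] [CharP K 2] {T : TF K} {β : Co T → Co T} {c d r s v w : Co T} {t : K}

/-- the coordinates of `Q / R` -/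
def qr (c : Co T) : K × K × K × K := (c.a1, c.b2, c.b6, c.a7)
/-- the coordinates of `V / Z` -/
def vz (c : Co T) : K × K × K × K := (c.a2, c.a3, c.a5, c.a6)

theorem RQ (h : r ∈ sR T) : r ∈ sQ T := ⟨h.2.2.2.2.1, h.2.2.2.2.2⟩
theorem VR (h : v ∈ sV T) : v ∈ sR T := ⟨h.1, h.2.1, h.2.2.2.1, h.2.2.2.2⟩
theorem VQ (h : v ∈ sV T) : v ∈ sQ T := RQ (VR h)

theorem qr_mul (hc : c ∈ sQ T) : qr (c * d) = qr c + qr d := by
  simp [qr, hc.1, hc.2]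

theorem qr_iff (hc : c ∈ sQ T) (hd : d ∈ sQ T) : c⁻¹ * d ∈ sR T ↔ qr c = qr d := by
  simp [qr, mem_sR, hc.1, hc.2, hd.1, hd.2, CharTwo.add_eq_zero]

theorem b4_iff (hc : r ∈ sR T) (hd : s ∈ sR T) : r⁻¹ * s ∈ sV T ↔ r.b4 = s.b4 := by
  obtain ⟨h1, h2, h3, h4, h5, h6⟩ := hc
  obtain ⟨g1, g2, g3, g4, g5, g6⟩ := hd
  simp [mem_sV, CharTwo.add_eq_zero, *]

theorem vz_iff (hc : v ∈ sV T) (hd : w ∈ sV T) : v⁻¹ * w ∈ sZ T ↔ vz v = vz w := by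
  obtain ⟨h1, h2, h3, h4, h5, h6, h7⟩ := hc
  obtain ⟨g1, g2, g3, g4, g5, g6, g7⟩ := hd
  simp [vz, mem_sZ, CharTwo.add_eq_zero, *]

theorem cm_R (hr : r ∈ sR T) (hc : c ∈ sQ T) : cm r c ∈ sV T ∧ vz (cm r c) = r.b4 • qr c := by
  obtain ⟨h1, h2, h3, h4, h5, h6⟩ := hr
  obtain ⟨g1, g2⟩ := hc
  refine ⟨⟨?_, ?_, ?_, ?_, ?_, ?_, ?_⟩, Prod.ext ?_ (Prod.ext ?_ (Prod.ext ?_ ?_))⟩ <;>
    simp [cm, vz, qr, T.sq, *] <;> grind

theorem cm_V (hc : c ∈ sQ T) (hv : v ∈ sV T) :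
    cm c v = x4 T (c.a1 * v.a6 + c.b2 * v.a5 + c.b6 * v.a3 + c.a7 * v.a2) := by
  obtain ⟨h1, h2, h3, h4, h5, h6, h7⟩ := hv
  obtain ⟨g1, g2⟩ := hc
  ext <;> simp [cm, x4, T.sq, *] <;> grind

/-- an automorphism of `Q` with the characteristic series -/
structure AQ (β : Co T → Co T) : Prop where
  au : Au (sQ T) β
  pZ : Pr β (sZ T)
  pV : Pr β (sV T)
  pR : Pr β (sR T)

theorem mx1 (t : K) : x1 T t ∈ sQ T := ⟨rfl, rfl⟩
theorem my2 (t : K) : y2 T t ∈ sQ T := ⟨rfl, rfl⟩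
theorem my6 (t : K) : y6 T t ∈ sQ T := ⟨rfl, rfl⟩
theorem mx7 (t : K) : x7 T t ∈ sQ T := ⟨rfl, rfl⟩
theorem my4 (t : K) : y4 T t ∈ sR T := ⟨rfl, rfl, rfl, rfl, rfl, rfl⟩
theorem mx2 (t : K) : x2 T t ∈ sV T := ⟨rfl, rfl, rfl, rfl, rfl, rfl, rfl⟩
theorem mx6 (t : K) : x6 T t ∈ sV T := ⟨rfl, rfl, rfl, rfl, rfl, rfl, rfl⟩

/-- the map induced on `R / V` -/
def f4 (β : Co T → Co T) (t : K) : K := (β (y4 T t)).b4

namespace AQ
variable (h : AQ β)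
include h

theorem div (hc : c ∈ sQ T) (hd : d ∈ sQ T) : β (c⁻¹ * d) = (β c)⁻¹ * β d := by
  rw [h.au.mul _ (inv_mem hc) _ hd, h.au.inv hc]

theorem qr_eq (hc : c ∈ sQ T) (hd : d ∈ sQ T) (e : qr c = qr d) : qr (β c) = qr (β d) :=
  (qr_iff (h.au.mem c hc) (h.au.mem d hd)).1 (h.div hc hd ▸ h.pR _ ((qr_iff hc hd).2 e))

theorem vz_eq (hc : v ∈ sV T) (hd : w ∈ sV T) (e : vz v = vz w) : vz (β v) = vz (β w) :=
  (vz_iff (h.pV v hc) (h.pV w hd)).1 (h.div (VQ hc) (VQ hd) ▸ h.pZ _ ((vz_iff hc hd).2 e))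

theorem b4_eq (hr : r ∈ sR T) : (β r).b4 = f4 β r.b4 :=
  (b4_iff (h.pR r hr) (h.pR _ (my4 _))).1
    (h.div (RQ hr) (RQ (my4 _)) ▸ h.pV _ ((b4_iff hr (my4 _)).2 rfl))

theorem vz_cm (hv : v ∈ sV T) (hc : c ∈ sQ T) (e : vz v = t • qr c) : vz (β v) = f4 β t • qr (β c) := by
  obtain ⟨m, e'⟩ := cm_R (my4 t) hc
  rw [h.vz_eq hv m (e.trans e'.symm), h.au.cm (RQ (my4 t)) hc, (cm_R (h.pR _ (my4 t)) (h.au.mem c hc)).2]
  rfl

theorem semi (hc : c ∈ sQ T) (hd : d ∈ sQ T) (e : qr c = t • qr d) :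
    f4 β 1 • qr (β c) = f4 β t • qr (β d) := by
  obtain ⟨m, e'⟩ := cm_R (my4 t) hd
  rw [← h.vz_cm (t := t) m hd e', h.vz_cm (t := 1) m hc (e'.trans ((one_smul K _).trans e).symm)]

theorem f4_add (t u : K) : f4 β (t + u) = f4 β t + f4 β u := by
  have := h.b4_eq (mul_mem (my4 t) (my4 u))
  obtain ⟨a1, -, -, -, a2, a3⟩ := h.pR _ (my4 (T := T) t)
  rw [h.au.mul _ (RQ (my4 t)) _ (RQ (my4 u)), Co.mul_b4, a2, a3,
    show (y4 T t * y4 T u).b4 = t + u by simp [y4]] at this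
  simpa [f4] using this.symm

variable [Finite K]

theorem f4_ne : f4 β 1 ≠ 0 := fun e => by
  obtain ⟨a1, a2, a3, a4, a5, a6⟩ := h.pR _ (my4 (T := T) 1)
  exact one_ne_zero (h.au.mem_of (fun _ => VQ) h.pV (RQ (my4 1)) ⟨a1, a2, e, a3, a4, a5, a6⟩).2.2.1

theorem qr_ne (hc : c ∈ sQ T) (e : qr (β c) = 0) : qr c = 0 := by
  have := h.au.mem c hc
  simp only [qr, Prod.mk_eq_zero] at e ⊢
  obtain ⟨a1, a2, a3, a4, -⟩ := h.au.mem_of (fun _ => RQ) h.pR hc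
    ⟨e.1, e.2.1, e.2.2.1, e.2.2.2, this.1, this.2⟩
  exact ⟨a1, a2, a3, a4⟩

theorem f4_mul (t u : K) : f4 β 1 * f4 β (t * u) = f4 β t * f4 β u := by
  have e1 := h.semi (t := u) (mx1 u) (mx1 1) (by simp [qr, x1])
  have e2 := h.vz_cm (t := t) (mx2 (t * u)) (mx1 u) (by simp [qr, vz, x1, x2])
  rw [h.vz_cm (t := t * u) (mx2 (t * u)) (mx1 1) (by simp [qr, vz, x1, x2])] at e2
  refine smul_left_injective K (fun e => ?_ : qr (β (x1 T 1)) ≠ 0) ?_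
  · simpa [qr, x1] using h.qr_ne (mx1 1) e
  · simp only [mul_smul]
    rw [e2, smul_comm, e1]

/-- `β` is semilinear on the factors -/
theorem exists_phi : ∃ φ : RingAut K, ∀ t, f4 β t = f4 β 1 * φ t := by
  have n := h.f4_ne
  let ψ : K →+* K :=
    { toFun := fun t => f4 β t / f4 β 1
      map_one' := div_self n
      map_mul' := fun t u => by
        field_simp
        linear_combination h.f4_mul t u
      map_zero' := by
        have := h.f4_add 0 0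
        rw [add_zero, left_eq_add] at this
        rw [this, zero_div]
      map_add' := fun t u => by rw [h.f4_add, add_div] }
  exact ⟨RingEquiv.ofBijective ψ (Finite.injective_iff_bijective.1 ψ.injective), fun t =>
    (mul_div_cancel₀ _ n).symm⟩

end AQ

theorem sq_vz (hc : c ∈ sQ T) : vz (c * c) = (c.b2 * T.σ c.b2 + c.b4 * c.a1 + c.b6 * T.σ c.a1,
    c.a7 * T.σ c.a1 + c.b4 * c.b2 + T.σ c.b6 * c.a1, T.σ c.a7 * c.a1 + c.a7 * T.σ c.b2 + c.b6 * c.b4,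
    T.σ c.a7 * c.b2 + c.a7 * c.b4 + c.b6 * T.σ c.b6) := by
  refine Prod.ext ?_ (Prod.ext ?_ (Prod.ext ?_ ?_)) <;> simp [vz, hc.1, hc.2] <;> grind

theorem cm_61 (hc : c ∈ sQ T) (hd : d ∈ sF1 T) (h1 : c.a1 = 0) (h4 : c.b4 = 0) :
    (cm c d).a2 = c.b6 * T.σ d.a1 := by
  obtain ⟨g1, g2, g3, g4, g5⟩ := hd
  simp [cm, hc.1, hc.2, *]
  grind

theorem jobB8 : JobB8.{v} := by
  intro K _ _ _ T a8 β au p0 p1
  have h : AQ β := ⟨au, (a8 β au).1 1, (a8 β au).1 2, (a8 β au).1 3⟩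
  obtain ⟨φ, hφ⟩ := h.exists_phi
  have n := h.f4_ne
  have semi : ∀ {c d : Co T} {t : K}, c ∈ sQ T → d ∈ sQ T → qr c = t • qr d →
      qr (β c) = φ t • qr (β d) := fun {c d t} hc hd e => by
    have := h.semi hc hd e
    rw [hφ t, mul_smul] at this
    exact smul_right_injective _ n this
  generalize hk : f4 β 1 = k at n hφ
  have vq : ∀ {v c : Co T}, v ∈ sV T → c ∈ sQ T → vz v = qr c → vz (β v) = k • qr (β c) :=
    fun hv hc e => hk ▸ h.vz_cm hv hc (e.trans (one_smul K _).symm)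
  have m1 := p1 (x1 T 1) ⟨rfl, rfl, rfl, rfl, rfl⟩
  have m7 := p0 (x7 T 1) ⟨rfl, rfl, rfl, rfl, rfl⟩
  have e1 : qr (β (x1 T 1)) = ((β (x1 T 1)).a1, 0, 0, 0) := by simp [qr, m1.1, m1.2.1, m1.2.2.1]
  have e7 : qr (β (x7 T 1)) = (0, 0, 0, (β (x7 T 1)).a7) := by simp [qr, m7.1, m7.2.1, m7.2.2.1]
  have n1 : (β (x1 T 1)).a1 ≠ 0 := fun e => by
    simpa [qr, x1] using h.qr_ne (mx1 1) (by rw [e1, e]; rfl)
  have n7 : (β (x7 T 1)).a7 ≠ 0 := fun e => by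
    simpa [qr, x7] using h.qr_ne (mx7 1) (by rw [e7, e]; rfl)
  have v2 := vq (mx2 1) (mx1 1) rfl
  have v6 := vq (mx6 1) (mx7 1) rfl
  rw [e1] at v2
  rw [e7] at v6
  have pp : ∀ c ∈ sQ T, c.a1 = 0 → c.a7 = 0 → (β c).a1 = 0 ∧ (β c).a7 = 0 := fun c hc c1 c7 => by
    have a := congrArg Co.a4 (h.au.cm hc (VQ (mx2 1)))
    have b := congrArg Co.a4 (h.au.cm hc (VQ (mx6 1)))
    rw [cm_V hc (mx2 1), cm_V (au.mem c hc) (h.pV _ (mx2 1)), show x4 T _ = 1 by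
      ext <;> simp [x4, x2, c7], au.one] at a
    rw [cm_V hc (mx6 1), cm_V (au.mem c hc) (h.pV _ (mx6 1)), show x4 T _ = 1 by
      ext <;> simp [x4, x6, c1], au.one] at b
    simp only [vz, Prod.smul_mk, smul_eq_mul, mul_zero, Prod.mk.injEq] at v2 v6
    simp [x4, v2, v6, n, n1, n7] at a b
    exact ⟨b, a⟩
  obtain ⟨y21, y27⟩ := pp _ (my2 1) rfl rfl
  obtain ⟨y61, y67⟩ := pp _ (my6 1) rfl rfl
  have s2 := sq_vz (au.mem _ (my2 1))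
  have s6 := sq_vz (au.mem _ (my6 1))
  rw [← au.mul _ (my2 1) _ (my2 1), show y2 T 1 * y2 T 1 = x2 T 1 by
    ext <;> simp [y2, x2, CharTwo.add_self_eq_zero], v2] at s2
  rw [← au.mul _ (my6 1) _ (my6 1), show y6 T 1 * y6 T 1 = x6 T 1 by
    ext <;> simp [y6, x6, CharTwo.add_self_eq_zero], v6] at s6
  simp only [y21, y27, y61, y67, Prod.smul_mk, smul_eq_mul, mul_zero, Prod.mk.injEq, map_zero, zero_mul,
    add_zero, zero_add] at s2 s6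
  have y26 := nm_zero s2.2.2.2.symm
  have y62 := nm_zero s6.1.symm
  have n2 : (β (y2 T 1)).b2 ≠ 0 := fun e => mul_ne_zero n n1 (by rw [s2.1, e, zero_mul])
  have n6 : (β (y6 T 1)).b6 ≠ 0 := fun e => mul_ne_zero n n7 (by rw [s6.2.2.2, e, zero_mul])
  have y64 := (mul_eq_zero.1 s6.2.2.1.symm).resolve_left n6
  have e2 : qr (β (y2 T 1)) = (0, (β (y2 T 1)).b2, 0, 0) := by simp [qr, y21, y27, y26]
  have e6 : qr (β (y6 T 1)) = (0, 0, (β (y6 T 1)).b6, 0) := by simp [qr, y61, y67, y62]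
  have c6 := cm_61 (au.mem _ (my6 1)) m1 y61 y64
  have c7 := congrArg Prod.fst (vq (v := cm (y6 T 1) (x1 T 1)) (by simp [mem_sV, cm, y6, x1, CharTwo.add_self_eq_zero])
    (mul_mem (mx1 1) (my2 1)) (by simp [vz, qr, cm, y6, x1, y2, CharTwo.add_self_eq_zero]))
  rw [au.mul _ (mx1 1) _ (my2 1), qr_mul (au.mem _ (mx1 1)), e1, e2, au.cm (my6 1) (mx1 1)] at c7
  replace c7 := c6.symm.trans c7
  simp only [Prod.smul_fst, Prod.fst_add, smul_eq_mul, add_zero] at c7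
  replace s2 := s2.1
  replace s6 := s6.2.2.2
  generalize (β (x1 T 1)).a1 = a, (β (y2 T 1)).b2 = d2, (β (y6 T 1)).b6 = d6, (β (x7 T 1)).a7 = d7 at *
  obtain ⟨b, rfl⟩ : ∃ b, d2 = a * b := ⟨d2 / a, by field_simp⟩
  have nb := right_ne_zero_of_mul n2
  obtain rfl : k = T.σ a * (b * T.σ b) := mul_right_cancel₀ n1 (by rw [s2, map_mul]; ring)
  obtain rfl : d6 = a * (b * T.σ b) := mul_right_cancel₀ (sg_ne n1) (by rw [c7]; ring)
  obtain rfl : d7 = a * (b ^ 2 * T.σ b) := mul_left_cancel₀ n (by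
    rw [s6, map_mul, map_mul, T.sq]; ring)
  have q : ∀ c ∈ sQ T, qr (β c) = qr (sd T (Units.mk0 a n1, Units.mk0 b nb) φ c) := fun c hc => by
    have m12 := mul_mem (mx1 (T := T) c.a1) (my2 c.b2)
    have m126 := mul_mem m12 (my6 c.b6)
    rw [h.qr_eq hc (mul_mem m126 (mx7 c.a7)) (by simp [qr, x1, y2, y6, x7]), au.mul _ m126 _ (mx7 _),
      au.mul _ m12 _ (my6 _), au.mul _ (mx1 _) _ (my2 _), qr_mul (mul_mem (mul_mem (au.mem _ (mx1 _))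
      (au.mem _ (my2 _))) (au.mem _ (my6 _))), qr_mul (mul_mem (au.mem _ (mx1 _)) (au.mem _ (my2 _))),
      qr_mul (au.mem _ (mx1 _)), semi (t := c.a1) (mx1 _) (mx1 1) (by simp [qr, x1]),
      semi (t := c.b2) (my2 _) (my2 1) (by simp [qr, y2]), semi (t := c.b6) (my6 _) (my6 1) (by simp [qr, y6]),
      semi (t := c.a7) (mx7 _) (mx7 1) (by simp [qr, x7]), e1, e2, e6, e7]
    simp [qr, sd, dg, fa, mul_comm]
  have ps := pr_sd (T := T) (Units.mk0 a n1, Units.mk0 b nb) φ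
  refine ⟨(Units.mk0 a n1, Units.mk0 b nb), φ, fun i hi c hc => ?_⟩
  interval_cases i
  · have := au.cm (mx7 c.a4) (VQ (mx2 1))
    have e := semi (t := c.a4) (mx7 c.a4) (mx7 1) (by simp [qr, x7])
    rw [e7] at e
    rw [cm_V (mx7 _) (mx2 1), cm_V (au.mem _ (mx7 _)) (h.pV _ (mx2 1))] at this
    simp only [vz, qr, Prod.smul_mk, smul_eq_mul, mul_zero, Prod.mk.injEq] at v2 e
    refine mem_bot.2 (inv_mul_eq_one.2 ?_)
    rw [v2.1, v2.2.1, v2.2.2.1, v2.2.2.2, e.1, e.2.1, e.2.2.1, e.2.2.2,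
      show x4 T _ = c from (H14.Oc.eq_x4 hc).symm ▸ by simp [x7, x2, x4]] at this
    rw [this, H14.Oc.eq_x4 hc]
    ext <;> simp [sd, dg, fa, x4]
    ring
  · refine (vz_iff (ps _ (by simp) c hc) (h.pV c hc)).2 ?_
    rw [vq (c := ⟨c.a2, c.a3, 0, 0, 0, 0, 0, c.a5, 0, c.a6, 0, 0⟩) hc ⟨rfl, rfl⟩ rfl, q _ ⟨rfl, rfl⟩]
    simp only [vz, qr, sd, dg, fa, Prod.smul_mk, smul_eq_mul, Prod.mk.injEq, Units.val_mk0]
    refine ⟨?_, ?_, ?_, ?_⟩ <;> ring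
  · refine (b4_iff (ps _ (by simp) c hc) (h.pR c hc)).2 ?_
    rw [h.b4_eq hc, hφ]
    rfl
  · exact (qr_iff (ps _ (by simp) c hc) (au.mem c hc)).2 (q c hc).symm

end H54.RF
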