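import Cfsg.Agent.H70.RRSpec

/-! Row S3530, slot `K1C`. -/

set_option autoImplicit false

namespace H54.RR

open Cfsg Subgroup H24 H70.Sq H10.W H70.RR

universe u

section L2

variable {T : Type*} [Group T] {l n d ν s : ℕ} (h : L2D T l n d ν)
include h

theorem dvd_nu (hs : s.Prime) (h2 : s ≠ 2) (h1 : s ∣ l ^ n + 1) : s ∣ ν := by
  rcases h.par with ⟨-, -, -, e⟩ | ⟨-, -, -, e1, e2⟩
  · rwa [e]
  · rw [show l ^ n + 1 = 2 * ν by omega] at h1
    exact ((Nat.coprime_primes hs Nat.prime_two).2 h2).dvd_of_dvd_mul_left h1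

theorem not_dvd_d (hs : s.Prime) (h2 : s ≠ 2) (h1 : s ∣ ν) : ¬ s ∣ d := fun k => by
  rcases h.par with ⟨-, -, e1, e2⟩ | ⟨-, -, -, e1, e2⟩
  · rw [show ν = d + 2 by omega] at h1
    exact h2 ((Nat.prime_dvd_prime_iff_eq hs Nat.prime_two).1 ((Nat.dvd_add_right k).1 h1))
  · exact hs.one_lt.ne' (Nat.dvd_one.1 ((Nat.dvd_add_right k).1 (e2 ▸ h1)))

theorem three (h1 : ¬ 3 ∣ l ^ n + 1) : 3 ∣ d ∨ l = 3 := by
  by_cases k : 3 ∣ l ^ n
  · exact .inr ((Nat.prime_dvd_prime_iff_eq Nat.prime_three h.prime).1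
      (Nat.prime_three.dvd_of_dvd_pow k)).symm
  · left
    have : d % 3 = 0 ∨ d % 3 = 1 ∨ d % 3 = 2 := by omega
    rcases h.par with ⟨-, -, e1, -⟩ | ⟨-, -, -, e1, -⟩ <;> omega

theorem nu_le : ν ≤ d + 2 := by
  rcases h.par with ⟨-, -, e1, e2⟩ | ⟨-, -, -, e1, e2⟩ <;> omega

theorem nu_pos : 0 < ν := by
  rcases h.par with ⟨-, -, e1, e2⟩ | ⟨-, -, -, e1, e2⟩ <;> omega

theorem one_lt : 1 < l ^ n := by
  rcases h.par with ⟨rfl, e, -⟩ | ⟨-, e, -⟩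
  · exact Nat.one_lt_two_pow (by omega)
  · omega

end L2

theorem jobK1C (kA : KitA.{u}) (kB : KitB.{u}) (hF : JobFix.{u}) (hB : JobK1B.{u}) (hH : JobH2.{u})
    (hW : JobW.{u}) : JobK1C.{u} := by
  intro m G H _ _ _ _ ψ A hf T l n d ν α β b o L h1 hb
  by_contra hr
  have N := A.num
  have := Fact.mk L.prime
  obtain ⟨⟨u, u1⟩, u2⟩ := ord_of_prime h1.cl.1 hb
  rw [← orderOf_coe] at u2
  have cov := kB.p1 (K := ⊤) o.toNS.perf (by rw [map_top_of_surjective _ A.sj]; exact le_top) h1.cl.1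
    (N.ne_two h1.cl) (by rwa [top_inf_eq]) (mem_inf.2 ⟨mem_top u, u1⟩) u2
  rw [top_inf_eq] at cov
  have sT : Sub m T := (A.sub.of_surjective A.sj).sub T
  have star : ∀ i j a c, i ≠ β → j ≠ β → i ≠ j → Cl m i a → Cl m j c → ¬ Ord T (a * c) := by
    rintro i j a c i1 j1 ij ha hc ⟨t, ht⟩
    obtain ⟨y, hy, e⟩ := cov t.2
    refine N.tri A.sub i1.symm j1.symm ij h1.cl ha hc u2 ((ord_mem hy).of_dvd ?_)
    rw [← ht, ← orderOf_coe, ← e]
    exact orderOf_map_dvd ψ y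
  have nu : ∀ i s, Cl m i s → i = α ∨ i = β → s ∣ ν := fun i s hs hi =>
    dvd_nu L hs.1 (N.ne_two hs) ((h1.full i s hs).2 hi)
  have c3 := (N.zero 3).2 rfl
  obtain rfl : α = 0 := by
    by_contra a0
    obtain ⟨a, ha⟩ := N.ex α
    rcases three L (fun k => ((h1.full 0 3 c3).1 k).elim (Ne.symm a0) h1.b0.symm) with k | rfl
    · have k1 := N.d18 d (sT.om L.od) fun s hs hd => (N.prime s hs ((sT.om L.od).of_dvd hd)).imp_right
        fun ⟨i, hi⟩ => (N.zero s).1 (by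
          by_contra i0
          have i1 : i ≠ 0 := fun e => i0 (e ▸ hi)
          exact star 0 i 3 s h1.b0.symm (fun e => not_dvd_d L hs (N.ne_two hi) (nu i s hi (.inr e)) hd)
            i1.symm c3 hi (L.od.of_dvd ((N.cop i1.symm c3 hi).mul_dvd_of_dvd_of_dvd k hd)))
      have k2 := Nat.le_of_dvd (nu_pos L) ((N.cop h1.ne ha h1.cl).mul_dvd_of_dvd_of_dvd
        (nu α a ha (.inl rfl)) (nu β b h1.cl (.inr rfl)))
      have k3 := Nat.mul_le_mul (N.big α a a0 ha) (N.big β b h1.b0 h1.cl)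
      have := Nat.le_of_dvd (by norm_num) k1
      have := nu_le L
      omega
    · obtain ⟨-, -, e1, e2, -⟩ := L.par.resolve_left fun k => by omega
      have no : Odd n := by
        by_contra k
        obtain ⟨r, rfl⟩ := Nat.not_odd_iff_even.1 k
        rw [← two_mul, pow_mul, Nat.pow_mod] at e1
        simp at e1
      obtain ⟨r, hr⟩ := A.num2.div n no (by
        rw [show (3 ^ n - 1) / 2 = d by omega]; exact sT.om L.od)
      have ro : Odd r := (Nat.odd_mul.1 (hr ▸ odd_two_mul_add_one m)).2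
      have k : 3 ^ n + 1 ∣ 3 ^ (2 * m + 1) + 1 := by
        simpa [hr, pow_mul] using ro.nat_add_dvd_pow_add_pow (3 ^ n) 1
      have k1 : ∀ i s, Cl m i s → i = α ∨ i = β → i = 2 := fun i s hs hi => N.uniq _ _ s hs
        ((N.clB s hs.1 (N.ne_two hs)).2 (((h1.full i s hs).2 hi).trans k))
      exact h1.ne ((k1 α a ha (.inl rfl)).trans (k1 β b h1.cl (.inr rfl)).symm)
  have n3 := nu 0 3 c3 (.inl rfl)
  have nb := nu β b h1.cl (.inr rfl)
  obtain ⟨p, hp, rfl⟩ : ∃ p : Fin 5 → ℕ, (∀ i, Cl m i (p i)) ∧ p β = b := by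
    choose p hp using N.ex
    refine ⟨Function.update p β b, fun i => ?_, by simp⟩
    rcases eq_or_ne i β with rfl | e
    · simpa using h1.cl
    · simpa [e] using hp i
  have nd : ∀ i, i ≠ 0 → i ≠ β → ¬ p i ∣ l ^ n + 1 := fun i i0 i1 k =>
    ((h1.full i _ (hp i)).1 k).elim i0 i1
  have h2 : ∀ κ, κ ≠ 0 → κ ≠ β → ∃ i, i ≠ κ ∧ i ≠ 0 ∧ i ≠ β ∧ (p i = l ∨ p i ∣ d) := fun κ k0 k1 => by
    obtain ⟨i, i1, i2, i3, i4⟩ := hH m G H ψ A hf T l n d ν κ β p o L (fun i _ => hp i) k0 h1.b0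
      k1.symm n3 nb
    rw [L.card, (hp i).1.dvd_mul, (hp i).1.dvd_mul] at i4
    exact ⟨i, i1, i2, i3, (i4.resolve_left (nd i i2 i3)).imp_left fun k =>
      (Nat.prime_dvd_prime_iff_eq (hp i).1 L.prime).1 ((hp i).1.dvd_of_dvd_pow k)⟩
  obtain ⟨i, j, ij, i0, i1, j0, j1, rfl, hj⟩ : ∃ i j, i ≠ j ∧ i ≠ 0 ∧ i ≠ β ∧ j ≠ 0 ∧ j ≠ β ∧
      p i = l ∧ p j ∣ d := by
    obtain ⟨κ, k0, k1⟩ : ∃ κ : Fin 5, κ ≠ 0 ∧ κ ≠ β :=
      (by decide : ∀ β : Fin 5, ∃ κ, κ ≠ 0 ∧ κ ≠ β) β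
    obtain ⟨i, -, i0, i1, i2⟩ := h2 κ k0 k1
    obtain ⟨j, ji, j0, j1, j2⟩ := h2 i i0 i1
    rcases i2 with i2 | i2 <;> rcases j2 with j2 | j2
    · exact (ji (N.uniq _ _ l (j2 ▸ hp j) (i2 ▸ hp i))).elim
    · exact ⟨i, j, ji.symm, i0, i1, j0, j1, i2, j2⟩
    · exact ⟨j, i, ji, j0, j1, i0, i1, j2, i2⟩
    · exact (star j i _ _ j1 i1 ji (hp j) (hp i)
        (L.od.of_dvd ((N.cop ji (hp j) (hp i)).mul_dvd_of_dvd_of_dvd j2 i2))).elim
  obtain ⟨U⟩ : Nonempty (Sylow (p i) T) := inferInstance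
  obtain ⟨b1, b2, b3⟩ := hB m G H ψ A hf T _ n d ν U o L
  obtain ⟨f1, -, -, f4⟩ := hF H T _ o.toNS L.toTI
  have RK : ψ.ker ≤ (St U).comap ψ := ker_le_comap _ _
  have lift : ∀ x, x ≠ β → ∀ t ∈ T, t ∈ St U → orderOf t = p x →
      Ord ((St U).comap ψ) (p β * p x) := fun x x1 t t1 t2 t3 => by
    obtain ⟨y, hy, rfl⟩ := cov t1
    obtain ⟨⟨z, z1⟩, z2⟩ := (ord_mem (K := (St U).comap ψ ⊓ centralizer {u}) ⟨t2, hy⟩).of_dvd
      (t3 ▸ orderOf_map_dvd ψ y)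
    rw [← orderOf_coe] at z2
    have := ord_mem (mul_mem (RK u1) z1.1)
    have cm : Commute u z := (mem_centralizer_singleton_iff.1 z1.2).symm
    rwa [cm.orderOf_mul_eq_mul_orderOf_of_coprime
      (by rw [u2, z2]; exact N.cop x1.symm (hp β) (hp x)), u2, z2] at this
  have key : ∀ x, x ≠ 0 → x ≠ β → Ord ((St U).comap ψ) (p β * p x) := fun x x0 x1 => by
    by_cases xi : x = i
    · subst xi
      obtain ⟨t, ht⟩ := ord_of_prime (G := U) L.prime (by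
        rw [L.syl]
        exact dvd_pow_self _ fun e => (one_lt L).ne' (by rw [e, pow_zero]))
      exact lift x x1 t.1.1 t.1.2 (le_normalizer ⟨t.1, t.2, rfl⟩) (by rw [orderOf_coe, orderOf_coe, ht])
    by_cases xj : x = j
    · subst xj
      obtain ⟨v, hv⟩ := L.od.of_dvd hj
      rw [← orderOf_coe] at hv
      obtain ⟨V, -, k⟩ := ((f4 n d ν L).1 1 v (p x) (p x) (hp x).1 (hp x).1 (N.ne_two (hp x))
        (N.ne_two (hp x)) (Commute.one_left _) (by simp) hv.dvd (nd x x0 x1)).resolve_right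
        fun k => nd x x0 x1 k.1
      obtain ⟨t, t1, t2⟩ := f1 U V
      refine lift x x1 _ (mul_mem (mul_mem t1 v.2) (inv_mem t1)) (t2 _ k) ?_
      rw [← MulAut.conj_apply, MulEquiv.orderOf_eq, hv]
    rcases ((b3 0 β _ h1).2 x _ x0 x1 (hp x)).2 with k | ⟨k1, g, g1, g2, g3⟩
    · exact k
    refine ord_mono RK (hW m G H ψ A T _ n d ν β i j x _ _ _ o L (N.ne_two (hp i)) n3 ?_ (hp β) (hp i)
      (hp j) (hp x) nb hj hb hr k1 ⟨g ^ p x, ?_, by rw [map_pow]; exact pow_mem g3 _, fun e => ?_⟩)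
    · have := h1.b0
      simp only [List.nodup_cons, List.mem_cons, List.not_mem_nil, List.nodup_nil]
      grind
    · rw [orderOf_pow' _ (hp x).1.ne_zero, g1, Nat.gcd_mul_left_left, Nat.mul_div_cancel _ (hp x).1.pos]
    · rw [map_pow, ← orderOf_dvd_iff_pow_eq_one, g2] at e
      exact (hp β).1.one_lt.ne' ((N.cop x1.symm (hp β) (hp x)).eq_one_of_dvd e)
  refine kA.k4 (κ := 0) (p := p) N A.sub b1 (fun i _ => hp i) fun x y x0 y0 xy => ?_
  by_cases xb : x = β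
  · exact xb ▸ key y y0 fun e => xy (xb.trans e.symm)
  by_cases yb : y = β
  · rw [mul_comm]; exact yb ▸ key x x0 xb
  exact b2 x y _ _ xy (hp x) (hp y) (nd x x0 xb) (nd y y0 yb)

end H54.RR
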