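import Cfsg.Agent.H54.SPWDef

/-! STD-Sp4, wreath endgame: `JobWU`, `JobW3`. -/

set_option autoImplicit false
set_option linter.unusedSectionVars false

namespace H54.SPW

open H64.SG (O2 Syl Cz Cs Ns cjs Is2 Inv2 UF IsO2 fx mem_Cs mem_Cz mem_fx is2_of_sq)
open H67.SA (St cI cm mem_cjs conj_mem_cjs cm_eq_one)
open H59.SO Subgroup Function H98
open H86.WR (GW w0 gen cM dec2 fix_both inf_left odd_nor top_of t_mem ind_e₁ ind_e₂)
open scoped commutatorElement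

universe u

theorem jobW0 : AllW.{u} fun _ _ _ _ _ _ _ _ t e₁ e₂ => W0 t e₁ e₂ := by
  intro X _ _ U A B C q w G _ _ e t h e₁ e₂ c
  obtain ⟨y, y1, y2⟩ := w.exZ
  refine w0 w.ns ⟨y, y2⟩ c h fun g f hf => ?_
  have h1 := H84.SfW.ab_comm (h.cje g) w.ns w.cyc ((map_le_range f U).trans hf) (w.syl.2.1.map f)
  rw [← map_commutator, range_cje, w.der] at h1
  have h2 := top_of w.ns (N := (cjs g e.range).comap f) (fun a ha b => by
    rw [mem_comap, map_mul, map_mul, map_inv]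
    exact conj_mem_of_mem_normalizer (range_cje (g := g) (e := e) ▸ (h.cje g).cz (hf ⟨b, rfl⟩)) ha)
    (h1 ⟨y, y1, rfl⟩) y2.2
  rintro _ ⟨s, rfl⟩
  exact h2.ge (mem_top s)

theorem jobWU (hSW : JobSW.{u}) : JobWU.{u} := by
  intro X _ _ U A B C q w G _ _ e t h e₁ e₂ c
  have w0 := jobW0 X U A B C q w G e t h e₁ e₂ c
  have sw := hSW X U A B C q w G e t h e₁ e₂ c w0
  have uf : UF (Ns (G12 e₁ e₂)) t := ⟨h.inv, t_mem c h.inv.1, fun g hg =>
    w0.ufs g (sw _ hg (isConj_iff.2 ⟨g, rfl⟩))⟩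
  have tx : ∀ g, g * g = 1 → IsConj t (t * e g) := fun g hg =>
    isConj_iff.2 ⟨e₁ g, by rw [c.conj_t hg, h.comm]⟩
  have lA := w.le A (.inl rfl)
  have lB := w.le B (.inr rfl)
  let V : Fin 3 → Subgroup X := ![U, A, B]
  have v1 : ∀ j, V j ≤ U ∧ U ≤ Ns (V j) := fun j => by
    fin_cases j
    exacts [⟨le_rfl, le_normalizer⟩, ⟨lA.1, lA.2.1⟩, ⟨lB.1, lB.2.1⟩]
  let S : Fin 3 → Set G := fun j => e '' {v | v * v = 1 ∧ v ∈ Ns (V j)}
  have s1 : ∀ j, ∀ p ∈ Ns (V j), ∀ u ∈ U, e (p * u * p⁻¹) ∈ closure (S j) := fun j p hp u hu => by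
    have k : ∀ R, R = A ∨ R = B →
        R ≤ (closure (S j)).comap (e.comp (MulAut.conj p).toMonoidHom) := fun R hR x hx =>
      subset_closure ⟨p * x * p⁻¹, ⟨by rw [conj_mul, (w.le R hR).2.2.2.2.1 x hx]; simp,
        mul_mem (mul_mem hp ((v1 j).2 ((w.le R hR).1 hx))) (inv_mem hp)⟩, rfl⟩
    exact sup_le (k A (.inl rfl)) (k B (.inr rfl)) (w.gen hu)
  obtain ⟨z, ⟨-, z1⟩, -, z0⟩ := w.exZ
  have key := H64.SG.jobK9 uf (Cs (G12 e₁ e₂)) e.range 0 (fun j => (V j).map e) S w0.odd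
    (H64.SG.Cs_le_Ns _) (c.range_le.trans le_normalizer) h.range_le
    (c.range_le.trans fun a ha b hb => (hb a ha).symm) (fun j => map_mono (v1 j).1)
    (map_le_range _ _) (w.syl.2.1.map e) (by
      rintro j _ ⟨v, hv, rfl⟩
      exact ⟨⟨v, rfl⟩, by rw [← map_mul, hv.1, map_one], map_mem_Ns hv.2, tx v hv.1⟩)
    (by rintro j _ ⟨u, hu, rfl⟩; simpa using s1 j 1 (one_mem _) u hu) (by
      rintro _ ⟨a, rfl⟩
      have : closure {g | ∃ u ∈ U, ∃ p, (p ∈ Ns A ∨ p ∈ Ns B) ∧ g = p * u * p⁻¹} ≤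
          (closure (⋃ j, S j)).comap e := (closure_le _).2 (by
        rintro _ ⟨u, hu, p, hp | hp, rfl⟩
        · exact closure_mono (Set.subset_iUnion S 1) (s1 1 p hp u hu)
        · exact closure_mono (Set.subset_iUnion S 2) (s1 2 p hp u hu))
      exact this (w.top.ge (mem_top a)))
    (fun j m m1 m2 => by
      fin_cases j
      · have := cM w.ns c h.toB1 w0 le_rfl (w.ct (.inl rfl)) m1
          (centralizer_le (map_mono lA.1) m2)
        exact ⟨fun k => map_mono lA.1 (this.1 k), this.2⟩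
      · exact cM w.ns c h.toB1 w0 le_rfl (w.ct (.inl rfl)) m1 m2
      · exact cM w.ns c h.toB1 w0 le_rfl (w.ct (.inr rfl)) m1 m2)
    fun o o1 o2 => H64.SG.Cs_le_Ns _ (gen w.ns c z0 z1 o1 o2)
  exact ⟨⟨uf, c.range_le, w0.odd, tx⟩, w0.ne, w0.pm, w0.chg, w0.ufs, key 1, key 2, sw⟩

theorem jobW3 : JobW3.{u} := by
  intro X _ _ U A B C q w G _ _ e t b e₁ e₂ c g y y1 y0
  have sq := (w.le A (.inl rfl)).2.2.2.2.1
  have tt := b.inv.1
  have ti := b.inv_eq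
  have yy := sq y y1
  have e1 : e₁ y * e₁ y = 1 := by rw [← map_mul, yy, map_one]
  have dd : e₁ y * t * (e₁ y * t) = e₁ y * e₂ y := by rw [← c.sw, ti]; group
  have d4 : Is2 (e₁ y * t) := H64.SG.Is2.of_pow (k := 1) (by
    rw [pow_one, pow_two, dd]
    exact is2_of_sq (by rw [c.mul_mul, yy, map_one, map_one, mul_one]))
  have di : t * (e₁ y * t) * t⁻¹ = (e₁ y * t)⁻¹ := by
    rw [mul_inv_rev, ti, inv_eq_of_mul_eq_one_right e1, mul_assoc, mul_assoc, tt, mul_one]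
  have dM : e₁ y * t ∈ Ns (G12 e₁ e₂) :=
    mul_mem (le_normalizer (mem_sup_left ⟨y, rfl⟩)) g.uf.mem
  have nsw : ∀ m ∈ Cz (e₁ y * t), m ∈ Ns e₁.range → m ∈ Ns e₂.range → cm m t = 1 ∧
      m * e₁ y * m⁻¹ = e₁ y ∧ m * e₂ y * m⁻¹ = e₂ y := fun m hm n1 n2 => by
    have h1 : m * (e₁ y * t) * m⁻¹ = e₁ y * t := by rw [← mem_Cz.1 hm, mul_inv_cancel_right]
    have h2 := fix_both w.ns c n1 n2 (a := y) (b := y) (by rw [← dd, ← conj_mul, h1])
    refine ⟨?_, h2⟩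
    rw [← conj_mul, h2.1, mul_right_inj] at h1
    rw [cm, h1, mul_inv_cancel]
  have s1 : cjs (e₁ y * t) e₁.range = e₂.range := (cj_cj _ _ _).symm.trans
    ((congrArg _ c.cjs_range).trans (cj_eq_self (c.G12_le_Ns' (mem_sup_left ⟨y, rfl⟩))))
  have s2 : cjs (e₁ y * t) e₂.range = e₁.range := (cj_cj _ _ _).symm.trans
    ((congrArg _ (c.symm tt).cjs_range).trans (cj_eq_self (le_normalizer ⟨y, rfl⟩)))
  have ec : ∀ u ∈ Cz y, e u ∈ Cz (e₁ y * t) := fun u hu => mem_Cz.2 (by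
    rw [mul_assoc, b.comm u, ← mul_assoc, ← mul_assoc, c.diag, ← mul_assoc, ← map_mul, mem_Cz.1 hu,
      map_mul, mul_assoc (e₁ u), c.comm y u, ← mul_assoc])
  generalize e₁ y * t = d at d4 di dM nsw s1 s2 ec
  have tN : t ∈ Ns (zpowers d) := mem_normalizer_of_cj_le (by
    rintro _ ⟨a, ha, rfl⟩
    obtain ⟨j, rfl⟩ := mem_zpowers_iff.1 ha
    change t * _ * t⁻¹ ∈ _
    rw [← conj_zpow, di]
    exact zpow_mem (inv_mem (mem_zpowers _)) j)
  have cz : Cs (zpowers d) = Cz d := by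
    ext m; rw [H64.SG.mem_Cs_zpowers, mem_Cz]
  have cN : Cz d ≤ Ns (zpowers d) := cz ▸ H64.SG.Cs_le_Ns _
  have tC : t ∈ Ns (Cz d) := cz ▸ normalizer_le_normalizer_centralizer _ tN
  have dec : ∀ h ∈ Cz d ⊔ zpowers t, h ∈ Cz d ∨ h * t ∈ Cz d := fun h hh =>
    (H67.SA.mem_sup_zp tC tt).1 hh
  have hodd : ∀ h ∈ Cz d ⊔ zpowers t, Odd (orderOf h) → h ∈ Cz d := fun h hh ho => by
    refine H64.SG.mem_of_sq_mem ?_ ho
    rcases dec h hh with k | k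
    · exact mul_mem k k
    · have := mul_mem k (conj_mem_of_mem_normalizer tC k)
      rwa [show h * t * (t * (h * t) * t⁻¹) = h * (t * t) * h by group, tt, mul_one] at this
  have hc : ∀ m ∈ Cz d, m ∈ Ns (G12 e₁ e₂) → cm m t ∈ zpowers d := fun m hm mM => by
    rcases g.pm m mM with h1 | h1
    · rw [(nsw m hm h1.1 h1.2).1]; exact one_mem _
    · have h2 := (nsw (m * d) (mul_mem hm (mem_Cz.2 rfl))
        (cj_eq_self_iff.1 (by rw [← cj_cj]; exact (congrArg (cjs m) s1).trans h1.2))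
        (cj_eq_self_iff.1 (by rw [← cj_cj]; exact (congrArg (cjs m) s2).trans h1.1))).1
      have h3 : cm d t ∈ zpowers d := by
        rw [show cm d t = d * (t * d * t⁻¹)⁻¹ by unfold cm; group, di]
        exact mul_mem (mem_zpowers _) (inv_mem (inv_mem (mem_zpowers _)))
      rw [show cm (m * d) t = m * cm d t * m⁻¹ * cm m t by unfold cm; group,
        mul_eq_one_iff_inv_eq] at h2
      rw [← h2]
      exact inv_mem (conj_mem_of_mem_normalizer (cN hm) h3)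
  have eM : ∀ u, e u ∈ Ns (G12 e₁ e₂) := fun u => le_normalizer (g.le ⟨u, rfl⟩)
  have eH : ∀ u ∈ Cz y, e u ∈ Ns (Cz d ⊔ zpowers t) := fun u hu =>
    le_normalizer (mem_sup_left (ec u hu))
  have Dy : A ≤ Cz y := fun u hu => mem_Cz.2 (comm_of_sq sq hu y y1)
  refine le_trans le_sup_left (H67.SA.jobK10 g.uf (IsConj.refl t) g.uf.mem (Cz d ⊔ zpowers t)
    (zpowers d) (mem_sup_right (mem_zpowers t)) (le_sup_of_le_left (zpowers_le.2 (mem_Cz.2 rfl)))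
    (sup_le cN (zpowers_le.2 tN)) d4.zpowers (fun h h1 h2 => cz ▸ hodd h h1 h2)
    (fun m hm mM => ?_) (A.map e) ?_ (by rw [closure_eq]; exact g.cuD) fun O o1 o2 o3 v hv o ho => ?_)
  · rcases dec m hm with k | k
    · exact hc m k mM
    · exact H67.SA.cm_mul_t (t := t) m ▸ hc _ k (mul_mem mM g.uf.mem)
  · rintro _ ⟨u, hu, rfl⟩
    exact ⟨by rw [← map_mul, sq u hu, map_one], eM u, eH u (Dy hu), b.comm u, g.tx u (sq u hu)⟩
  · obtain ⟨u, hu, rfl⟩ := hv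
    have od := fun a (ha : a ∈ O) => H64.SG.odd_orderOf_of_mem o2 ha
    have fx : ∀ a ∈ O, a * e₁ y * a⁻¹ = e₁ y ∧ a * e₂ y * a⁻¹ = e₂ y := fun a ha =>
      (nsw a (hodd a (o1 ha).1 (od a ha)) (odd_nor g.toW0 (o1 ha).2 (od a ha)).1
        (odd_nor g.toW0 (o1 ha).2 (od a ha)).2).2
    have key : ∀ f₁ f₂ : X →* G, CW e t f₁ f₂ → (∀ a ∈ O, a * f₁ y * a⁻¹ = f₁ y) →
        ∀ a b, f₁ a * f₂ b ∈ O → a = 1 := fun f₁ f₂ c' hf a b hab => by
      let O₁ : Subgroup X :=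
        { carrier := {a | ∃ b, f₁ a * f₂ b ∈ O}
          one_mem' := ⟨1, by simp⟩
          mul_mem' := fun ⟨b, h1⟩ ⟨b', h2⟩ => ⟨b * b', c'.mul_mul _ _ _ _ ▸ mul_mem h1 h2⟩
          inv_mem' := fun {a} ⟨b, h1⟩ => ⟨b⁻¹, by
            rw [map_inv, map_inv, ← mul_inv_rev, ← c'.comm]; exact inv_mem h1⟩ }
      refine mem_bot.1 ((w.oc y ⟨yy, y0⟩ O₁ (fun a ⟨b, h1⟩ => mem_Cz.2 ?_)
        (H64.SG.odd_card_of_forall fun a ⟨b, h1⟩ => ?_) fun p hp => mem_normalizer_of_cj_le ?_).le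
        ⟨b, hab⟩)
      · exact (mul_inv_eq_iff_eq_mul.1 (((c'.ind₁ a b).eq_iff c'.inj).1 (hf _ h1))).symm
      · exact H64.SG.odd_orderOf_of_pow (od _ h1) (w.ns.cen _ (by
          rw [map_pow]; exact (c'.ind₁ a b).pow_eq_one c'.inj (pow_orderOf_eq_one _)))
      · rintro _ ⟨a, ⟨b, h1⟩, rfl⟩
        refine ⟨p * b * p⁻¹, ?_⟩
        have := conj_mem_of_mem_normalizer (o3 ⟨eH p hp, eM p⟩) h1
        rwa [← conj_mul, ind_e₁ c', ind_e₂ c'] at this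
    have h1 : cm o (e u) ∈ O := by
      rw [show cm o (e u) = o * (e u * o⁻¹ * (e u)⁻¹) by unfold cm; group]
      exact mul_mem ho (conj_mem_of_mem_normalizer (o3 ⟨eH u (Dy hu), eM u⟩) (inv_mem ho))
    obtain ⟨a, a', h2⟩ := c.mem_G12.1 (mul_mem (conj_mem_of_mem_normalizer (o1 ho).2
      (g.le ⟨u, rfl⟩)) (inv_mem (g.le ⟨u, rfl⟩)) : cm o (e u) ∈ G12 e₁ e₂)
    rw [cm, h2] at h1
    rw [key e₁ e₂ c (fun a ha => (fx a ha).1) a a' h1, key e₂ e₁ (c.symm tt)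
      (fun a ha => (fx a ha).2) a' a (c.comm a a' ▸ h1), map_one, map_one, mul_one] at h2
    exact mem_Cz.2 (cm_eq_one.1 h2).symm

end H54.SPW
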