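import Cfsg.Agent.H86.TP.Spec
import Cfsg.Agent.H54.NFGlue
import Cfsg.Agent.S2775

/-! Tower NF (S1308), chapter TE part 1, job GO (after the model `H74/REGo`). -/

set_option autoImplicit false

namespace H54.TPGO

open Cfsg Subgroup MulAction H14 H98 H1.Gold H31.S2 H14.GC H14.FE H14.NF H86.TP
open scoped commutatorElement

universe u

theorem gen {G : Type u} [Group G] [Finite G] {Q S F E T : Subgroup G} {y : G} [hQ : Q.Normal]
    (top : ∀ x : G, x * x ∈ Q) (syl : IsSyl 2 S ⊤) (str : IsStronglyClosed F S) (el : El F)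
    (dec : ∀ f ∈ F, ∃ r ∈ E, ∃ t ∈ T, f = r * t) (EQ : E ≤ Q) (EF : E ≤ F) (TF : T ≤ F)
    (dis : ∀ t ∈ T, t ∈ Q → t = 1) (hy : ∀ r ∈ E, y * r = r * y) (hon : ∀ r ∈ E, ∃ t ∈ T, ⁅t, y⁆ = r) :
    ∃ O : Subgroup G, O.Normal ∧ Odd (Nat.card O) ∧ O ≤ Q ∧
      ∀ e ∈ E, ∀ g : G, ∃ r ∈ E, ∃ o ∈ O, g * e * g⁻¹ = r * o := by
  let K : Subgroup G := normalClosure (F : Set G)
  have hFK : F ≤ K := le_normalClosure
  have hN : (pPrimeCore 2 K).Normal := Subgroup.sSup_normal _ (fun _ h => h.1)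
  let π := QuotientGroup.mk' (pPrimeCore 2 K)
  have hπ : Function.Surjective π := QuotientGroup.mk'_surjective _
  obtain ⟨h1, h2, ⟨T', -, h3⟩, -⟩ := Cfsg.Agent.S2775.result syl.toSylowTop F
    ⟨⟨fun a b => Subtype.ext (H54.NF.ab_of_el el _ a.2 _ b.2)⟩⟩ str K rfl _ π hπ (QuotientGroup.ker_mk' _)
  have hO : (opp 2 K).Normal := by
    refine normalizer_eq_top_iff.1 (top_le_iff.1 ?_)
    refine le_trans ?_ (normalizer_le_normalizer_opp K)
    exact (normalizer_eq_top K).ge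
  have hcop := coprime_card_opp (p := 2) K
  let ρ := QuotientGroup.mk' (opp 2 K)
  let σ := QuotientGroup.mk' Q
  have eqv : ∀ a b : K, π a = π b ↔ ρ a = ρ b := by
    intro a b
    simp only [π, ρ, QuotientGroup.mk'_apply, QuotientGroup.eq]
    rw [← opp_subgroupOf, mem_subgroupOf]
    simp
  have hσ : ∀ x : G, σ x = 1 ↔ x ∈ Q := fun x => QuotientGroup.eq_one_iff x
  have hsq : ∀ a : G ⧸ Q, a * a = 1 := by
    intro a
    obtain ⟨x, rfl⟩ := QuotientGroup.mk'_surjective Q a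
    change σ x * σ x = 1
    rw [← map_mul, hσ]
    exact top x
  have hOQ : ∀ o ∈ opp 2 K, σ o = 1 := by
    intro o ho
    have a1 : orderOf (σ o) ∣ 2 := orderOf_dvd_of_pow_eq_one (by rw [sq]; exact hsq _)
    have a2 : orderOf (σ o) ∣ Nat.card (opp 2 K) :=
      (orderOf_map_dvd σ o).trans (Subgroup.orderOf_dvd_natCard _ ho)
    exact orderOf_eq_one_iff.1 (Nat.eq_one_of_dvd_coprimes hcop a2 a1)
  have hρσ : ∀ a b : G, ρ a = ρ b → σ a = σ b := by
    intro a b hab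
    have := hOQ _ (QuotientGroup.eq.1 hab)
    rw [map_mul, map_inv, inv_mul_eq_one] at this
    exact this
  have hcomm : ∀ k ∈ commutator K, σ (k : G) = 1 := by
    have : commutator K ≤ (σ.comp K.subtype).ker := commutator_le.2 fun a _ b _ => by
      rw [MonoidHom.mem_ker, map_commutatorElement, commutatorElement_eq_one_iff_mul_comm]
      exact H54.NF.ab_of_el (T := ⊤) (fun a _ => hsq a) _ trivial _ trivial
    exact fun k hk => this hk
  have hcm : commutator (K ⧸ pPrimeCore 2 K) = (commutator K).map π := by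
    rw [_root_.commutator_def, _root_.commutator_def, map_commutator, map_top_of_surjective _ hπ]
  have hKρ : (K.map ρ).Normal := Normal.map inferInstance ρ (QuotientGroup.mk'_surjective _)
  let Z : Subgroup G := (centralizer (K.map ρ : Set (G ⧸ opp 2 K))).comap ρ
  have hZ : Z.Normal := inferInstance
  have memZ : ∀ f : K, π f ∈ center (K ⧸ pPrimeCore 2 K) ↔ (f : G) ∈ Z := by
    intro f
    constructor
    · rintro hf _ ⟨k, hk, rfl⟩
      have := mem_center_iff.1 hf (π ⟨k, hk⟩)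
      rw [← map_mul, ← map_mul, eqv] at this
      simpa using this
    · intro hf
      refine mem_center_iff.2 fun g => ?_
      obtain ⟨k, rfl⟩ := hπ g
      rw [← map_mul, ← map_mul, eqv]
      have := hf (ρ k) ⟨k, k.2, rfl⟩
      simpa using this
  have s3 : ∀ t ∈ T, ∃ r ∈ E, r * t ∈ Z := by
    intro t ht
    have htK : t ∈ K := hFK (TF ht)
    have : π ⟨t, htK⟩ ∈ pCore 2 (K ⧸ pPrimeCore 2 K) ⊔ commutator (K ⧸ pPrimeCore 2 K) := by
      rw [h1]; trivial
    obtain ⟨z, hz, c, hc, e⟩ := mem_sup_of_normal_right.1 this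
    have hz' : z ∈ (F.subgroupOf K).map π := by rw [h3]; exact mem_sup_left hz
    obtain ⟨f, hf, rfl⟩ := hz'
    rw [hcm] at hc
    obtain ⟨k, hk, rfl⟩ := hc
    rw [← map_mul, eqv] at e
    have e2 := hρσ _ _ e
    obtain ⟨r, hr, t', ht', e3⟩ := dec f (mem_subgroupOf.1 hf)
    rw [coe_mul, map_mul, hcomm k hk, mul_one, e3, map_mul, (hσ r).2 (EQ hr), one_mul] at e2
    have e4 : t'⁻¹ * t = 1 := dis _ (T.mul_mem (T.inv_mem ht') ht) (QuotientGroup.eq.1 e2)
    rw [inv_mul_eq_one] at e4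
    refine ⟨r, hr, ?_⟩
    rw [← e4, ← e3]
    exact (memZ f).1 (h2 hz)
  have s4 : ∀ r ∈ E, r ∈ Z := by
    intro r0 hr0
    obtain ⟨t, ht, rfl⟩ := hon r0 hr0
    obtain ⟨r, hr, hz⟩ := s3 t ht
    have e : ⁅t, y⁆ = r⁻¹ * ((r * t) * (y * (r * t) * y⁻¹)⁻¹) * r := by
      calc ⁅t, y⁆ = t * y * t⁻¹ * r⁻¹ * (r * y⁻¹) := by rw [commutatorElement_def]; group
        _ = t * y * t⁻¹ * r⁻¹ * (y⁻¹ * r) := by
          rw [show r * y⁻¹ = y⁻¹ * r from by rw [mul_inv_eq_iff_eq_mul, mul_assoc, ← hy r hr]; group]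
        _ = _ := by group
    rw [e]
    simpa using hZ.conj_mem _ (Z.mul_mem hz (Z.inv_mem (hZ.conj_mem _ hz y))) r⁻¹
  have s5 : F ≤ Z := by
    intro f hf
    obtain ⟨r, hr, t, ht, rfl⟩ := dec f hf
    obtain ⟨r', hr', hz⟩ := s3 t ht
    have := Z.mul_mem (s4 r hr) (Z.mul_mem (Z.inv_mem (s4 r' hr')) hz)
    simpa using this
  have s6 : K ≤ Z := normalClosure_le_normal s5
  have s7 : commutator (K ⧸ pPrimeCore 2 K) = ⊥ := by
    rw [eq_bot_iff]
    refine commutator_le.2 fun a _ b _ => ?_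
    obtain ⟨k, rfl⟩ := hπ b
    rw [mem_bot, commutatorElement_eq_one_iff_mul_comm]
    exact mem_center_iff.1 ((memZ k).2 (s6 k.2)) a
  have s8 : F ⊔ opp 2 K = K := by
    refine le_antisymm (sup_le hFK (opp_le K)) fun k hk => ?_
    have : π ⟨k, hk⟩ ∈ (F.subgroupOf K).map π := by
      rw [h3]
      refine mem_sup_left ?_
      rw [s7, sup_bot_eq] at h1
      rw [h1]; trivial
    obtain ⟨f, hf, e⟩ := this
    rw [eqv] at e
    have e2 : (f : G)⁻¹ * k ∈ opp 2 K := QuotientGroup.eq.1 e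
    have := (F ⊔ opp 2 K).mul_mem (mem_sup_left (mem_subgroupOf.1 hf)) (mem_sup_right e2)
    simpa using this
  refine ⟨opp 2 K, hO, Nat.coprime_two_right.1 hcop, fun o ho => (hσ o).1 (hOQ o ho), fun e he g => ?_⟩
  have m : g * e * g⁻¹ ∈ F ⊔ opp 2 K := by
    rw [s8]
    exact normalClosure_normal.conj_mem _ (hFK (EF he)) g
  obtain ⟨f, hf, o, ho, e1⟩ := mem_sup_of_normal_right.1 m
  obtain ⟨r, hr, t, ht, rfl⟩ := dec f hf
  have t1 : t = 1 := dis t ht (by
    have a1 := hQ.conj_mem _ (EQ he) g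
    rw [← e1] at a1
    have := Q.mul_mem (Q.mul_mem (Q.inv_mem (EQ hr)) a1) (Q.inv_mem ((hσ o).1 (hOQ o ho)))
    convert this using 1
    group)
  exact ⟨r, hr, o, ho, by rw [← e1, t1, mul_one]⟩

theorem jobGO : JobGO.{u} := by
  intro G _ _ Q Q' T R E h hs e he g hg
  have TN : T ≤ nor Q := h.syl.le.trans inf_le_right
  have ER : E ≤ R := h.ltP.le
  have EQ : E ≤ Q := ER.trans h.sylR.le
  have memX : ∀ x ∈ Q ⊔ T, ∃ q ∈ Q, ∃ t ∈ T, x = q * t := fun x hx => by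
    rw [← SetLike.mem_coe, coe_mul_of_right_le_normalizer_left Q T TN] at hx
    obtain ⟨q, hq, t, ht, e1⟩ := hx
    exact ⟨q, hq, t, ht, e1.symm⟩
  set X := Q ⊔ T with hX
  have hn : (Q.subgroupOf X).Normal := normal_subgroupOf_of_le_normalizer (sup_le le_normalizer TN)
  have two : IsPGroup 2 ↥(R ⊔ T) := by
    rw [sup_comm]
    exact IsPGroup.to_sup_of_normal_right' h.syl.isPGroup h.sylR.isPGroup h.norR
  have sy : IsSyl 2 (R ⊔ T) X := by
    obtain ⟨P, hP, hl⟩ := exists_isSyl_le two (sup_le_sup_right h.sylR.le T)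
    have e1 : P ⊓ Q = R := h.sylR.eq_of_le (hP.isPGroup.to_le inf_le_left)
      (le_inf (le_sup_left.trans hl) h.sylR.le) inf_le_right
    have e2 : P ≤ R ⊔ T := fun x hx => by
      obtain ⟨q, hq, t, ht, rfl⟩ := memX x (hP.le hx)
      have : q ∈ P := by simpa using P.mul_mem hx (P.inv_mem (hl (mem_sup_right ht)))
      exact mul_mem (mem_sup_left (e1 ▸ (⟨this, hq⟩ : q ∈ P ⊓ Q))) (mem_sup_right ht)
    rwa [le_antisymm hl e2]
  obtain ⟨y, hyR, hyE⟩ := SetLike.not_le_iff_exists.1 h.lt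
  have cm : ∀ r ∈ E, ∀ t ∈ T, t * r = r * t := fun r hr t ht =>
    mem_centralizer_iff.1 (h.eq ▸ hr : r ∈ R ⊓ cen T).2 t ht
  obtain ⟨O, hO, odd, OQ, fin⟩ := gen (G := X) (Q := Q.subgroupOf X) (S := (R ⊔ T).subgroupOf X)
    (F := (E ⊔ T).subgroupOf X) (E := E.subgroupOf X) (T := T.subgroupOf X)
    (y := ⟨y, mem_sup_left (h.sylR.le hyR)⟩) (fun x => by
      obtain ⟨q, hq, t, ht, e1⟩ := memX x x.2
      rw [mem_subgroupOf, coe_mul, e1]
      have : q * t * (q * t) = q * (t * q * t⁻¹) * (t * t) := by group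
      rw [this, h.el t ht, mul_one]
      exact Q.mul_mem hq ((mem_normalizer_iff.1 (TN ht) q).1 hq))
    sy.subgroupOf_top
    ⟨fun x hx => sup_le_sup_right ER T hx, fun x hx k hk => hs x hx k k.2 hk⟩
    (fun a ha => by
      obtain ⟨r, hr, t, ht, e1⟩ := (h.memF a).1 ha
      apply Subtype.ext
      rw [coe_mul, e1]
      calc r * t * (r * t) = r * (t * r) * t := by group
        _ = (r * r) * (t * t) := by rw [cm r hr t ht]; group
        _ = 1 := by rw [h.elE r hr, h.el t ht, one_mul])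
    (fun f hf => by
      obtain ⟨r, hr, t, ht, e1⟩ := (h.memF f).1 hf
      exact ⟨⟨r, mem_sup_left (EQ hr)⟩, hr, ⟨t, mem_sup_right ht⟩, ht, Subtype.ext e1⟩)
    (fun x hx => EQ hx) (fun x hx => mem_sup_left (S := E) hx) (fun x hx => mem_sup_right (S := E) hx)
    (fun t ht hq => Subtype.ext (h.dis t ht hq))
    (fun r hr => Subtype.ext (mem_centralizer_iff.1 (h.cenE hyR) r hr).symm)
    (fun r hr => by
      obtain ⟨t, ht, e1⟩ := h.onto y hyR hyE r hr
      exact ⟨⟨t, mem_sup_right ht⟩, ht, Subtype.ext e1⟩)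
  obtain ⟨r, hr, o, ho, e1⟩ := fin ⟨e, mem_sup_left (EQ he)⟩ he ⟨g, mem_sup_left hg⟩
  have hle : O.map X.subtype ≤ opp 2 Q := by
    refine le_opp_of_odd ?_ (fun q hq => mem_normalizer_fintype ?_) ?_
    · rintro _ ⟨x, hx, rfl⟩
      exact OQ hx
    · rintro _ ⟨x, hx, rfl⟩
      exact ⟨_, hO.conj_mem x hx ⟨q, mem_sup_left hq⟩, rfl⟩
    · rwa [card_map_of_injective (subtype_injective _)]
  have e2 : g * e * g⁻¹ = r * o := congrArg Subtype.val e1
  rw [e2]
  exact mul_mem (mem_sup_left hr) (mem_sup_right (hle (mem_map_of_mem _ ho)))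

end H54.TPGO
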