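import Cfsg.Agent.H64.YESpec
import Cfsg.Agent.H9.UfK1

/-! STD-SP (row S3129), endgame: slot `HS`. -/

set_option autoImplicit false
set_option linter.unusedSectionVars false

namespace H54.YE

open H64.SG (Cz Cs Ns cjs Is2 Inv2 UF is2_of_sq mem_Cs)
open Subgroup H67.SP H64.YE
open H67.UA (XU)
open H67.SA (cm)
open H59.SO (Ind AutOn ind_conj map_mem_Cs map_mem_Ns)

universe u

theorem mem_Ns_zp {G : Type*} [Group G] {a d : G} (h : a * d = d * a) : a ∈ Ns (zpowers d) :=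
  centralizer_le_normalizer _ fun b hb => by
    obtain ⟨k, rfl⟩ := hb
    exact ((show Commute a d from h).zpow_right k).eq.symm

theorem conj_of_Ns {G : Type*} [Group G] {a d : G} (h2 : d * d = 1) (h : a ∈ Ns (zpowers d)) :
    a * d * a⁻¹ = d := by
  obtain ⟨k, e⟩ := H98.conj_mem_of_mem_normalizer h (mem_zpowers d)
  have h1 : d ^ (2 : ℤ) = 1 := by rw [zpow_two, h2]
  simp only at e
  rcases Int.even_or_odd' k with ⟨j, rfl | rfl⟩
  · rw [zpow_mul, h1, one_zpow, eq_comm, mul_inv_eq_one, mul_eq_left] at e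
    simp [e]
  · rw [← e, zpow_add, zpow_mul, h1, one_zpow, one_mul, zpow_one]

variable {n : ℕ} {F : Type} [Field F] [StarRing F] [TrivialStar F] [CharP F 2] [Finite F]
  {Y : Type} [Group Y] [Finite Y] [QS Y] {G : Type u} [Group G] [Finite G] {ι : XU n F →* Y}
  {τ : MulAut Y} {Gd Go : XU n F → Prop} {U : Subgroup Y} {e : XU n F →* G} {t : G} {Φ : Y →* G}
  {K₀ : Subgroup G}

theorem tt (h : E1 ι τ Gd Go U e t Φ K₀) {y : Y} (hy : MI ι y) :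
    ∃ a, IsConj t a ∧ a ∈ Ns Φ.range ∧ a * Φ y = Φ y * a := by
  obtain ⟨w, u, rfl⟩ := hy
  have hw := (ind_conj (e := Φ) w).mem_Ns
  refine ⟨Φ w * t * (Φ w)⁻¹, isConj_iff.2 ⟨_, rfl⟩, mul_mem (mul_mem hw h.uf.mem) (inv_mem hw), ?_⟩
  have := h.toB1.comm u
  simp only [map_mul, map_inv, h.res, mul_assoc, inv_mul_cancel_left]
  rw [← mul_assoc t, this, mul_assoc]

theorem fu (h : E1 ι τ Gd Go U e t Φ K₀) {y y' : Y} (h2 : y * y = 1) (h2' : y' * y' = 1)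
    (hy : MI ι y) (hy' : MI ι y') {g : G} (hg : g * Φ y * g⁻¹ = Φ y') : Ac y y' := by
  obtain ⟨a, a1, a2, a3⟩ := tt h hy
  obtain ⟨b, b1, b2, b3⟩ := tt h hy'
  obtain ⟨m, hm, c, hc, rfl⟩ := (H9.UF.jobK2 h.uf a1 a2).2 (zpowers (Φ y)) g b (mem_Ns_zp a3) b1 b2
    (by
      rw [cjs, MonoidHom.map_zpowers]
      exact mem_Ns_zp (d := g * Φ y * g⁻¹) (by rw [hg, b3]))
  obtain ⟨β, hβ⟩ := exists_ind h.ker hm
  refine ⟨β, (ind_eq_iff h.ker hβ (is2_of_sq h2) (is2_of_sq h2')).1 ?_⟩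
  have := conj_of_Ns (by rw [← map_mul, h2, map_one]) hc
  rw [← hg]
  conv_lhs => rw [← this]
  simp only [mul_assoc, mul_inv_rev]

theorem jobHS : JobHS.{u} := by
  intro n F _ _ _ _ _ _ G _ _ e t Y _ _ _ ι τ Gd Go U Φ K₀ h r Z Q rd mi rb cq g ⟨⟨g1, g2⟩, g3⟩
  have q2 : ∀ x ∈ Q, Is2 x := fun x hx => is2_of_sq (rb.el x hx)
  have h1 : ∀ x, ∃ x', x ∈ Q → x' ∈ Q ∧ g * Φ x * g⁻¹ = Φ x' := fun x => by
    by_cases hx : x ∈ Q
    · obtain ⟨x', k1, k2⟩ := H98.conj_mem_of_mem_normalizer g3 (mem_map_of_mem Φ hx)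
      exact ⟨x', fun _ => ⟨k1, k2.symm⟩⟩
    · exact ⟨x, fun k => absurd k hx⟩
  choose θ hθ using h1
  have hi : Set.InjOn θ Q := fun a ha b hb k => inj2 h.ker (q2 a ha) (q2 b hb)
    (mul_left_cancel (a := g) (mul_right_cancel (b := g⁻¹) (by rw [(hθ a ha).2, (hθ b hb).2, k])))
  have hm : Set.MapsTo θ Q Q := fun a ha => (hθ a ha).1
  obtain ⟨p, hp, k⟩ := rb.hs θ ⟨((Set.toFinite _).injOn_iff_bijOn_of_mapsTo hm).1 hi,
    fun a ha b hb => inj2 h.ker (q2 _ (hm (mul_mem ha hb))) (q2 _ (mul_mem (hm ha) (hm hb))) (by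
      rw [map_mul, ← (hθ _ (mul_mem ha hb)).2, ← (hθ a ha).2, ← (hθ b hb).2]; simp)⟩
    (fun z hz => inj2 h.ker (q2 _ (hm (rd.zq hz))) (q2 _ (rd.zq hz)) (by
      rw [← (hθ z (rd.zq hz)).2, ← g2 _ (mem_map_of_mem Φ hz), mul_inv_cancel_right]))
    fun x hx => fu h (rb.el x hx) (rb.el _ (hm hx)) (mi _ (rb.el x hx)) (mi _ (rb.el _ (hm hx)))
      (hθ x hx).2
  have pq : MulAut.conj p ∈ H67.SA.St Q := rd.stq _ (H67.SA.mem_St_of_finite fun z hz => by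
    rw [MulAut.conj_apply, ← hp z hz, mul_inv_cancel_right]; exact hz)
  obtain ⟨y, -, o, ho, k1⟩ := cq ((Φ p)⁻¹ * g) (mul_mem (inv_mem (h.le ⟨p, rfl⟩)) g1)
    (mul_mem (inv_mem (map_mem_Cs hp)) g2) (mul_mem (inv_mem ((ind_conj p).mem_Ns_map pq)) g3)
    fun x hx => ⟨_, k x hx, by
      rw [eq_comm, cm, mul_assoc, mul_assoc, mul_assoc, inv_mul_eq_iff_eq_mul, ← map_mul, ← hp _ (k x hx)]
      simp [← (hθ x hx).2, mul_assoc]⟩
  rw [← mul_inv_cancel_left (Φ p) g, k1]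
  exact mul_mem (ind_conj p).mem_Ns (mul_mem (ind_conj y).mem_Ns (centralizer_le_normalizer _ ho))

end H54.YE
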