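import Cfsg.Agent.H54.YSSpec
import Cfsg.Agent.H64.SGA3

/-! STD-SP (row S3129), endgame, symplectic model: the slots `KT QS EP M1 M2 NY`. -/

set_option autoImplicit false
set_option linter.unusedSectionVars false

namespace H54.YS

open H64.SG (O2 Syl Cz Cs Ns cjs Is2 Inv2 IsO2 fx mem_Cz mem_Cs)
open Subgroup H67.SP H64.YE
open H67.UA hiding Par Base FV FW
open H67.SA (cm St la)
open H86.SPI (ok pp hf_self hf_comm ac_TT TT_conj EE_mul' hf_smul_right')
open H54.SPF (v1 v2 hf_evv fs_TT)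

section KT

variable {n : ℕ} {K : Type} [Field K] [StarRing K] [TrivialStar K] [CharP K 2] [Finite K]
  [p : Par n K]

theorem nli (y : Vn n K) : ¬ Li (ev 0) y ↔ ∃ a : K, y = a • ev 0 := by
  refine ⟨fun h => by_contra fun h' => h fun a b e => ?_, fun ⟨a, e⟩ h =>
    one_ne_zero (h a 1 (by rw [e, one_smul, v_add_self])).2⟩
  have hb : b = 0 := by_contra fun hb => h' ⟨b⁻¹ * a, by
    rw [mul_smul, ← add_zero (a • ev 0), ← e, ← add_assoc, v_add_self, zero_add, smul_smul,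
      inv_mul_cancel₀ hb, one_smul]⟩
  rw [hb, zero_smul, add_zero] at e
  exact ⟨(smul_eq_zero.1 e).resolve_right (ev_ne 0), hb⟩

theorem li (y : Vn n K) (h : Hy y) (h0 : y ≠ 0) : Li (ev 0) y := by_contra fun h' => by
  obtain ⟨a, rfl⟩ := (nli y).1 h'
  have := h.2
  rw [hf_smul_left, hf_ev, if_pos (by simp), mul_one] at this
  exact h0 (by rw [this, zero_smul])

theorem hy_ev {i : Fin (n + 1)} (h0 : i.val ≠ 0) (h1 : i.val ≠ n) : Hy (ev i : Vn n K) :=
  ⟨by rw [hf_evv, if_neg (by simpa using h1)],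
    by rw [hf_evv, if_neg (by rw [Fin.val_last]; omega)]⟩

theorem hy1 : Hy (ev 1 : Vn n K) :=
  have := p.five; hy_ev (by rw [v1 this]; omega) (by rw [v1 this]; omega)
theorem hy2 : Hy (ev 2 : Vn n K) :=
  have := p.five; hy_ev (by rw [v2 this]; omega) (by rw [v2 this]; omega)
theorem hf12 : hf (ev 1 : Vn n K) (ev 2) = 0 := by
  have := p.five
  rw [hf_evv, if_neg (by rw [v1 this, v2 this]; omega)]
theorem ne12 (h5 : 5 ≤ n) : (1 : Fin (n + 1)) ≠ 2 := fun h => by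
  have := congrArg Fin.val h
  rw [v1 h5, v2 h5] at this
  omega

theorem hy_comb {y z : Vn n K} (h : Hy y) (h' : Hy z) (a b : K) : Hy (a • y + b • z) :=
  ⟨by simp [hf_add_left, hf_smul_left, h.1, h'.1], by simp [hf_add_left, hf_smul_left, h.2, h'.2]⟩

theorem li_add {y : Vn n K} (h : Li (ev 0) y) (s : K) : Li (ev 0) (s • ev 0 + y) :=
  by_contra fun h' => by
    obtain ⟨a, e⟩ := (nli _).1 h'
    exact (nli y).2 ⟨s + a, by rw [add_smul, ← e, ← add_assoc, v_add_self, zero_add]⟩ h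

theorem EE_one {u v : Vn n K} (h : hf v u = 0) : EE u v 1 = TT (u + v) * TT v := ac_ext fun y => by
  rw [ac_mul, ac_EE (ok h 1), ac_TT, ac_TT]
  simp only [hf_add_left, hf_add_right, hf_smul_left, h, hf_self]
  ext i
  simp only [Pi.add_apply, Pi.smul_apply, smul_eq_mul]
  linear_combination -(hf y v * v i) * two0 K

/-- three vectors -/
theorem EE_three {u v w : Vn n K} (h : hf v u = 0) (h' : hf w u = 0) (h0 : hf w v = 0) (c : K) :
    EE u v c * EE u w c * EE u (v + w) c = Tc c u := by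
  rw [EE_mul' h h', EE_mul' (by rw [hf_add_left, h, h', add_zero]) (by rw [hf_add_left, h, h', add_zero]),
    v_add_self, hf_self, h0, CharTwo.add_self_eq_zero]
  simp

variable [Base n K]

theorem tp (u v : Vn n K) (hu : hf u (ev 0) = 0) (hv : hf v (ev 0) = 0) (lu : Li (ev 0) u)
    (lv : Li (ev 0) v) : ∃ p ∈ PP n K, ac p u = v := by
  obtain ⟨g, g0, g1⟩ := FW.w2 _ _ (hf_symm hu) lu
  obtain ⟨k, k0, k1⟩ := FW.w2 _ _ (hf_symm hv) lv
  refine ⟨k * g⁻¹, mem_Stab.2 ?_, by rw [ac_mul, ← g1, ac_inv_ac, k1]⟩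
  rw [ac_mul, ← g0, ac_inv_ac, k0, g0]

theorem gP1 (A : Subgroup (XU n K)) (h : ∀ v, hf v (ev 0) = 0 → Li (ev 0) v → TT v ∈ A) :
    PP n K ≤ A := FW.genP A fun v hv => by
  by_cases l : Li (ev 0) v
  · exact h v hv l
  obtain ⟨s, rfl⟩ := (nli v).1 l
  have k0 : ∀ y : Vn n K, Hy y → hf y (s • ev 0) = 0 := fun y hy => by
    rw [hf_smul_right', hy.1, mul_zero]
  have k : ∀ y : Vn n K, Hy y → y ≠ 0 → EE (s • ev 0) y 1 ∈ A := fun y hy h0 => by
    rw [EE_one (k0 y hy)]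
    exact mul_mem (h _ (by rw [hf_add_left, hv, hy.1, add_zero]) (li_add (li y hy h0) s))
      (h y hy.1 (li y hy h0))
  rw [TT, ← EE_three (k0 _ hy1) (k0 _ hy2) (hf_symm hf12)]
  refine mul_mem (mul_mem (k _ hy1 (ev_ne _)) (k _ hy2 (ev_ne _)))
    (k _ (by simpa using hy_comb hy1 hy2 (1 : K) 1) fun e => ?_)
  simpa [ev_apply, ne12 p.five] using congrFun e 1

theorem TT_mem {v : Vn n K} (h : hf v (ev 0) = 0) : TT v ∈ PP n K :=
  mem_Stab.2 (by rw [ac_TT, hf_symm h, zero_smul, add_zero])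

theorem gP2 (A : Subgroup (XU n K)) (h : PP n K ≤ A) (s : XU n K) (hs : s ∈ A)
    (h0 : hf (ac s (ev 0)) (ev 0) = 0) (l : Li (ev 0) (ac s (ev 0))) : A = ⊤ :=
  FW.genT A fun w => by
    obtain ⟨v, hv, v0, hw⟩ : ∃ v : Vn n K, Hy v ∧ v ≠ 0 ∧ hf w v = 0 := by
      by_cases e : hf w (ev 1) = 0
      · exact ⟨_, hy1, ev_ne _, e⟩
      refine ⟨hf w (ev 2) • ev 1 + hf w (ev 1) • ev 2, hy_comb hy1 hy2 _ _, fun e' => e ?_, ?_⟩
      · simpa [ev_apply, (ne12 p.five).symm] using congrFun e' 2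
      · rw [hf_add_right, hf_smul_right', hf_smul_right', mul_comm, CharTwo.add_self_eq_zero]
    obtain ⟨g, hg, e⟩ := tp _ _ h0 hv.1 l (li v hv v0)
    have k := mul_mem (h hg) hs
    rw [← ac_ac_inv (g * s) w, ← TT_conj]
    refine mul_mem (mul_mem k (h (TT_mem ?_))) (inv_mem k)
    rw [hf_ac_left, inv_inv, ac_mul, e, hw]

theorem qu : QQ n K ≤ UU n K := fun g hg => by
  obtain ⟨y, c, hy, rfl⟩ := (FV.mem_QQ g).1 hg
  refine (FV.mem_U _).2 fun j v hv i hi => ?_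
  rw [ac_EE (ok hy.1 c), add_comm, ← add_assoc, ← add_assoc, ← add_assoc, v_add_self, zero_add]
  have hn := p.five
  have h1 : y (la n) = 0 := by simpa [hf_ev_right] using hy.1
  simp only [Pi.add_apply, Pi.smul_apply, smul_eq_mul, hf_ev_right, Fin.rev_zero, ev_apply]
  by_cases i0 : i = 0
  · have hj : j = 0 := by subst i0; simpa using hi
    have h2 : v = v 0 • ev 0 := funext fun k => by
      by_cases k0 : k = 0
      · simp [k0, ev_apply]
      · simpa [k0, ev_apply] using hv k (by have := Fin.pos_iff_ne_zero.2 k0; rw [Fin.lt_def] at this; simp at this; omega)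
    rw [hv (Fin.last n) (by simp; omega), h2, hf_smul_left, hf_symm hy.1]
    simp
  · by_cases il : i = la n
    · simp [il, h1, show la n ≠ 0 from il ▸ i0]
    · have : i.val ≠ n := fun e => il (Fin.ext e)
      rw [hv (Fin.last n) (by have := i.2; simp; omega)]
      simp [i0]

theorem jobKT : JobKT := fun n K _ _ _ _ _ _ _ _ _ => by
  refine ⟨le_antisymm (fun g hg => ?_) fun g hg z hz => ?_, fun g hg => ?_, qu,
    (FR.o2 _ (ev_ne 0)).2.1, fun y c h => ?_, li, nli, tp, gP1, gP2, fun α h => ?_⟩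
  · rw [PP, ← FR.cz _ 1 (ev_ne 0) one_ne_zero]
    exact mem_Cz.2 (hg _ ((FV.mem_Zl _ _).2 ⟨1, rfl⟩))
  · obtain ⟨c, rfl⟩ := (FV.mem_Zl _ _).1 hz
    rw [mul_inv_eq_iff_eq_mul.1 (Tc_conj (hf_self _) (star_trivial c) g), mem_Stab.1 hg]
  · have := (FV.mem_U g).1 hg 0 (ev 0) fun i hi => by
      rw [ev_apply, if_neg (by rintro rfl; simp at hi)]
    exact mem_Stab.2 (funext fun i => by
      have := this i (Nat.zero_le _)
      rwa [Pi.add_apply, CharTwo.add_eq_zero] at this)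
  · rw [nli, FV.mem_Zl]
    refine ⟨fun ⟨d, e⟩ => ?_, fun ⟨a, e⟩ => ⟨c + tr a, by rw [e, Tc, ← EE_shift, zero_add]⟩⟩
    obtain ⟨a, h1, -⟩ := EE_inj (ev_ne 0) (ok (hf_zero_left _) d) (ok h c) e.symm
    exact ⟨a, by rw [h1, zero_add]⟩
  · obtain ⟨g, σ, rfl⟩ := FA.semi α
    obtain ⟨c, e⟩ := (FV.mem_Zl _ _).1 h
    rw [MulAut.mul_apply, fs_TT, MulAut.conj_apply, TT_conj, H54.SPI.Tc_eq,
      show (fun i => σ (ev 0 i)) = (ev 0 : Vn n K) from funext fun i => by
        simp [ev_apply, apply_ite σ]] at e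
    refine ⟨g, σ, rt c, fun h0 => ev_ne 0 (ac_inj g ?_), H54.SPI.TT_inj e, rfl⟩
    rw [H54.SPI.TT_inj e, h0, zero_smul, ac_zero]

theorem cen_bot : center (XU n K) = ⊥ :=
  eq_bot_iff.2 fun _ ha => mem_bot.2 (FA.ns.eq_one fun c => (mem_center_iff.1 ha c).symm)

theorem out_comm {o : MulAut (XU n K) →* RingAut K} {β : MulAut (XU n K)}
    (h : β ∈ commutator (MulAut (XU n K))) : o β = 1 :=
  (commutator_le.2 fun a _ b _ => by
    rw [MonoidHom.mem_ker, map_commutatorElement, commutatorElement_eq_one_iff_mul_comm]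
    exact (H54.SPF.ra_comm _ _).eq : _ ≤ o.ker) h

theorem jobQS : JobQS := fun n K _ _ _ _ _ _ _ _ _ _ => by
  have ns := FA.ns (n := n) (F := K)
  refine ⟨eq_top_iff.2 ns.perfect, by rw [cen_bot, card_bot]; exact odd_one,
    fun N _ => (ns.normal N).imp_left fun h => h.le.trans bot_le, fun β => ?_, fun β h _ => ?_⟩
  · let e : (XU n K ⧸ center (XU n K)) ≃* XU n K :=
      (QuotientGroup.quotientMulEquivOfEq cen_bot).trans QuotientGroup.quotientBot
    have he : ∀ g : XU n K, e.symm g = (g : XU n K ⧸ center (XU n K)) := fun g =>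
      e.symm_apply_eq.2 rfl
    refine ⟨(e.symm.trans β).trans e, MulEquiv.ext fun a => ?_⟩
    obtain ⟨g, rfl⟩ := QuotientGroup.mk_surjective a
    rw [H57.quotCenterAut_mk, ← he, ← he]
    simp
  · obtain ⟨o, ho⟩ := FA.out (n := n) (F := K)
    exact H54.SPF.inn_of ho (out_comm h)

end KT

section Two

variable {n : ℕ} {F : Type} [Field F] [StarRing F] [TrivialStar F] [CharP F 2] [Finite F]
  {K : Type} [Field K] [StarRing K] [TrivialStar K] [CharP K 2] [Finite K] [Par n F] [Par n K]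
  [Base n F] [Base n K] (x : Qx F K)

theorem sg_ne : x.σ ≠ 1 := fun h => by
  have h1 : Function.Surjective x.φ := fun a => (x.fix a).1 (by rw [h]; rfl)
  have h2 := Nat.card_le_card_of_surjective _ h1
  have h3 : 1 < Nat.card F := Finite.one_lt_card
  rw [x.card] at h2
  nlinarith

theorem sg_sq : x.σ * x.σ = 1 := RingEquiv.ext x.sq

theorem t2 : tT n x * tT n x = 1 := by rw [← FA.fs_mul, sg_sq, H54.SPF.fs_one]

theorem fix (y : XU n K) : tT n x y = y ↔ y ∈ (iT n x).range := by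
  refine ⟨fun h => ?_, fun ⟨g, e⟩ => e ▸ tT_iT n x g⟩
  have h1 : ∀ i j, ∃ a, x.φ a = mt y i j := fun i j =>
    (x.fix _).1 (congrFun (congrFun (congrArg H67.UA.mt h) i) j)
  choose M hM using h1
  have h2 : ∀ v : Vn n F, vx n x (Matrix.mulVec M v) = ac y (vx n x v) := fun v => funext fun i => by
    simp [vx, ac, Matrix.mulVec, dotProduct, hM]
  obtain ⟨g, e⟩ := FV.isom M fun v w => x.φ.injective (by
    rw [← hf_vx n x, h2, h2, hf_ac, hf_vx])
  exact ⟨g, X_ext (Matrix.ext fun i j => by rw [mt_bc, e]; exact hM i j)⟩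

theorem jobM1 : JobM1 := fun n F _ _ _ _ _ _ _ _ _ _ K _ _ _ _ _ _ _ _ _ _ x h => by
  refine ⟨t2 x, fix x, FW.sylU, H67.SA.mem_St_of_finite fun g hg => ?_, fun h' => ?_, h⟩
  · refine (FV.mem_U _).2 fun j v hv i hi => ?_
    obtain ⟨w, rfl⟩ := H54.SPF.map_surj x.σ v
    have := (FV.mem_U _).1 hg j w (fun k hk => by simpa using hv k hk) i hi
    rw [FA.fs_ac, Pi.add_apply, ← map_add, ← Pi.add_apply, this, map_zero]
  · obtain ⟨o, ho⟩ := FA.out (n := n) (F := K)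
    exact sg_ne x (by rw [← ho 1 x.σ, map_one, one_mul]; exact out_comm h')

/-- Hilbert 90. -/
theorem h90 [FO n K] (v : XU n K) (h : v * tT n x v = 1) : ∃ g, v = g * (tT n x g)⁻¹ := by
  obtain ⟨o, ho⟩ := FA.out (n := n) (F := K)
  have h1 : ∀ g, o (MulAut.conj g) = 1 := fun g => by
    simpa [H54.SPF.fs_one] using ho g 1
  obtain ⟨g, σ, -, -, e⟩ := FO.std (MulAut.conj v * tT n x) (by
    rw [H54.SPF.semi_mul, h, sg_sq, H54.SPF.fs_one, map_one, mul_one]) fun g e =>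
      sg_ne x (by rw [← ho v x.σ, e, h1])
  have h2 : x.σ = σ := by
    rw [← ho v x.σ, e, map_mul, ho, map_inv, h1, inv_one, mul_one]
  refine ⟨g, FA.ns.conj_inj (mul_right_cancel (b := tT n x) ?_)⟩
  rw [e, ← h2]
  ext1 y
  simp [mul_assoc]

theorem jobM2 : JobM2 := fun n F _ _ _ _ _ _ _ _ _ _ K _ _ _ _ _ _ _ _ _ _ x => by
  refine ⟨⟨fun u h _ => h90 x _ (by rw [tT_iT, ← map_mul, h, map_one]), fun v h => ?_⟩,
    fun β h _ h1 h2 => ?_⟩
  · obtain ⟨g, e⟩ := h90 x v h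
    exact ⟨g, 1, mul_one 1, by rw [map_one, mul_one, e]⟩
  · obtain ⟨o, ho⟩ := FA.out (n := n) (F := K)
    have := H57.isCyclic_ringAut (F := K)
    have h3 := H64.SG.eq_of_cyclic (R := ⊤) inferInstance (mem_top x.σ) (mem_top (o β))
      ⟨sg_sq x, sg_ne x⟩ (by rw [← map_mul, h, map_one])
    rcases h3 with h3 | h3
    · obtain ⟨g, e⟩ := H54.SPF.inn_of ho h3
      exact absurd e (h1 g)
    · obtain ⟨g, e⟩ := H54.SPF.inn_of ho (α := β * tT n x) (by
        rw [map_mul, h3, ← one_mul (tT n x), ← map_one MulAut.conj, ho, sg_sq])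
      exact absurd e (h2 g)

theorem jobEP : JobEP := fun n F _ _ _ _ _ _ _ _ _ _ K _ _ _ _ _ _ _ _ _ _ x B hB =>
  gP1 _ fun v hv l => by
    obtain ⟨g, hg, e⟩ := tp _ _ (hy1 (K := K)).1 hv (li _ hy1 (ev_ne _)) l
    have h : iT n x (TT (ev 1)) = TT (ev 1) := by rw [iT_TT, vx_ev]
    exact subset_closure ⟨g, hB hg, TT (ev 1), Tc_mul_self (hf_self _) (star_one F), trivial,
      h ▸ hB (TT_mem hy1.1), by rw [h, TT_conj, e]⟩

theorem jobNY : JobNY := fun na n F _ _ _ _ _ p _ _ _ _ K _ _ _ _ _ _ _ _ _ _ x m => by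
  have := Fintype.ofFinite K
  have h5 := p.five
  have hk := H54.SPF.two_kk (n := n) (F := K)
  have h1 : 1 < Nat.card F := Finite.one_lt_card
  refine ⟨fun e => (na (XU n K) (UU n K) (Or.inr (Or.inl ⟨K, _, this, inferInstance, kk n, by omega,
    fun h => by omega, FA.psp⟩)) FW.sylU.2.1 ?_ m).false
      ((((QuotientGroup.quotientMulEquivOfEq cen_bot).trans QuotientGroup.quotientBot).symm).trans e)⟩
  rw [FW.cardU, x.card, ← pow_mul]
  by_cases h : n = 5
  · calc 2 ^ 20 ≤ 4 ^ (2 * kk n ^ 2) := by rw [show kk n = 3 by omega]; norm_num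
      _ ≤ _ := Nat.pow_le_pow_left (p.four h) _
  · calc 2 ^ 20 ≤ 2 ^ (2 * kk n ^ 2) := Nat.pow_le_pow_right two_pos (by
          have : 4 ≤ kk n := by omega
          nlinarith)
      _ ≤ _ := Nat.pow_le_pow_left h1 _

end Two

end H54.YS
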