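import Cfsg.Agent.H54.YSNB
import Cfsg.Agent.H44.YEa
import Cfsg.Agent.H49.YSHQ
import Cfsg.Agent.H76.YSGN
import Cfsg.Agent.H96.YSBI
import Cfsg.Agent.H38.YSMC
import Cfsg.Agent.H37.YSRNZ
import Cfsg.Agent.H57.YSRD
import Cfsg.Agent.H60.YsRS
import Cfsg.Agent.H94.YSRB

/-! STD-SP (row S3129), endgame: all facts on the symplectic model. -/

set_option autoImplicit false

namespace H54.YS

theorem jobMS : H64.YE.JobMS :=
  jobMS_of H44.YE.jobNA jobKT jobQS jobEP H76.YSGN.jobGN jobM1 jobM2 H96.YS.jobBI jobNY H96.YS.jobMI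
    H38.YS.jobMC H57.YSRD.jobRD H60.YRS.jobRS H37.YSRNZ.jobRN H37.YSRNZ.jobRZ jobNB H49.YSHQ.jobHQ
    H94.YS.jobRB

end H54.YS
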