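import Cfsg.Agent.H54.YSA

/-! STD-SP (row S3129), endgame, symplectic model: `P / Q` is simple. -/

set_option autoImplicit false
set_option linter.unusedSectionVars false

namespace H54.YS

open H64.SG (Ns)
open Subgroup H67.SP
open H67.UA hiding Par Base FV FW
open H67.SA (la)
open H54.SPI

variable {n : ℕ} {K : Type} [Field K] [StarRing K] [TrivialStar K] [CharP K 2] [Finite K]
  [p : Par n K]

theorem exists_res : ∃ (m : ℕ) (f : SS n K →* Matrix.symplecticGroup (Fin m) K),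
    Function.Bijective f := by
  have d := du_ev (n := n) (F := K)
  let W : Submodule K (Vn n K) :=
    LinearMap.ker (BB n K (ev 0)) ⊓ LinearMap.ker (BB n K (ev (la n)))
  have hW : ∀ {v}, v ∈ W ↔ hf (ev 0) v = 0 ∧ hf (ev (la n)) v = 0 := Iff.rfl
  have nd : ((BB n K).restrict W).Nondegenerate := by
    have : ∀ u : W, (∀ v : W, hf u.1 v.1 = 0) → u = 0 := fun u hu => Subtype.ext (by
      have := d.span (w := u.1) fun z a b => hu ⟨z, a, b⟩
      rw [this, H86.SPI.hf_comm, (hW.1 u.2).2, H86.SPI.hf_comm, (hW.1 u.2).1]; simp)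
    exact ⟨this, fun u hu => this u fun v => by rw [H86.SPI.hf_comm]; exact hu v⟩
  have alt : ((BB n K).restrict W).IsAlt := fun w => H86.SPI.hf_self w.1
  have hg : ∀ g : SS n K, ∀ w ∈ W, Matrix.mulVecLin (mt g.1) w ∈ W := fun g w hw =>
    hW.2 ⟨by rw [← mem_Stab.1 g.2.1]; exact (hf_ac g.1 _ w).trans (hW.1 hw).1,
      by rw [← mem_Stab.1 g.2.2]; exact (hf_ac g.1 _ w).trans (hW.1 hw).2⟩
  let r : SS n K →* Isom ((BB n K).restrict W) := MonoidHom.mk'
    (fun g => isomOfLin nd ((Matrix.mulVecLin (mt g.1)).restrict (hg g))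
      fun u v => hf_ac g.1 u.1 v.1) fun a b => Isom_ext fun v => Subtype.ext (ac_mul a.1 b.1 v.1)
  have hr : ∀ g (v : W), (r g • v : W).1 = ac g.1 v.1 := fun _ _ => rfl
  obtain ⟨m, φ, -, hφ⟩ := exists_isometry_std nd alt
  refine ⟨m, (isomEquivSp φ hφ).toMonoidHom.comp r, (isomEquivSp φ hφ).bijective.comp
    ⟨fun a b e => Subtype.ext (d.ext (fun z h h' => ?_) (a.2.2.trans b.2.2.symm)
      (a.2.1.trans b.2.1.symm)),
    MonoidHom.range_eq_top.1 (isom_eq_top_of_tvV_mem nd alt _ fun v c => ⟨⟨Tc c v.1, ?_, ?_⟩,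
      Isom_ext fun w => Subtype.ext (by rw [hr, ac_T, tvV_smul]; rfl)⟩)⟩⟩
  · rw [← hr a ⟨z, h, h'⟩, e, hr]
  · exact mem_Stab.2 (by rw [ac_T, (hW.1 v.2).1]; simp)
  · exact mem_Stab.2 (by rw [ac_T, (hW.1 v.2).2]; simp)

theorem jobNB : JobNB := fun n K _ _ _ _ _ _ _ _ _ _ N h1 _ h3 => by
  obtain ⟨m, f, hf⟩ := exists_res (n := n) (K := K)
  have : Fact (Nat.Prime 2) := ⟨Nat.prime_two⟩
  have hn : (N.subgroupOf (SS n K)).Normal := ⟨fun a ha g =>
    H98.conj_mem_of_mem_normalizer (H := N) (h3 g.2.1) ha⟩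
  have := hn.map f hf.2
  refine (sp_normal_le_center_or_commutator_le ((N.subgroupOf (SS n K)).map f)).imp
    (fun h g hg => ?_) fun h g hg => ?_
  · obtain ⟨u, hu, s, hs, rfl⟩ := FW.ps g (‹N ≤ _› hg)
    have := eq_one_of_mem_center_of_pow (p := 2)
      (h ⟨⟨s, hs⟩, (mul_mem_cancel_left (h1 hu)).1 hg, rfl⟩) (Or.inr rfl)
    rw [show s = 1 from congrArg Subtype.val (hf.1 (this.trans f.map_one.symm)), mul_one]
    exact hu
  · obtain ⟨u, hu, s, hs, rfl⟩ := FW.ps g hg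
    refine mul_mem (h1 hu) ((commutator_le.2 fun a ha b hb => ?_ : _ ≤ N) (FR.perfS hs))
    obtain ⟨c, hc, e⟩ := h (commutator_mem_commutator (mem_top (f ⟨a, ha⟩)) (mem_top (f ⟨b, hb⟩)))
    rw [← map_commutatorElement] at e
    exact (hf.1 e ▸ hc : _ ∈ N.subgroupOf (SS n K))

end H54.YS
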