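import Cfsg.Agent.H64.YEMod
import Cfsg.Agent.H59.SPFV
import Cfsg.Agent.H54.SPFA
import Cfsg.Agent.H72.SPFR
import Cfsg.Agent.H37.SPPC
import Cfsg.Agent.H62.SPFC
import Cfsg.Agent.H26.SPFO
import Cfsg.Agent.H86.SPIKit

/-! STD-SP (row S3129), endgame: the slots for the symplectic model `Y = Sp_(2k)(q²)`.
Notes: `blueprints/YS.md`. -/

set_option autoImplicit false
set_option linter.unusedSectionVars false

namespace H54.YS

open H64.SG (O2 Syl Cz Cs Ns cjs Is2 Inv2 IsO2 fx)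
open Subgroup H67.SP H64.YE
open H67.UA hiding Par Base FV FW
open H67.SA (cm St la)

section Kit

variable (n : ℕ) (K : Type) [Field K] [StarRing K] [TrivialStar K] [CharP K 2] [Finite K]

/-- Small facts used by several slots. -/
class KT : Prop where
  cz : Cs (ZL n K) = PP n K
  up : UU n K ≤ PP n K
  qu : QQ n K ≤ UU n K
  nq : PP n K ≤ Ns (QQ n K)
  /-- `EE e₀ y c ∈ Z` -/
  ez : ∀ (y : Vn n K) c, hf y (ev 0) = 0 → (EE (ev 0) y c ∈ ZL n K ↔ ¬ Li (ev 0) y)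
  li : ∀ y : Vn n K, Hy y → y ≠ 0 → Li (ev 0) y
  nli : ∀ y : Vn n K, ¬ Li (ev 0) y ↔ ∃ a : K, y = a • ev 0
  /-- `P` is transitive on `e₀^⊥ ∖ ⟨e₀⟩` -/
  tp : ∀ u v : Vn n K, hf u (ev 0) = 0 → hf v (ev 0) = 0 → Li (ev 0) u → Li (ev 0) v →
    ∃ p ∈ PP n K, ac p u = v
  gP1 : ∀ A : Subgroup (XU n K), (∀ v, hf v (ev 0) = 0 → Li (ev 0) v → TT v ∈ A) → PP n K ≤ A
  gP2 : ∀ A : Subgroup (XU n K), PP n K ≤ A → ∀ s ∈ A, hf (ac s (ev 0)) (ev 0) = 0 →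
    Li (ev 0) (ac s (ev 0)) → A = ⊤
  /-- the automorphisms that map `TT e₀` into `Z` -/
  sz : ∀ α : MulAut (XU n K), α (xb n K) ∈ ZL n K → ∃ g σ, ∃ l : K, l ≠ 0 ∧
    ac g (ev 0) = l • ev 0 ∧ α = MulAut.conj g * fs n K σ

end Kit

/-- A statement on one symplectic group. -/
def AllK (P : ∀ (_ : ℕ) (K : Type) [Field K] [StarRing K] [TrivialStar K] [CharP K 2] [Finite K],
    Prop) : Prop :=
  AllM fun n K _ _ _ _ _ => KT n K → P n K

/-- A statement on `Sp_(2k)(q) ≤ Sp_(2k)(q²)`; all facts hold for both groups. -/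
def AllT (P : ∀ (_ : ℕ) (F : Type) [Field F] [StarRing F] [TrivialStar F] [CharP F 2] [Finite F]
    (K : Type) [Field K] [StarRing K] [TrivialStar K] [CharP K 2] [Finite K] (_ : Qx F K), Prop) :
    Prop :=
  AllK fun n F _ _ _ _ _ => ∀ (K : Type) [Field K] [StarRing K] [TrivialStar K] [CharP K 2]
    [Finite K] [Par n K], Base n K → FC n K → FO n K → KT n K → ∀ x : Qx F K, P n F K x

section Abbrev

variable (n : ℕ) {F : Type} [Field F] [StarRing F] [TrivialStar F] [CharP F 2] [Finite F]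
  {K : Type} [Field K] [StarRing K] [TrivialStar K] [CharP K 2] [Finite K] (x : Qx F K)

/-- `ι = bc x.φ` -/
abbrev iT : XU n F →* XU n K := iS n x star_trivial
/-- `τ = fs σ` -/
abbrev tT : MulAut (XU n K) := fs n K x.σ

theorem tS_eq : tS n x star_trivial = tT n x := rfl

/-- the image of a rational vector -/
def vx (v : Vn n F) : Vn n K := fun i => x.φ (v i)

theorem vx_add (v w : Vn n F) : vx n x (v + w) = vx n x v + vx n x w :=
  funext fun _ => map_add x.φ _ _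
theorem vx_smul (a : F) (v : Vn n F) : vx n x (a • v) = x.φ a • vx n x v :=
  funext fun _ => map_mul x.φ _ _
theorem vx_zero : vx n x 0 = 0 := funext fun _ => map_zero x.φ
theorem vx_ev (i : Fin (n + 1)) : vx n x (ev i) = ev i := funext fun j => by
  simp only [vx, ev_apply]; split_ifs <;> simp
theorem ac_iT (g : XU n F) (v : Vn n F) : ac (iT n x g) (vx n x v) = vx n x (ac g v) :=
  funext fun i => by simp [ac, mt_bc, vx, Matrix.mulVec, dotProduct]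
theorem hf_vx (v w : Vn n F) : hf (vx n x v) (vx n x w) = x.φ (hf v w) := by simp [hf, vx]

theorem iT_EE [FV n F] [FV n K] {u y : Vn n F} (h : hf y u = 0) (c : F) :
    iT n x (EE u y c) = EE (vx n x u) (vx n x y) (x.φ c) :=
  X_ext (Matrix.ext fun i j => by
    rw [← ac_ev, ← ac_ev, ← vx_ev n x j, ac_iT, ac_EE (FV.ok u y c h),
      ac_EE (FV.ok _ _ _ (by rw [hf_vx, h, map_zero]))]
    simp only [vx_add, vx_smul, hf_vx, map_mul])

theorem iT_Tc [FV n F] [FV n K] (u : Vn n F) (c : F) :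
    iT n x (Tc c u) = Tc (x.φ c) (vx n x u) := by
  rw [Tc, iT_EE n x (hf_zero_left u), vx_zero]

theorem iT_TT [FV n F] [FV n K] (u : Vn n F) : iT n x (TT u) = TT (vx n x u) := by
  rw [TT, iT_Tc, map_one]

theorem tT_iT (g : XU n F) : tT n x (iT n x g) = iT n x g :=
  X_ext (Matrix.ext fun _ _ => (x.fix _).2 ⟨_, rfl⟩)

/-- `P` is generated by conjugates of rational involutions. -/
def EP : Prop := ∀ B, PP n K ≤ B → PP n K ≤ EG (iT n x) (fun _ => True) B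

end Abbrev

def JobKT : Prop := AllM fun n K _ _ _ _ _ => KT n K
def JobQS : Prop := AllK fun n K _ _ _ _ _ => QS (XU n K)
def JobEP : Prop := AllT fun n _ _ _ _ _ _ _ _ _ _ _ _ x => EP n x
/-- `M1.gen` -/
def JobGN : Prop := AllT fun n _ _ _ _ _ _ _ _ _ _ _ _ x =>
  ∃ a u, a * (tT n x a)⁻¹ = iT n x u ∧ (iT n x).range ⊔ cjs a (iT n x).range = ⊤
def JobM1 : Prop := AllT fun n _ _ _ _ _ _ K _ _ _ _ _ x =>
  (∃ a u, a * (tT n x a)⁻¹ = iT n x u ∧ (iT n x).range ⊔ cjs a (iT n x).range = ⊤) →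
    M1 (iT n x) (tT n x) (UU n K)
def JobM2 : Prop := AllT fun n _ _ _ _ _ _ _ _ _ _ _ _ x =>
  M2 (iT n x) (tT n x) (fun _ => True) ∧ M3 (iT n x) (tT n x) fun _ => True
def JobBI : Prop := AllT fun n F _ _ _ _ _ K _ _ _ _ _ _ => BigI n F (XU n K)
def JobNY : Prop := JobNA → AllT fun n _ _ _ _ _ _ K _ _ _ _ _ _ => NA (XU n K)
def JobMI : Prop := AllT fun n _ _ _ _ _ _ _ _ _ _ _ _ x => MIa (iT n x)
def JobMC : Prop := AllT fun n _ _ _ _ _ _ K _ _ _ _ _ x => EP n x →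
  MC (iT n x) (tT n x) (fun _ => True) (UU n K) (QQ n K)
def JobRD : Prop := AllT fun n _ _ _ _ _ _ K _ _ _ _ _ x => EP n x →
  RD (iT n x) (tT n x) (fun _ => True) (UU n K) (xb n K) (ZL n K) (QQ n K)
def JobRS : Prop := AllK fun n K _ _ _ _ _ => ∀ τ, RS τ (UU n K) (ZL n K) (QQ n K)
def JobRN : Prop := AllK fun n K _ _ _ _ _ => RN (xb n K) (ZL n K)
def JobRZ : Prop := AllK fun n K _ _ _ _ _ => ∀ τ, RZ τ (xb n K) (ZL n K) (QQ n K)
/-- `RB.nb` -/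
def JobNB : Prop := AllK fun n K _ _ _ _ _ => ∀ N, QQ n K ≤ N → N ≤ PP n K → PP n K ≤ Ns N →
  N ≤ QQ n K ∨ PP n K ≤ N
/-- `RB.hs` -/
def JobHQ : Prop := AllK fun n K _ _ _ _ _ => ∀ θ, H59.SO.AutOn (QQ n K) θ →
  (∀ z ∈ ZL n K, θ z = z) → (∀ x ∈ QQ n K, Ac x (θ x)) →
    ∃ p ∈ PP n K, ∀ x ∈ QQ n K, θ x * (p * x * p⁻¹)⁻¹ ∈ ZL n K
/-- `RB.tr`, `RB.ex`, `RB.mv` -/
def JobRB : Prop := AllK fun n K _ _ _ _ _ =>
  (∀ x ∈ QQ n K, ∀ y ∈ QQ n K, x ∉ ZL n K → y ∉ ZL n K → ∃ p ∈ PP n K, p * x * p⁻¹ * y⁻¹ ∈ ZL n K) ∧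
  (∃ u ∈ UU n K, u * u = 1 ∧ u ∉ QQ n K) ∧
  (∃ p ∈ PP n K, ∃ x ∈ QQ n K, ∃ y ∈ QQ n K, x ∉ ZL n K ∧ cm p x ∈ ZL n K ∧ cm p y ∉ ZL n K) ∧
  ∀ x ∈ QQ n K, x * x = 1

theorem facts (n : ℕ) (K : Type) [Field K] [StarRing K] [TrivialStar K] [CharP K 2] [Finite K]
    [Par n K] : Base n K ∧ FC n K ∧ FO n K := by
  have v := H59.SPV.jobFV n K
  have w := H54.SPF.jobFW n K v
  have a := H54.SPF.jobFA n K v w
  have r := H72.SPF.jobFR n K v w a
  have b : Base n K := { v, w, a, r with }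
  exact ⟨b, H62.SPFC.jobFC n K b (H37.SP.jobPC n K b), H26.SP.jobFO n K b⟩

theorem jobMS_of (na : JobNA) (kt : JobKT) (qs : JobQS) (ep : JobEP) (gn : JobGN) (m1 : JobM1)
    (m2 : JobM2) (bi : JobBI) (ny : JobNY) (mi : JobMI) (mc : JobMC) (rd : JobRD) (rs : JobRS)
    (rn : JobRN) (rz : JobRZ) (nb : JobNB) (hq : JobHQ) (rb : JobRB) : H64.YE.JobMS := by
  intro n F _ _ _ _ _ p b c o K _ _ _ _ x h
  have : TrivialStar K := ⟨h⟩
  have : Par n K := ⟨p.odd, p.five, fun h5 => by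
    have := p.four h5
    rw [x.card]; nlinarith⟩
  obtain ⟨b', c', o'⟩ := facts n K
  have k := kt n F b c o
  have k' := kt n K b' c' o'
  have e := ep n F b c o k K b' c' o' k' x
  obtain ⟨r1, r2, r3, r4⟩ := rb n K b' c' o' k'
  obtain ⟨s2, s3⟩ := m2 n F b c o k K b' c' o' k' x
  refine ⟨UU n K, ⟨m1 n F b c o k K b' c' o' k' x (gn n F b c o k K b' c' o' k' x), s2,
    qs n K b' c' o' k', s3⟩, Or.inl ⟨bi n F b c o k K b' c' o' k' x,
    ny na n F b c o k K b' c' o' k' x, mi n F b c o k K b' c' o' k' x, xb n K, ZL n K, QQ n K,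
    mc n F b c o k K b' c' o' k' x e, rd n F b c o k K b' c' o' k' x e, rs n K b' c' o' k' _, ?_,
    rn n K b' c' o' k', rz n K b' c' o' k' _⟩⟩
  refine ⟨?_, ?_, r2, ?_, r4, ?_⟩ <;> rw [k'.cz]
  exacts [r1, nb n K b' c' o' k', r3, hq n K b' c' o' k']

end H54.YS
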